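import Cfsg.Agent.Lib.Cores.Basic
import Mathlib.GroupTheory.IsSubnormal

/-!
The Fitting subgroup of a finite group.
-/

namespace CfsgLib.Cores

open Subgroup Cfsg

variable {G : Type*} [Group G] {H : Type*} [Group H]

theorem fittingSubgroup_normal : (fittingSubgroup G).Normal :=
  Subgroup.sSup_normal _ fun _ h => h.1

theorem le_fittingSubgroup {N : Subgroup G} [hn : N.Normal] (hN : Group.IsNilpotent N) :
    N ≤ fittingSubgroup G :=
  le_sSup ⟨hn, hN⟩

theorem fittingSubgroup_le_iff {K : Subgroup G} :
    fittingSubgroup G ≤ K ↔ ∀ N : Subgroup G, N.Normal → Group.IsNilpotent N → N ≤ K := by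
  simp [fittingSubgroup, sSup_le_iff]

theorem isNilpotent_map {K : Subgroup G} (hK : Group.IsNilpotent K) (f : G →* H) :
    Group.IsNilpotent (K.map f) :=
  Group.nilpotent_of_surjective (f.subgroupMap K) (f.subgroupMap_surjective K)

theorem pCore_le_fittingSubgroup [Finite G] (p : ℕ) [Fact p.Prime] :
    pCore p G ≤ fittingSubgroup G :=
  le_fittingSubgroup (isPGroup_pCore p).isNilpotent

theorem fittingSubgroup_le_iSup_pCore [Finite G] :
    fittingSubgroup G ≤ ⨆ p : (Nat.card G).primeFactors, pCore p G := by
  rw [fittingSubgroup_le_iff]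
  intro N hN hnil
  have key : ∀ (p : ℕ) (hp : Fact p.Prime) (P : Sylow p N),
      (P : Subgroup N).map N.subtype ≤ ⨆ q : (Nat.card G).primeFactors, pCore q G := by
    intro p hp P
    by_cases hpG : p ∈ (Nat.card G).primeFactors
    · refine le_trans ?_ (le_iSup (fun q : (Nat.card G).primeFactors => pCore q G) ⟨p, hpG⟩)
      have hP : (P : Subgroup N).Normal := inferInstance
      exact (map_mono (le_pCore P.2)).trans (map_subtype_pCore_le_of_normal p N)
    · have h1 : Nat.card (P : Subgroup N) = 1 := by
        rcases P.2.card_eq_or_dvd with h | h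
        · exact h
        · exact absurd (Nat.mem_primeFactors.2 ⟨hp.out,
            h.trans ((Subgroup.card_subgroup_dvd_card _).trans (Subgroup.card_subgroup_dvd_card N)),
            Nat.card_pos.ne'⟩) hpG
      rw [Subgroup.eq_bot_of_card_eq _ h1, Subgroup.map_bot]
      exact bot_le
  set T := (⨆ q : (Nat.card G).primeFactors, pCore q G).subgroupOf N with hT
  have hidx : T.index = 1 := by
    by_contra hne
    obtain ⟨p, hp, hdvd⟩ := Nat.exists_prime_and_dvd hne
    have : Fact p.Prime := ⟨hp⟩
    obtain ⟨P⟩ : Nonempty (Sylow p N) := inferInstance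
    have hle : (P : Subgroup N) ≤ T := fun x hx => key p this P ⟨x, hx, rfl⟩
    exact Sylow.not_dvd_index P (hdvd.trans (Subgroup.index_dvd_of_le hle))
  rw [Subgroup.index_eq_one, hT, Subgroup.subgroupOf_eq_top] at hidx
  exact hidx

theorem iSup_pCore_le_fittingSubgroup [Finite G] :
    ⨆ p : (Nat.card G).primeFactors, pCore p G ≤ fittingSubgroup G :=
  iSup_le fun p => by
    have : Fact (p : ℕ).Prime := ⟨Nat.prime_of_mem_primeFactors p.2⟩
    exact pCore_le_fittingSubgroup p

theorem fittingSubgroup_eq_iSup_pCore [Finite G] :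
    fittingSubgroup G = ⨆ p : (Nat.card G).primeFactors, pCore p G :=
  le_antisymm fittingSubgroup_le_iSup_pCore iSup_pCore_le_fittingSubgroup

/-- Fitting's theorem for finite groups. -/
theorem isNilpotent_fittingSubgroup [Finite G] : Group.IsNilpotent (fittingSubgroup G) := by
  rw [fittingSubgroup_eq_iSup_pCore]
  have hprime : ∀ p : (Nat.card G).primeFactors, Fact (p : ℕ).Prime :=
    fun p => ⟨Nat.prime_of_mem_primeFactors p.2⟩
  have hcomm : Pairwise fun p q : (Nat.card G).primeFactors =>
      ∀ x y : G, x ∈ pCore (p : ℕ) G → y ∈ pCore (q : ℕ) G → Commute x y :=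
    fun p q hne x y hx hy => commute_pCore_of_ne (fun h => hne (Subtype.ext h)) hx hy
  have : ∀ p : (Nat.card G).primeFactors, Group.IsNilpotent (pCore (p : ℕ) G) :=
    fun p => (isPGroup_pCore _).isNilpotent
  rw [← Subgroup.noncommPiCoprod_range (H := fun p : (Nat.card G).primeFactors => pCore (p : ℕ) G) (hcomm := hcomm)]
  exact Group.nilpotent_of_surjective _ (MonoidHom.rangeRestrict_surjective _)

theorem map_fittingSubgroup_le (f : G →* H) (hf : Function.Surjective f) :
    (fittingSubgroup G).map f ≤ fittingSubgroup H := by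
  rw [Subgroup.map_le_iff_le_comap, fittingSubgroup_le_iff]
  intro N hN hnil
  have := hN.map f hf
  exact Subgroup.map_le_iff_le_comap.1 (le_fittingSubgroup (isNilpotent_map hnil f))

theorem map_fittingSubgroup_equiv (e : G ≃* H) :
    (fittingSubgroup G).map e.toMonoidHom = fittingSubgroup H := by
  refine le_antisymm (map_fittingSubgroup_le _ e.surjective) ?_
  have := Subgroup.map_mono (f := e.toMonoidHom)
    (map_fittingSubgroup_le e.symm.toMonoidHom e.symm.surjective)
  rwa [Subgroup.map_map, show e.toMonoidHom.comp e.symm.toMonoidHom = MonoidHom.id H from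
    MonoidHom.ext fun x => e.apply_symm_apply x, Subgroup.map_id] at this

theorem fittingSubgroup_characteristic : (fittingSubgroup G).Characteristic :=
  Subgroup.characteristic_iff_map_eq.2 fun e => map_fittingSubgroup_equiv e

theorem map_subtype_fittingSubgroup_normal (N : Subgroup G) [N.Normal] :
    ((fittingSubgroup N).map N.subtype).Normal := by
  have := fittingSubgroup_characteristic (G := N)
  infer_instance

theorem map_subtype_fittingSubgroup_le_of_normal [Finite G] (N : Subgroup G) [N.Normal] :
    (fittingSubgroup N).map N.subtype ≤ fittingSubgroup G := by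
  have := map_subtype_fittingSubgroup_normal N
  exact le_fittingSubgroup (isNilpotent_map isNilpotent_fittingSubgroup _)

theorem fittingSubgroup_inf_le [Finite G] (N : Subgroup G) :
    fittingSubgroup G ⊓ N ≤ (fittingSubgroup N).map N.subtype := by
  rw [← Subgroup.subgroupOf_map_subtype]
  refine Subgroup.map_mono ?_
  have := fittingSubgroup_normal (G := G)
  have : Group.IsNilpotent (fittingSubgroup G) := isNilpotent_fittingSubgroup
  have h1 : Group.IsNilpotent ((N ⊓ fittingSubgroup G).subgroupOf (fittingSubgroup G)) := inferInstance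
  apply le_fittingSubgroup
  let f : ((fittingSubgroup G).subgroupOf N) →* fittingSubgroup G :=
    (N.subtype.comp ((fittingSubgroup G).subgroupOf N).subtype).codRestrict _ fun x => x.2
  have hf : Function.Injective f := fun x y h => by
    have h' := congrArg Subtype.val h
    exact Subtype.ext (Subtype.ext h')
  exact Group.nilpotent_of_mulEquiv (MonoidHom.ofInjective hf).symm

theorem fittingSubgroup_of_normal [Finite G] (N : Subgroup G) [N.Normal] :
    (fittingSubgroup N).map N.subtype = fittingSubgroup G ⊓ N :=
  le_antisymm (le_inf (map_subtype_fittingSubgroup_le_of_normal N) (Subgroup.map_subtype_le _))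
    (fittingSubgroup_inf_le N)

/-- A subnormal nilpotent subgroup lies in the Fitting subgroup. -/
theorem le_fittingSubgroup_of_isSubnormal [Finite G] {K : Subgroup G} (hs : K.IsSubnormal)
    (hnil : Group.IsNilpotent K) : K ≤ fittingSubgroup G := by
  suffices h : (fittingSubgroup K).map K.subtype ≤ fittingSubgroup G by
    intro x hx
    refine h ⟨⟨x, hx⟩, ?_, rfl⟩
    have : Group.IsNilpotent (⊤ : Subgroup K) := Group.nilpotent_of_mulEquiv Subgroup.topEquiv.symm
    exact le_fittingSubgroup this (Subgroup.mem_top _)
  clear hnil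
  induction hs with
  | top =>
    exact map_fittingSubgroup_le _ (fun x => ⟨⟨x, trivial⟩, rfl⟩)
  | step A B h_le _ hN ih =>
    refine le_trans ?_ ih
    have h1 := map_subtype_fittingSubgroup_le_of_normal (A.subgroupOf B)
    have h2 : (fittingSubgroup A) =
        (fittingSubgroup (A.subgroupOf B)).map (Subgroup.subgroupOfEquivOfLe h_le).toMonoidHom :=
      (map_fittingSubgroup_equiv _).symm
    rw [h2, Subgroup.map_map]
    refine le_of_eq_of_le ?_ (Subgroup.map_mono (f := B.subtype) h1)
    rw [Subgroup.map_map]
    congr 1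

theorem fittingSubgroup_eq_bot_iff_pCore [Finite G] :
    fittingSubgroup G = ⊥ ↔ ∀ p : ℕ, p.Prime → pCore p G = ⊥ := by
  constructor
  · intro h p hp
    have : Fact p.Prime := ⟨hp⟩
    exact le_bot_iff.1 (h ▸ pCore_le_fittingSubgroup p)
  · intro h
    rw [fittingSubgroup_eq_iSup_pCore, iSup_eq_bot]
    exact fun p => h p (Nat.prime_of_mem_primeFactors p.2)

end CfsgLib.Cores
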