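import Cfsg.Prelude.Def_CaseTheorems
import Cfsg.Prelude.Def_Solvable
import Mathlib.GroupTheory.NoncommPiCoprod
import Mathlib.GroupTheory.Nilpotent
import Mathlib.GroupTheory.Sylow

/-!
Basic API for `Cfsg.pCore`, `Cfsg.pPrimeCore`, `Cfsg.oddCore`.
-/

namespace CfsgLib.Cores

open Subgroup Cfsg

variable {G : Type*} [Group G] {H : Type*} [Group H]

/-- A property closed under joins of two normal subgroups passes to the join of any set of normal
subgroups of a finite group. -/
theorem sSup_normal_induction [Finite G] (P : Subgroup G → Prop) (hbot : P ⊥)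
    (hsup : ∀ N M : Subgroup G, N.Normal → M.Normal → P N → P M → P (N ⊔ M))
    (S : Set (Subgroup G)) (hS : ∀ N ∈ S, N.Normal ∧ P N) : P (sSup S) := by
  suffices h : (sSup S).Normal ∧ P (sSup S) from h.2
  induction S, S.toFinite using Set.Finite.induction_on with
  | empty => simp only [sSup_empty]; exact ⟨inferInstance, hbot⟩
  | @insert a T _ _ ih =>
    rw [sSup_insert]
    obtain ⟨hn, hp⟩ := ih fun N hN => hS N (Set.mem_insert_of_mem _ hN)
    obtain ⟨han, hap⟩ := hS a (Set.mem_insert _ _)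
    exact ⟨Subgroup.sup_normal a (sSup T), hsup _ _ han hn hap hp⟩

theorem card_sup_dvd_mul (N M : Subgroup G) [N.Normal] :
    Nat.card ↥(N ⊔ M) ∣ Nat.card N * Nat.card M := by
  have h1 : Nat.card N * N.relIndex (N ⊔ M) = Nat.card ↥(N ⊔ M) := by
    rw [← Subgroup.relIndex_bot_left N, ← Subgroup.relIndex_bot_left (N ⊔ M)]
    exact Subgroup.relIndex_mul_relIndex ⊥ N (N ⊔ M) bot_le le_sup_left
  rw [← h1, Subgroup.relIndex_sup_left]
  exact Nat.mul_dvd_mul_left _ (Subgroup.relIndex_dvd_card N M)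

/-! ### pCore -/

theorem le_pCore {p : ℕ} {N : Subgroup G} [hn : N.Normal] (hN : IsPGroup p N) : N ≤ pCore p G :=
  le_sSup ⟨hn, hN⟩

theorem isPGroup_pCore [Finite G] (p : ℕ) : IsPGroup p (pCore p G) :=
  sSup_normal_induction (fun N => IsPGroup p N) IsPGroup.of_bot
    (fun _ _ hN _ hpN hpM => @IsPGroup.to_sup_of_normal_left _ _ _ _ _ hpN hpM hN) _
    (fun _ h => h)

theorem pCore_le_iff {p : ℕ} {K : Subgroup G} :
    pCore p G ≤ K ↔ ∀ N : Subgroup G, N.Normal → IsPGroup p N → N ≤ K := by
  simp [pCore, sSup_le_iff]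

theorem pCore_le_sylow [Finite G] {p : ℕ} [Fact p.Prime] (P : Sylow p G) :
    pCore p G ≤ (P : Subgroup G) := by
  have h := P.2
  have hsup : IsPGroup p ↥(pCore p G ⊔ (P : Subgroup G)) :=
    (isPGroup_pCore p).to_sup_of_normal_left h
  exact le_sup_left.trans (P.3 hsup le_sup_right).le

theorem card_pCore_eq_pow [Finite G] (p : ℕ) [Fact p.Prime] :
    ∃ n, Nat.card (pCore p G) = p ^ n :=
  IsPGroup.iff_card.mp (isPGroup_pCore p)

theorem pCore_eq_of_normal_sylow [Finite G] {p : ℕ} [Fact p.Prime] (P : Sylow p G)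
    [(P : Subgroup G).Normal] : pCore p G = (P : Subgroup G) :=
  le_antisymm (pCore_le_sylow P) (le_pCore P.2)

theorem pCore_eq_bot_iff [Finite G] {p : ℕ} :
    pCore p G = ⊥ ↔ ∀ N : Subgroup G, N.Normal → IsPGroup p N → N = ⊥ := by
  simp only [← le_bot_iff, pCore_le_iff]

/-! ### pPrimeCore -/

theorem le_pPrimeCore {p : ℕ} {N : Subgroup G} [hn : N.Normal] (hN : (Nat.card N).Coprime p) :
    N ≤ pPrimeCore p G :=
  le_sSup ⟨hn, hN⟩

theorem coprime_card_pPrimeCore [Finite G] (p : ℕ) : (Nat.card (pPrimeCore p G)).Coprime p :=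
  sSup_normal_induction (fun N => (Nat.card N).Coprime p) (by simp)
    (fun N M _ _ hN hM => Nat.Coprime.coprime_dvd_left (card_sup_dvd_mul N M) (Nat.Coprime.mul_left hN hM))
    _ (fun _ h => h)

theorem pPrimeCore_le_iff {p : ℕ} {K : Subgroup G} :
    pPrimeCore p G ≤ K ↔ ∀ N : Subgroup G, N.Normal → (Nat.card N).Coprime p → N ≤ K := by
  simp [pPrimeCore, sSup_le_iff]

theorem coprime_iff_not_dvd {p : ℕ} (hp : p.Prime) (n : ℕ) : n.Coprime p ↔ ¬ p ∣ n := by
  rw [Nat.coprime_comm, hp.coprime_iff_not_dvd]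

theorem not_dvd_card_pPrimeCore [Finite G] (p : ℕ) [hp : Fact p.Prime] :
    ¬ p ∣ Nat.card (pPrimeCore p G) :=
  (coprime_iff_not_dvd hp.out _).1 (coprime_card_pPrimeCore p)

theorem le_pPrimeCore_of_not_dvd {p : ℕ} [hp : Fact p.Prime] {N : Subgroup G} [N.Normal]
    (hN : ¬ p ∣ Nat.card N) : N ≤ pPrimeCore p G :=
  le_pPrimeCore ((coprime_iff_not_dvd hp.out _).2 hN)

theorem pPrimeCore_eq_bot_iff {p : ℕ} :
    pPrimeCore p G = ⊥ ↔ ∀ N : Subgroup G, N.Normal → (Nat.card N).Coprime p → N = ⊥ := by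
  simp only [← le_bot_iff, pPrimeCore_le_iff]

theorem odd_card_oddCore [Finite G] : Odd (Nat.card (oddCore G)) :=
  Nat.coprime_two_right.1 (coprime_card_pPrimeCore 2)

theorem le_oddCore_of_odd {N : Subgroup G} [N.Normal] (hN : Odd (Nat.card N)) : N ≤ oddCore G :=
  le_pPrimeCore (Nat.coprime_two_right.2 hN)

theorem pPrimeCore_eq_top_iff [Finite G] {p : ℕ} :
    pPrimeCore p G = ⊤ ↔ (Nat.card G).Coprime p := by
  constructor
  · intro h
    have := coprime_card_pPrimeCore (G := G) p
    rwa [h, Subgroup.card_top] at this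
  · intro h
    exact top_le_iff.1 (le_pPrimeCore (by rwa [Subgroup.card_top]))

theorem pCore_eq_top_iff [Finite G] {p : ℕ} : pCore p G = ⊤ ↔ IsPGroup p G := by
  constructor
  · intro h
    have := isPGroup_pCore (G := G) p
    rw [h] at this
    exact this.of_equiv Subgroup.topEquiv
  · intro h
    exact top_le_iff.1 (le_pCore (h.to_subgroup ⊤))

/-! ### Disjointness and commutation -/

theorem pCore_inf_pPrimeCore [Finite G] (p : ℕ) [hp : Fact p.Prime] :
    pCore p G ⊓ pPrimeCore p G = ⊥ := by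
  obtain ⟨n, hn⟩ := card_pCore_eq_pow (G := G) p
  refine (Subgroup.disjoint_of_coprime_natCard ?_).eq_bot
  rw [hn]
  exact Nat.Coprime.pow_left n (coprime_card_pPrimeCore p).symm

theorem commutator_pCore_pPrimeCore [Finite G] (p : ℕ) [Fact p.Prime] :
    ⁅pCore p G, pPrimeCore p G⁆ = ⊥ :=
  le_bot_iff.1 ((Subgroup.commutator_le_inf _ _).trans (pCore_inf_pPrimeCore p).le)

theorem disjoint_pCore_of_ne [Finite G] {p q : ℕ} [Fact p.Prime] [Fact q.Prime] (h : p ≠ q) :
    Disjoint (pCore p G) (pCore q G) :=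
  IsPGroup.disjoint_of_ne p q h _ _ (isPGroup_pCore p) (isPGroup_pCore q)

theorem commute_pCore_of_ne [Finite G] {p q : ℕ} [Fact p.Prime] [Fact q.Prime] (h : p ≠ q)
    {x y : G} (hx : x ∈ pCore p G) (hy : y ∈ pCore q G) : Commute x y :=
  Subgroup.commute_of_normal_of_disjoint _ _ inferInstance inferInstance (disjoint_pCore_of_ne h) x y hx hy

/-! ### Functoriality -/

theorem map_pCore_le {p : ℕ} (f : G →* H) (hf : Function.Surjective f) :
    (pCore p G).map f ≤ pCore p H := by
  rw [Subgroup.map_le_iff_le_comap, pCore_le_iff]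
  intro N hN hp
  have := hN.map f hf
  exact Subgroup.map_le_iff_le_comap.1 (le_pCore (hp.map f))

theorem map_pPrimeCore_le {p : ℕ} (f : G →* H) (hf : Function.Surjective f) :
    (pPrimeCore p G).map f ≤ pPrimeCore p H := by
  rw [Subgroup.map_le_iff_le_comap, pPrimeCore_le_iff]
  intro N hN hp
  have := hN.map f hf
  exact Subgroup.map_le_iff_le_comap.1
    (le_pPrimeCore (hp.coprime_dvd_left (Subgroup.card_map_dvd N f)))

theorem map_pCore_equiv {p : ℕ} (e : G ≃* H) : (pCore p G).map e.toMonoidHom = pCore p H := by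
  refine le_antisymm (map_pCore_le _ e.surjective) ?_
  have := Subgroup.map_mono (f := e.toMonoidHom) (map_pCore_le (p := p) e.symm.toMonoidHom e.symm.surjective)
  rwa [Subgroup.map_map, show e.toMonoidHom.comp e.symm.toMonoidHom = MonoidHom.id H from
    MonoidHom.ext fun x => e.apply_symm_apply x, Subgroup.map_id] at this

theorem map_pPrimeCore_equiv {p : ℕ} (e : G ≃* H) :
    (pPrimeCore p G).map e.toMonoidHom = pPrimeCore p H := by
  refine le_antisymm (map_pPrimeCore_le _ e.surjective) ?_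
  have := Subgroup.map_mono (f := e.toMonoidHom) (map_pPrimeCore_le (p := p) e.symm.toMonoidHom e.symm.surjective)
  rwa [Subgroup.map_map, show e.toMonoidHom.comp e.symm.toMonoidHom = MonoidHom.id H from
    MonoidHom.ext fun x => e.apply_symm_apply x, Subgroup.map_id] at this

theorem pCore_characteristic (p : ℕ) : (pCore p G).Characteristic :=
  Subgroup.characteristic_iff_map_eq.2 fun e => map_pCore_equiv e

theorem pPrimeCore_characteristic (p : ℕ) : (pPrimeCore p G).Characteristic :=
  Subgroup.characteristic_iff_map_eq.2 fun e => map_pPrimeCore_equiv e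

/-! ### Normal and arbitrary subgroups -/

theorem pCore_subgroupOf_le [Finite G] (p : ℕ) (K : Subgroup G) :
    (pCore p G).subgroupOf K ≤ pCore p K :=
  le_pCore ((isPGroup_pCore p).comap_subtype)

theorem pCore_inf_le [Finite G] (p : ℕ) (K : Subgroup G) :
    pCore p G ⊓ K ≤ (pCore p K).map K.subtype := by
  rw [← Subgroup.subgroupOf_map_subtype]
  exact Subgroup.map_mono (pCore_subgroupOf_le p K)

theorem pPrimeCore_subgroupOf_le [Finite G] (p : ℕ) (K : Subgroup G) :
    (pPrimeCore p G).subgroupOf K ≤ pPrimeCore p K := by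
  apply le_pPrimeCore
  refine (coprime_card_pPrimeCore (G := G) p).coprime_dvd_left ?_
  rw [← Subgroup.card_map_of_injective K.subtype_injective, Subgroup.subgroupOf_map_subtype]
  exact Subgroup.card_dvd_of_le inf_le_left

theorem pPrimeCore_inf_le [Finite G] (p : ℕ) (K : Subgroup G) :
    pPrimeCore p G ⊓ K ≤ (pPrimeCore p K).map K.subtype := by
  rw [← Subgroup.subgroupOf_map_subtype]
  exact Subgroup.map_mono (pPrimeCore_subgroupOf_le p K)

theorem map_subtype_pCore_normal (p : ℕ) (N : Subgroup G) [N.Normal] :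
    ((pCore p N).map N.subtype).Normal := by
  have := pCore_characteristic (G := N) p
  infer_instance

theorem map_subtype_pPrimeCore_normal (p : ℕ) (N : Subgroup G) [N.Normal] :
    ((pPrimeCore p N).map N.subtype).Normal := by
  have := pPrimeCore_characteristic (G := N) p
  infer_instance

theorem pCore_of_normal [Finite G] (p : ℕ) (N : Subgroup G) [N.Normal] :
    (pCore p N).map N.subtype = pCore p G ⊓ N := by
  refine le_antisymm (le_inf ?_ (Subgroup.map_subtype_le _)) (pCore_inf_le p N)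
  have := map_subtype_pCore_normal p N
  exact le_pCore ((isPGroup_pCore p).map _)

theorem pPrimeCore_of_normal [Finite G] (p : ℕ) (N : Subgroup G) [N.Normal] :
    (pPrimeCore p N).map N.subtype = pPrimeCore p G ⊓ N := by
  refine le_antisymm (le_inf ?_ (Subgroup.map_subtype_le _)) (pPrimeCore_inf_le p N)
  have := map_subtype_pPrimeCore_normal p N
  apply le_pPrimeCore
  rw [Subgroup.card_map_of_injective N.subtype_injective]
  exact coprime_card_pPrimeCore p

theorem map_subtype_pPrimeCore_le_of_normal [Finite G] (p : ℕ) (N : Subgroup G) [N.Normal] :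
    (pPrimeCore p N).map N.subtype ≤ pPrimeCore p G :=
  (pPrimeCore_of_normal p N).trans_le inf_le_left

theorem map_subtype_pCore_le_of_normal [Finite G] (p : ℕ) (N : Subgroup G) [N.Normal] :
    (pCore p N).map N.subtype ≤ pCore p G :=
  (pCore_of_normal p N).trans_le inf_le_left

/-! ### Quotients -/

/-- Quotient by a normal `p'`-subgroup. -/
theorem map_mk'_pPrimeCore [Finite G] {p : ℕ} (N : Subgroup G) [N.Normal]
    (hN : N ≤ pPrimeCore p G) :
    (pPrimeCore p G).map (QuotientGroup.mk' N) = pPrimeCore p (G ⧸ N) := by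
  refine le_antisymm (map_pPrimeCore_le _ (QuotientGroup.mk'_surjective N)) ?_
  have hN' : (Nat.card N).Coprime p :=
    (coprime_card_pPrimeCore (G := G) p).coprime_dvd_left (Subgroup.card_dvd_of_le hN)
  set U := (pPrimeCore p (G ⧸ N)).comap (QuotientGroup.mk' N) with hU
  have hcard : Nat.card U = Nat.card N * Nat.card (pPrimeCore p (G ⧸ N)) := by
    have h1 : N ≤ U := by
      rw [hU]; exact le_trans (QuotientGroup.ker_mk' N).ge (Subgroup.ker_le_comap _ _)
    have h2 := Subgroup.relIndex_comap (⊥ : Subgroup (G ⧸ N)) (QuotientGroup.mk' N) U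
    rw [MonoidHom.comap_bot, QuotientGroup.ker_mk', hU,
      Subgroup.map_comap_eq_self_of_surjective (QuotientGroup.mk'_surjective N),
      Subgroup.relIndex_bot_left] at h2
    rw [← h2, hU, ← Subgroup.relIndex_bot_left N, Subgroup.relIndex_mul_relIndex ⊥ N _ bot_le h1,
      Subgroup.relIndex_bot_left]
  have hU' : U ≤ pPrimeCore p G := by
    apply le_pPrimeCore
    rw [hcard]
    exact Nat.Coprime.mul_left hN' (coprime_card_pPrimeCore p)
  have := Subgroup.map_mono (f := QuotientGroup.mk' N) hU'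
  rwa [hU, Subgroup.map_comap_eq_self_of_surjective (QuotientGroup.mk'_surjective N)] at this

theorem pPrimeCore_quotient_self [Finite G] (p : ℕ) :
    pPrimeCore p (G ⧸ pPrimeCore p G) = ⊥ := by
  rw [← map_mk'_pPrimeCore _ le_rfl, QuotientGroup.map_mk'_self]

theorem map_mk'_pCore [Finite G] {p : ℕ} (N : Subgroup G) [N.Normal] (hN : N ≤ pCore p G) :
    (pCore p G).map (QuotientGroup.mk' N) = pCore p (G ⧸ N) := by
  refine le_antisymm (map_pCore_le _ (QuotientGroup.mk'_surjective N)) ?_
  have hU' : (pCore p (G ⧸ N)).comap (QuotientGroup.mk' N) ≤ pCore p G := by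
    apply le_pCore
    refine (isPGroup_pCore p).comap_of_ker_isPGroup _ ?_
    rw [QuotientGroup.ker_mk']
    exact (isPGroup_pCore (G := G) p).to_le hN
  have := Subgroup.map_mono (f := QuotientGroup.mk' N) hU'
  rwa [Subgroup.map_comap_eq_self_of_surjective (QuotientGroup.mk'_surjective N)] at this

theorem pCore_quotient_self [Finite G] (p : ℕ) : pCore p (G ⧸ pCore p G) = ⊥ := by
  rw [← map_mk'_pCore _ le_rfl, QuotientGroup.map_mk'_self]

end CfsgLib.Cores
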