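import Cfsg.Agent.Lib.Cores.Fitting
import Cfsg.Prelude.Def_Local
import Mathlib.GroupTheory.Commutator.Basic

/-!
Quasisimple groups, components, the layer and the generalized Fitting subgroup.
-/

namespace CfsgLib.Cores

open Subgroup Cfsg

universe u

variable {G : Type*} [Group G] {H : Type*} [Group H]

/-! ### Small general lemmas -/

theorem commutator_self_le' (K : Subgroup G) : ⁅K, K⁆ ≤ K :=
  Subgroup.commutator_le.2 fun _ ha _ hb => K.mul_mem (K.mul_mem (K.mul_mem ha hb) (K.inv_mem ha)) (K.inv_mem hb)

theorem map_commutator_top_le (K : Subgroup G) : (commutator K).map K.subtype = ⁅K, K⁆ :=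
  Subgroup.map_subtype_commutator K

/-- A subgroup commuting with itself modulo a centralized subgroup is nilpotent of class at most two. -/
theorem isNilpotent_of_commutator_commutator_eq_bot {K : Subgroup G} (h : ⁅⁅K, K⁆, K⁆ = ⊥) :
    Group.IsNilpotent K := by
  refine Subgroup.isNilpotent_of_lowerCentralSeries_eq_bot (n := 2) ?_
  simpa [Subgroup.lowerCentralSeries_succ] using h

/-- Three subgroup lemma in the form needed for perfect subgroups. -/
theorem commutator_eq_bot_of_perfect {L M : Subgroup G} (hL : ⁅L, L⁆ = L) (h : ⁅⁅L, M⁆, L⁆ = ⊥) :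
    ⁅L, M⁆ = ⊥ := by
  have h2 : ⁅⁅M, L⁆, L⁆ = ⊥ := by rwa [Subgroup.commutator_comm M L]
  have := Subgroup.commutator_commutator_eq_bot_of_rotate h h2
  rwa [hL] at this

/-! ### Quasisimple groups -/

theorem isQuasisimple_of_equiv (e : G ≃* H) (h : IsQuasisimple G) : IsQuasisimple H := by
  obtain ⟨hp, hs⟩ := h
  refine ⟨Group.IsPerfect.ofSurjective (f := e.toMonoidHom) e.surjective, ?_⟩
  have hc : (center G).map e.toMonoidHom = center H := by
    ext y
    rw [Subgroup.mem_map]
    constructor
    · rintro ⟨x, hx, rfl⟩
      rw [Subgroup.mem_center_iff] at hx ⊢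
      intro g
      simpa using congrArg e (hx (e.symm g))
    · intro hy
      refine ⟨e.symm y, ?_, e.apply_symm_apply y⟩
      rw [Subgroup.mem_center_iff] at hy ⊢
      intro g
      simpa using congrArg e.symm (hy (e g))
  let e' := QuotientGroup.congr (center G) (center H) e hc
  have : Nontrivial (H ⧸ center H) := e'.toEquiv.nontrivial_congr.1 hs.toNontrivial
  exact IsSimpleGroup.isSimpleGroup_of_surjective e'.toMonoidHom e'.surjective

theorem isQuasisimple_nontrivial (h : IsQuasisimple G) : Nontrivial G :=
  have : Nontrivial (G ⧸ center G) := h.2.toNontrivial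
  (QuotientGroup.mk'_surjective (center G)).nontrivial

theorem center_ne_top_of_isQuasisimple (h : IsQuasisimple G) : center G ≠ ⊤ := by
  intro hc
  have := h.2.toNontrivial
  have hsub : Subsingleton (G ⧸ center G) := QuotientGroup.subsingleton_iff.2 hc
  exact not_nontrivial _ this

theorem not_isSolvable_of_isQuasisimple (h : IsQuasisimple G) : ¬ Group.IsSolvable G := by
  have := h.1
  have := isQuasisimple_nontrivial h
  exact Group.IsPerfect.not_isSolvable G

theorem normal_eq_top_or_le_center_of_isQuasisimple (h : IsQuasisimple G) (N : Subgroup G)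
    [hN : N.Normal] : N = ⊤ ∨ N ≤ center G := by
  have hs := h.2
  have hp := h.1
  have hn := hN.map (QuotientGroup.mk' (center G)) (QuotientGroup.mk'_surjective _)
  rcases hn.eq_bot_or_eq_top with hb | ht
  · right
    rwa [Subgroup.map_eq_bot_iff, QuotientGroup.ker_mk'] at hb
  · left
    have h1 : N ⊔ center G = ⊤ := by
      have := congrArg (Subgroup.comap (QuotientGroup.mk' (center G))) ht
      rwa [Subgroup.comap_map_eq, QuotientGroup.ker_mk', Subgroup.comap_top] at this
    refine top_le_iff.1 (le_trans (le_of_eq hp.commutator_eq_top.symm) ?_)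
    refine Subgroup.Normal.commutator_le_of_self_sup_commutative_eq_top h1 ?_
    infer_instance

theorem isSubnormal_eq_top_or_le_center_of_isQuasisimple (h : IsQuasisimple G) {N : Subgroup G}
    (hN : N.IsSubnormal) : N = ⊤ ∨ N ≤ center G := by
  rcases hN.lt_normal with h1 | ⟨K, hK, hle, hlt⟩
  · exact Or.inl h1
  · rcases normal_eq_top_or_le_center_of_isQuasisimple h K with h2 | h2
    · exact absurd h2 hlt.ne
    · exact Or.inr (hle.trans h2)

theorem commutator_self_of_isQuasisimple {L : Subgroup G} (h : IsQuasisimple L) : ⁅L, L⁆ = L :=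
  Subgroup.isPerfect_iff.1 h.1

theorem isQuasisimple_map_equiv {L : Subgroup G} (h : IsQuasisimple L) (f : G →* H)
    (hf : Function.Injective f) : IsQuasisimple (L.map f) :=
  isQuasisimple_of_equiv (Subgroup.equivMapOfInjective L f hf) h

theorem isQuasisimple_subgroupOf_iff {L K : Subgroup G} (hLK : L ≤ K) :
    IsQuasisimple (L.subgroupOf K) ↔ IsQuasisimple L :=
  ⟨isQuasisimple_of_equiv (Subgroup.subgroupOfEquivOfLe hLK),
    isQuasisimple_of_equiv (Subgroup.subgroupOfEquivOfLe hLK).symm⟩

/-! ### Components -/

theorem isComponent_subgroupOf {L K : Subgroup G} (hL : IsComponent L) (hLK : L ≤ K) :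
    IsComponent (L.subgroupOf K) :=
  ⟨hL.1.subgroupOf, (isQuasisimple_subgroupOf_iff hLK).2 hL.2⟩

theorem isComponent_map_subtype {K : Subgroup G} (hK : K.IsSubnormal) {L : Subgroup K}
    (hL : IsComponent L) : IsComponent (L.map K.subtype) :=
  ⟨hL.1.trans' hK, isQuasisimple_map_equiv hL.2 _ K.subtype_injective⟩

theorem isComponent_map_subtype_iff {K : Subgroup G} (hK : K.IsSubnormal) {L : Subgroup K} :
    IsComponent L ↔ IsComponent (L.map K.subtype) := by
  refine ⟨isComponent_map_subtype hK, fun h => ?_⟩
  have := isComponent_subgroupOf h (Subgroup.map_subtype_le L)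
  rwa [Subgroup.subgroupOf, Subgroup.comap_map_eq_self_of_injective K.subtype_injective] at this

theorem isComponent_map_equiv (e : G ≃* H) {L : Subgroup G} (hL : IsComponent L) :
    IsComponent (L.map e.toMonoidHom) :=
  ⟨hL.1.map e.surjective, isQuasisimple_map_equiv hL.2 _ e.injective⟩

theorem isComponent_top (h : IsQuasisimple G) : IsComponent (⊤ : Subgroup G) :=
  ⟨Subgroup.IsSubnormal.top, isQuasisimple_of_equiv Subgroup.topEquiv.symm h⟩

theorem component_ne_bot {L : Subgroup G} (hL : IsComponent L) : L ≠ ⊥ := fun h => by
  have := isQuasisimple_nontrivial hL.2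
  exact (Subgroup.nontrivial_iff_ne_bot L).1 this h

theorem component_commutator_self {L : Subgroup G} (hL : IsComponent L) : ⁅L, L⁆ = L :=
  commutator_self_of_isQuasisimple hL.2

theorem component_le_or_commutator_eq_bot_aux (n : ℕ) :
    ∀ (G : Type u) [Group G] [Finite G], Nat.card G = n →
      ∀ L K : Subgroup G, IsComponent L → K.IsSubnormal → L ≤ K ∨ ⁅L, K⁆ = ⊥ := by
  induction n using Nat.strong_induction_on with
  | _ n ih =>
    intro G _ _ hn L K hL hK
    rcases eq_or_ne K ⊤ with rfl | hKne
    · exact Or.inl le_top
    rcases eq_or_ne L ⊤ with rfl | hLne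
    · right
      have hq : IsQuasisimple G := isQuasisimple_of_equiv Subgroup.topEquiv hL.2
      rcases isSubnormal_eq_top_or_le_center_of_isQuasisimple hq hK with h | h
      · exact absurd h hKne
      · rw [Subgroup.commutator_comm, Subgroup.commutator_top_right_eq_bot_iff_le_center]
        exact h
    obtain ⟨M, hM, hKM, hMlt⟩ := hK.exists_normal_and_le_and_lt_top_of_ne hKne
    obtain ⟨N, hN, hLN, hNlt⟩ := hL.1.exists_normal_and_le_and_lt_top_of_ne hLne
    have small : ∀ X : Subgroup G, X < ⊤ → Nat.card X < n := by
      intro X hX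
      rw [← hn, ← Subgroup.card_top (G := G)]
      exact lt_of_le_of_ne (Subgroup.card_le_of_le le_top)
        fun h => hX.ne (Subgroup.eq_top_of_card_eq X (by rwa [Subgroup.card_top] at h))
    -- inside a proper subgroup containing both
    have inner : ∀ X Y : Subgroup G, X < ⊤ → Y.IsSubnormal → L ≤ X → Y ≤ X →
        L ≤ Y ∨ ⁅L, Y⁆ = ⊥ := by
      intro X Y hX hY hLX hYX
      rcases ih _ (small X hX) X rfl _ (Y.subgroupOf X) (isComponent_subgroupOf hL hLX)
        hY.subgroupOf with h | h
      · left
        intro x hx
        exact h (show (⟨x, hLX hx⟩ : X) ∈ L.subgroupOf X from hx)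
      · right
        have h2 := congrArg (Subgroup.map X.subtype) h
        rwa [Subgroup.map_commutator, Subgroup.map_bot, Subgroup.map_subgroupOf_eq_of_le hLX,
          Subgroup.map_subgroupOf_eq_of_le hYX] at h2
    by_cases hLM : L ≤ M
    · exact inner M K hMlt hK hLM hKM
    · right
      have hMN : (M ⊓ N).IsSubnormal := hM.isSubnormal.inf hN.isSubnormal
      rcases inner N (M ⊓ N) hNlt hMN hLN inf_le_right with h | h
      · exact absurd (h.trans inf_le_left) hLM
      · have h1 : ⁅L, M⁆ ≤ M ⊓ N := by
          refine (Subgroup.commutator_mono hLN le_rfl).trans ?_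
          rw [inf_comm]
          exact Subgroup.commutator_le_inf N M
        have h2 : ⁅⁅L, M⁆, L⁆ = ⊥ := by
          rw [eq_bot_iff, ← h, Subgroup.commutator_comm L (M ⊓ N)]
          exact Subgroup.commutator_mono h1 le_rfl
        rw [eq_bot_iff, ← commutator_eq_bot_of_perfect (component_commutator_self hL) h2]
        exact Subgroup.commutator_mono le_rfl hKM

/-- A component either lies in a given subnormal subgroup or centralizes it. -/
theorem component_le_or_commutator_eq_bot [Finite G] {L K : Subgroup G} (hL : IsComponent L)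
    (hK : K.IsSubnormal) : L ≤ K ∨ ⁅L, K⁆ = ⊥ :=
  component_le_or_commutator_eq_bot_aux _ G rfl L K hL hK

theorem component_eq_of_le [Finite G] {L K : Subgroup G} (hL : IsComponent L) (hK : IsComponent K)
    (h : L ≤ K) : L = K := by
  rcases isSubnormal_eq_top_or_le_center_of_isQuasisimple hK.2 (hL.1.subgroupOf (K := K)) with h1 | h1
  · exact le_antisymm h (Subgroup.subgroupOf_eq_top.1 h1)
  · exfalso
    have h3 : ⁅L.subgroupOf K, L.subgroupOf K⁆ = ⊥ := by
      rw [eq_bot_iff, ← (Subgroup.commutator_top_right_eq_bot_iff_le_center).2 h1]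
      exact Subgroup.commutator_mono le_rfl le_top
    have h4 := congrArg (Subgroup.map K.subtype) h3
    rw [Subgroup.map_commutator, Subgroup.map_bot, Subgroup.map_subgroupOf_eq_of_le h,
      component_commutator_self hL] at h4
    exact component_ne_bot hL h4

theorem commutator_components_eq_bot [Finite G] {L K : Subgroup G} (hL : IsComponent L)
    (hK : IsComponent K) (hne : L ≠ K) : ⁅L, K⁆ = ⊥ :=
  (component_le_or_commutator_eq_bot hL hK.1).resolve_left fun h => hne (component_eq_of_le hL hK h)

theorem component_le_normalizer_component [Finite G] {L K : Subgroup G} (hL : IsComponent L)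
    (hK : IsComponent K) : L ≤ Subgroup.normalizer (K : Set G) := by
  rcases eq_or_ne L K with rfl | hne
  · exact Subgroup.le_normalizer
  · exact (Subgroup.commutator_eq_bot_iff_le_centralizer.1 (commutator_components_eq_bot hL hK hne)).trans
      (Subgroup.centralizer_le_normalizer _)

theorem isSolvable_of_le {L K : Subgroup G} (h : L ≤ K) (hK : Group.IsSolvable K) :
    Group.IsSolvable L :=
  Group.isSolvable_of_isSolvable_injective (f := Subgroup.inclusion h) (Subgroup.inclusion_injective h)

theorem component_not_le_of_isSolvable {L S : Subgroup G} (hL : IsComponent L)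
    (hS : Group.IsSolvable S) : ¬ L ≤ S :=
  fun h => not_isSolvable_of_isQuasisimple hL.2 (isSolvable_of_le h hS)

theorem component_commutator_fittingSubgroup [Finite G] {L : Subgroup G} (hL : IsComponent L) :
    ⁅L, fittingSubgroup G⁆ = ⊥ := by
  have hn := fittingSubgroup_normal (G := G)
  have hnil : Group.IsNilpotent (fittingSubgroup G) := isNilpotent_fittingSubgroup
  refine (component_le_or_commutator_eq_bot hL hn.isSubnormal).resolve_left ?_
  exact component_not_le_of_isSolvable hL inferInstance

/-- A component centralizes every solvable subgroup it normalizes. -/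
theorem component_commutator_solvable [Finite G] {L S : Subgroup G} (hL : IsComponent L)
    (hS : Group.IsSolvable S) (hn : L ≤ Subgroup.normalizer (S : Set G)) : ⁅L, S⁆ = ⊥ := by
  set U := L ⊔ S with hU
  have hUn : U ≤ Subgroup.normalizer (S : Set G) := sup_le hn Subgroup.le_normalizer
  have hSU : (S.subgroupOf U).Normal := (Subgroup.normal_subgroupOf_iff_le_normalizer le_sup_right).2 hUn
  rcases component_le_or_commutator_eq_bot (isComponent_subgroupOf hL (le_sup_left : L ≤ U))
    hSU.isSubnormal with h | h
  · exact absurd (fun x hx => h (show (⟨x, le_sup_left (b := S) hx⟩ : U) ∈ L.subgroupOf U from hx))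
      (component_not_le_of_isSolvable hL hS)
  · have h2 := congrArg (Subgroup.map U.subtype) h
    rwa [Subgroup.map_commutator, Subgroup.map_bot,
      Subgroup.map_subgroupOf_eq_of_le (le_sup_left : L ≤ U),
      Subgroup.map_subgroupOf_eq_of_le (le_sup_right : S ≤ U)] at h2

/-- A non-central image of a component is a component. -/
theorem isComponent_map_of_surjective [Finite G] {L : Subgroup G} (hL : IsComponent L) (f : G →* H)
    (hf : Function.Surjective f) (hne : L.map f ≠ ⊥) : IsComponent (L.map f) := by
  refine ⟨hL.1.map hf, ?_⟩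
  have hker : (f.subgroupMap L).ker ≤ center L := by
    refine (normal_eq_top_or_le_center_of_isQuasisimple hL.2 _).resolve_left fun h => hne ?_
    rw [eq_bot_iff]
    rintro _ ⟨x, hx, rfl⟩
    have := congrArg Subtype.val (MonoidHom.mem_ker.1 (show (⟨x, hx⟩ : L) ∈ (f.subgroupMap L).ker from
      h ▸ Subgroup.mem_top _))
    simpa using this
  have := hL.2.1
  have := hL.2.2
  refine ⟨Group.IsPerfect.ofSurjective (f.subgroupMap_surjective L), ?_⟩
  set g : L →* ↥(L.map f) ⧸ center ↥(L.map f) :=
    (QuotientGroup.mk' _).comp (f.subgroupMap L) with hg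
  have hsurj : Function.Surjective g :=
    (QuotientGroup.mk'_surjective _).comp (f.subgroupMap_surjective L)
  have hc : center L ≤ g.ker := by
    intro x hx
    rw [hg, MonoidHom.mem_ker, MonoidHom.comp_apply, QuotientGroup.mk'_apply,
      QuotientGroup.eq_one_iff, Subgroup.mem_center_iff]
    intro y
    obtain ⟨z, rfl⟩ := f.subgroupMap_surjective L y
    rw [← map_mul, ← map_mul, Subgroup.mem_center_iff.1 hx z]
  have hnt : Nontrivial (↥(L.map f) ⧸ center ↥(L.map f)) := by
    refine not_subsingleton_iff_nontrivial.1 fun h => ?_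
    have hcomm : IsMulCommutative ↥(L.map f) :=
      Subgroup.center_eq_top_iff.1 (QuotientGroup.subsingleton_iff.1 h)
    have hperf : Group.IsPerfect ↥(L.map f) := Group.IsPerfect.ofSurjective (f.subgroupMap_surjective L)
    have hss : Subsingleton ↥(L.map f) := Group.IsPerfect.subsingleton_of_isMulCommutative
    exact hne (Subgroup.eq_bot_of_subsingleton _)
  exact IsSimpleGroup.isSimpleGroup_of_surjective (QuotientGroup.lift (center L) g hc)
    (QuotientGroup.lift_surjective_of_surjective _ _ hsurj hc)

/-! ### The layer -/

theorem component_le_layer {L : Subgroup G} (hL : IsComponent L) : L ≤ layer G :=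
  le_sSup hL

theorem layer_le_iff {K : Subgroup G} :
    layer G ≤ K ↔ ∀ L : Subgroup G, IsComponent L → L ≤ K := by
  simp [layer, sSup_le_iff]

theorem map_layer_equiv (e : G ≃* H) : (layer G).map e.toMonoidHom = layer H := by
  refine le_antisymm ?_ ?_
  · rw [Subgroup.map_le_iff_le_comap, layer_le_iff]
    exact fun L hL => Subgroup.map_le_iff_le_comap.1 (component_le_layer (isComponent_map_equiv e hL))
  · rw [layer_le_iff]
    intro L hL
    have := Subgroup.map_mono (f := e.toMonoidHom) (component_le_layer (isComponent_map_equiv e.symm hL))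
    rwa [Subgroup.map_map, show e.toMonoidHom.comp e.symm.toMonoidHom = MonoidHom.id H from
      MonoidHom.ext fun x => e.apply_symm_apply x, Subgroup.map_id] at this

theorem layer_characteristic : (layer G).Characteristic :=
  Subgroup.characteristic_iff_map_eq.2 fun e => map_layer_equiv e

theorem layer_normal : (layer G).Normal :=
  have := layer_characteristic (G := G)
  inferInstance

theorem commutator_layer_self : ⁅layer G, layer G⁆ = layer G := by
  refine le_antisymm (commutator_self_le' _) ?_
  rw [layer_le_iff]
  intro L hL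
  rw [← component_commutator_self hL]
  exact Subgroup.commutator_mono (component_le_layer hL) (component_le_layer hL)

theorem isPerfect_layer : Group.IsPerfect (layer G) :=
  Subgroup.isPerfect_iff.2 commutator_layer_self

theorem layer_le_normalizer_component [Finite G] {L : Subgroup G} (hL : IsComponent L) :
    layer G ≤ Subgroup.normalizer (L : Set G) :=
  layer_le_iff.2 fun _ hK => component_le_normalizer_component hK hL

theorem component_subgroupOf_layer_normal [Finite G] {L : Subgroup G} (hL : IsComponent L) :
    (L.subgroupOf (layer G)).Normal :=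
  (Subgroup.normal_subgroupOf_iff_le_normalizer (component_le_layer hL)).2
    (layer_le_normalizer_component hL)

theorem layer_le_centralizer_fittingSubgroup [Finite G] :
    layer G ≤ Subgroup.centralizer (fittingSubgroup G : Set G) :=
  layer_le_iff.2 fun _ hL =>
    Subgroup.commutator_eq_bot_iff_le_centralizer.1 (component_commutator_fittingSubgroup hL)

theorem commutator_layer_fittingSubgroup [Finite G] : ⁅layer G, fittingSubgroup G⁆ = ⊥ :=
  Subgroup.commutator_eq_bot_iff_le_centralizer.2 layer_le_centralizer_fittingSubgroup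

theorem map_subtype_layer_le {K : Subgroup G} (hK : K.IsSubnormal) :
    (layer K).map K.subtype ≤ layer G := by
  rw [Subgroup.map_le_iff_le_comap, layer_le_iff]
  exact fun L hL =>
    Subgroup.map_le_iff_le_comap.1 (component_le_layer (isComponent_map_subtype hK hL))

theorem layer_layer : layer (layer G) = ⊤ := by
  rw [eq_top_iff]
  intro x _
  have key : layer G ≤ (layer (layer G)).map (layer G).subtype := by
    rw [layer_le_iff]
    intro L hL
    rw [← Subgroup.map_subgroupOf_eq_of_le (component_le_layer hL)]
    exact Subgroup.map_mono (component_le_layer (isComponent_subgroupOf hL (component_le_layer hL)))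
  obtain ⟨y, hy, hyx⟩ := key x.2
  rwa [← Subtype.ext hyx]

theorem layer_eq_bot_iff : layer G = ⊥ ↔ ∀ L : Subgroup G, ¬ IsComponent L := by
  constructor
  · intro h L hL
    exact component_ne_bot hL (le_bot_iff.1 (h ▸ component_le_layer hL))
  · intro h
    rw [eq_bot_iff, layer_le_iff]
    exact fun L hL => absurd hL (h L)

theorem hasComponent_iff : HasComponent G ↔ layer G ≠ ⊥ := by
  rw [ne_eq, layer_eq_bot_iff]
  simp [HasComponent, IsComponent]

/-! ### The generalized Fitting subgroup -/

theorem layer_le_generalizedFittingSubgroup : layer G ≤ generalizedFittingSubgroup G :=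
  le_sup_left

theorem fittingSubgroup_le_generalizedFittingSubgroup :
    fittingSubgroup G ≤ generalizedFittingSubgroup G :=
  le_sup_right

theorem map_generalizedFittingSubgroup_equiv (e : G ≃* H) :
    (generalizedFittingSubgroup G).map e.toMonoidHom = generalizedFittingSubgroup H := by
  rw [generalizedFittingSubgroup, Subgroup.map_sup, map_layer_equiv, map_fittingSubgroup_equiv]
  rfl

theorem generalizedFittingSubgroup_characteristic : (generalizedFittingSubgroup G).Characteristic :=
  Subgroup.characteristic_iff_map_eq.2 fun e => map_generalizedFittingSubgroup_equiv e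

theorem generalizedFittingSubgroup_normal : (generalizedFittingSubgroup G).Normal :=
  have := generalizedFittingSubgroup_characteristic (G := G)
  inferInstance

/-- A minimal non-central subnormal subgroup of `C` is nilpotent or quasisimple. -/
theorem le_generalizedFittingSubgroup_of_minimal [Finite G] {C Z K : Subgroup G}
    (hZC : ∀ z ∈ Z, ∀ c ∈ C, z * c = c * z) (hKs : K.IsSubnormal) (hKC : K ≤ C) (hKZ : ¬ K ≤ Z)
    (hmin : ∀ X : Subgroup G, X.IsSubnormal → X < K → X ≤ Z) :
    K ≤ generalizedFittingSubgroup G := by
  have hZK : ∀ X : Subgroup G, X ≤ Z → ⁅X, K⁆ = ⊥ := fun X hX => by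
    rw [Subgroup.commutator_eq_bot_iff_le_centralizer]
    exact fun x hx => Subgroup.mem_centralizer_iff.2 fun k hk => (hZC x (hX hx) k (hKC hk)).symm
  rcases eq_or_ne ⁅K, K⁆ K with hperf | hne
  · refine le_trans (component_le_layer ⟨hKs, Subgroup.isPerfect_iff.2 hperf, ?_⟩)
      layer_le_generalizedFittingSubgroup
    have hperf' : Group.IsPerfect K := Subgroup.isPerfect_iff.2 hperf
    have hnt : Nontrivial K :=
      (Subgroup.nontrivial_iff_ne_bot K).2 fun h => hKZ (h ▸ bot_le)
    have hc : center K ≠ ⊤ := fun h => by
      have : IsMulCommutative K := Subgroup.center_eq_top_iff.1 h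
      exact not_nontrivial_iff_subsingleton.2 Group.IsPerfect.subsingleton_of_isMulCommutative hnt
    have hntq : Nontrivial (K ⧸ center K) :=
      not_subsingleton_iff_nontrivial.1 fun h => hc (QuotientGroup.subsingleton_iff.1 h)
    refine ⟨fun M hM => ?_⟩
    set M' := M.comap (QuotientGroup.mk' (center K)) with hM'
    rcases eq_or_ne M' ⊤ with h | h
    · right
      rw [hM'] at h
      rw [← Subgroup.map_comap_eq_self_of_surjective (QuotientGroup.mk'_surjective (center K)) M, h,
        Subgroup.map_top_of_surjective _ (QuotientGroup.mk'_surjective _)]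
    · left
      have hlt : M'.map K.subtype < K := by
        refine lt_of_le_of_ne (Subgroup.map_subtype_le _) fun he => h ?_
        rw [← Subgroup.comap_map_eq_self_of_injective K.subtype_injective M', he]
        exact Subgroup.subgroupOf_self K
      have hMs : M'.IsSubnormal := (hM.comap _).isSubnormal
      have h1 : M'.map K.subtype ≤ Z := hmin _ (hMs.trans' hKs) hlt
      have h2 : M' ≤ center K := fun x hx => Subgroup.mem_center_iff.2 fun k => Subtype.ext
        (hZC x (h1 ⟨x, hx, rfl⟩) k (hKC k.2)).symm
      rw [eq_bot_iff, ← Subgroup.map_comap_eq_self_of_surjective (QuotientGroup.mk'_surjective (center K)) M]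
      rintro _ ⟨x, hx, rfl⟩
      exact Subgroup.mem_bot.2 ((QuotientGroup.eq_one_iff x).2 (h2 hx))
  · refine le_trans (le_fittingSubgroup_of_isSubnormal hKs ?_)
      fittingSubgroup_le_generalizedFittingSubgroup
    apply isNilpotent_of_commutator_commutator_eq_bot
    have hsub : (⁅K, K⁆ : Subgroup G).IsSubnormal := by
      have : ((commutator K).map K.subtype).IsSubnormal :=
        (Subgroup.Normal.isSubnormal inferInstance).trans' hKs
      rwa [Subgroup.map_subtype_commutator] at this
    exact hZK _ (hmin _ hsub (lt_of_le_of_ne (commutator_self_le' _) hne))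

/-- `C_G(F*(G)) ≤ F*(G)`. -/
theorem centralizer_generalizedFittingSubgroup_le [Finite G] :
    Subgroup.centralizer (generalizedFittingSubgroup G : Set G) ≤ generalizedFittingSubgroup G := by
  by_contra hC
  have := generalizedFittingSubgroup_normal (G := G)
  set C := Subgroup.centralizer (generalizedFittingSubgroup G : Set G) with hCdef
  have hCn : C.Normal := inferInstance
  set S := {K : Subgroup G | K.IsSubnormal ∧ K ≤ C ∧ ¬ K ≤ generalizedFittingSubgroup G}
  obtain ⟨K, ⟨hKs, hKC, hKF⟩, hKmin⟩ :=
    wellFounded_lt.has_min S ⟨C, hCn.isSubnormal, le_rfl, hC⟩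
  refine hKF (le_generalizedFittingSubgroup_of_minimal (C := C)
    (Z := generalizedFittingSubgroup G) (fun z hz c hc => Subgroup.mem_centralizer_iff.1 hc z hz)
    hKs hKC hKF fun X hXs hXK => ?_)
  by_contra hX
  exact hKmin X ⟨hXs, hXK.le.trans hKC, hX⟩ hXK

end CfsgLib.Cores
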