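import Cfsg.Agent.Lib.Cores.Layer
import Mathlib.GroupTheory.SchurZassenhaus

/-!
Subnormal p-subgroups and p'-subgroups, the subgroups generated by p-elements and by p'-elements, and
Thompson's A×B lemma.
-/

namespace CfsgLib.Cores

open Subgroup Cfsg
open scoped commutatorElement

variable {G : Type*} [Group G] {H : Type*} [Group H]

/-! ### Subnormal subgroups and cores -/

theorem le_pPrimeCore_of_isSubnormal [Finite G] {p : ℕ} {K : Subgroup G} (hs : K.IsSubnormal)
    (hK : (Nat.card K).Coprime p) : K ≤ pPrimeCore p G := by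
  suffices h : (pPrimeCore p K).map K.subtype ≤ pPrimeCore p G by
    rwa [pPrimeCore_eq_top_iff.2 hK, ← MonoidHom.range_eq_map, range_subtype] at h
  clear hK
  induction hs with
  | top => exact map_pPrimeCore_le _ fun x => ⟨⟨x, trivial⟩, rfl⟩
  | step A B h_le _ hN ih =>
    refine le_trans ?_ ih
    rw [← map_pPrimeCore_equiv (subgroupOfEquivOfLe h_le), map_map]
    refine le_of_eq_of_le ?_ (map_mono (f := B.subtype) (map_subtype_pPrimeCore_le_of_normal p (A.subgroupOf B)))
    rw [map_map]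
    congr 1

theorem le_pCore_of_isSubnormal [Finite G] {p : ℕ} {K : Subgroup G} (hs : K.IsSubnormal)
    (hK : IsPGroup p K) : K ≤ pCore p G := by
  suffices h : (pCore p K).map K.subtype ≤ pCore p G by
    rwa [pCore_eq_top_iff.2 hK, ← MonoidHom.range_eq_map, range_subtype] at h
  clear hK
  induction hs with
  | top => exact map_pCore_le _ fun x => ⟨⟨x, trivial⟩, rfl⟩
  | step A B h_le _ hN ih =>
    refine le_trans ?_ ih
    rw [← map_pCore_equiv (subgroupOfEquivOfLe h_le), map_map]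
    refine le_of_eq_of_le ?_ (map_mono (f := B.subtype) (map_subtype_pCore_le_of_normal p (A.subgroupOf B)))
    rw [map_map]
    congr 1

theorem map_subtype_pPrimeCore_le_of_isSubnormal [Finite G] (p : ℕ) {K : Subgroup G} (hs : K.IsSubnormal) :
    (pPrimeCore p K).map K.subtype ≤ pPrimeCore p G := by
  refine le_pPrimeCore_of_isSubnormal ((Normal.isSubnormal inferInstance).trans' hs) ?_
  rw [card_map_of_injective K.subtype_injective]
  exact coprime_card_pPrimeCore p

theorem map_subtype_pCore_le_of_isSubnormal [Finite G] (p : ℕ) {K : Subgroup G} (hs : K.IsSubnormal) :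
    (pCore p K).map K.subtype ≤ pCore p G :=
  le_pCore_of_isSubnormal ((Normal.isSubnormal inferInstance).trans' hs) ((isPGroup_pCore p).map _)

/-! ### Subgroups generated by p-elements and p'-elements -/

/-- The subgroup generated by the `p`-elements of `M`. -/
def pElemClosure (p : ℕ) (M : Subgroup G) : Subgroup G :=
  closure {x : G | x ∈ M ∧ ∃ k, orderOf x = p ^ k}

/-- The subgroup generated by the `p'`-elements of `M`. -/
def pPrimeElemClosure (p : ℕ) (M : Subgroup G) : Subgroup G :=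
  closure {x : G | x ∈ M ∧ (orderOf x).Coprime p}

theorem pElemClosure_le (p : ℕ) (M : Subgroup G) : pElemClosure p M ≤ M :=
  (closure_le M).2 fun _ h => h.1

theorem pPrimeElemClosure_le (p : ℕ) (M : Subgroup G) : pPrimeElemClosure p M ≤ M :=
  (closure_le M).2 fun _ h => h.1

theorem mem_pElemClosure {p : ℕ} {M : Subgroup G} {x : G} (hx : x ∈ M) {k : ℕ}
    (h : orderOf x = p ^ k) : x ∈ pElemClosure p M :=
  subset_closure ⟨hx, k, h⟩

theorem mem_pPrimeElemClosure {p : ℕ} {M : Subgroup G} {x : G} (hx : x ∈ M)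
    (h : (orderOf x).Coprime p) : x ∈ pPrimeElemClosure p M :=
  subset_closure ⟨hx, h⟩

theorem normalizer_le_normalizer_pElemClosure (p : ℕ) (M : Subgroup G) :
    normalizer (M : Set G) ≤ normalizer (pElemClosure p M : Set G) := by
  have key : ∀ g ∈ normalizer (M : Set G), (pElemClosure p M).map (MulAut.conj g).toMonoidHom ≤
      pElemClosure p M := by
    intro g hg
    rw [pElemClosure, MonoidHom.map_closure, closure_le]
    rintro _ ⟨x, ⟨hx, k, hk⟩, rfl⟩
    refine mem_pElemClosure ?_ (k := k) ?_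
    · exact (mem_normalizer_iff.1 hg x).1 hx
    · rw [orderOf_injective (MulAut.conj g).toMonoidHom (MulAut.conj g).injective, hk]
  intro g hg
  rw [mem_normalizer_iff]
  intro x
  refine ⟨fun hx => key g hg ⟨x, hx, rfl⟩, fun hx => ?_⟩
  have := key g⁻¹ (inv_mem hg) ⟨_, hx, rfl⟩
  simpa [mul_assoc] using this

theorem normalizer_le_normalizer_pPrimeElemClosure (p : ℕ) (M : Subgroup G) :
    normalizer (M : Set G) ≤ normalizer (pPrimeElemClosure p M : Set G) := by
  have key : ∀ g ∈ normalizer (M : Set G), (pPrimeElemClosure p M).map (MulAut.conj g).toMonoidHom ≤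
      pPrimeElemClosure p M := by
    intro g hg
    rw [pPrimeElemClosure, MonoidHom.map_closure, closure_le]
    rintro _ ⟨x, ⟨hx, hk⟩, rfl⟩
    refine mem_pPrimeElemClosure ?_ ?_
    · exact (mem_normalizer_iff.1 hg x).1 hx
    · rw [orderOf_injective (MulAut.conj g).toMonoidHom (MulAut.conj g).injective]
      exact hk
  intro g hg
  rw [mem_normalizer_iff]
  intro x
  refine ⟨fun hx => key g hg ⟨x, hx, rfl⟩, fun hx => ?_⟩
  have := key g⁻¹ (inv_mem hg) ⟨_, hx, rfl⟩
  simpa [mul_assoc] using this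

theorem exists_pow_mul_pow (p : ℕ) [hp : Fact p.Prime] [Finite G] (x : G) :
    ∃ a b : G, x = a * b ∧ a ∈ zpowers x ∧ b ∈ zpowers x ∧ (∃ k, orderOf a = p ^ k) ∧
      (orderOf b).Coprime p := by
  obtain ⟨k, m, hm, hkm⟩ := Nat.exists_eq_pow_mul_and_not_dvd (orderOf_pos x).ne' p hp.out.ne_one
  have hcop : Nat.Coprime (p ^ k) m := Nat.Coprime.pow_left k (hp.out.coprime_iff_not_dvd.2 hm)
  have hbez : (1 : ℤ) = (p ^ k : ℕ) * Nat.gcdA (p ^ k) m + (m : ℕ) * Nat.gcdB (p ^ k) m := by
    rw [← Nat.gcd_eq_gcd_ab, hcop.gcd_eq_one]; rfl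
  refine ⟨x ^ ((m : ℤ) * Nat.gcdB (p ^ k) m), x ^ (((p ^ k : ℕ) : ℤ) * Nat.gcdA (p ^ k) m), ?_,
    zpow_mem (mem_zpowers x) _, zpow_mem (mem_zpowers x) _, ?_, ?_⟩
  · rw [← zpow_add, add_comm, ← hbez, zpow_one]
  · have h : orderOf (x ^ ((m : ℤ) * Nat.gcdB (p ^ k) m)) ∣ p ^ k := by
      apply orderOf_dvd_of_pow_eq_one
      rw [← zpow_natCast, ← zpow_mul, ← orderOf_dvd_iff_zpow_eq_one, hkm]
      exact ⟨Nat.gcdB (p ^ k) m, by push_cast; ring⟩
    obtain ⟨j, _, hj⟩ := (Nat.dvd_prime_pow hp.out).1 h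
    exact ⟨j, hj⟩
  · have h : orderOf (x ^ (((p ^ k : ℕ) : ℤ) * Nat.gcdA (p ^ k) m)) ∣ m := by
      apply orderOf_dvd_of_pow_eq_one
      rw [← zpow_natCast, ← zpow_mul, ← orderOf_dvd_iff_zpow_eq_one, hkm]
      exact ⟨Nat.gcdA (p ^ k) m, by push_cast; ring⟩
    exact Nat.Coprime.coprime_dvd_left h ((coprime_iff_not_dvd hp.out m).2 hm)

/-- The `p`-elements of a subgroup map onto the `p`-elements of its image. -/
theorem map_pElemClosure [Finite G] (p : ℕ) [hp : Fact p.Prime] (f : G →* H) (M : Subgroup G) :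
    (pElemClosure p M).map f = pElemClosure p (M.map f) := by
  apply le_antisymm
  · rw [pElemClosure, MonoidHom.map_closure, closure_le]
    rintro _ ⟨x, ⟨hx, k, hk⟩, rfl⟩
    obtain ⟨j, _, hj⟩ := (Nat.dvd_prime_pow hp.out).1 (hk ▸ orderOf_map_dvd f x)
    exact mem_pElemClosure (mem_map_of_mem f hx) hj
  · rw [pElemClosure, closure_le]
    rintro _ ⟨⟨x, hx, rfl⟩, k, hk⟩
    obtain ⟨a, b, hab, ha, hb, ⟨i, hi⟩, hbc⟩ := exists_pow_mul_pow p x
    have hfb : f b = 1 := by
      have h1 : orderOf (f b) ∣ orderOf b := orderOf_map_dvd f b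
      have h2 : orderOf (f b) ∣ orderOf (f x) := by
        obtain ⟨n, rfl⟩ := hb
        apply orderOf_dvd_of_pow_eq_one
        show f (x ^ n) ^ orderOf (f x) = 1
        rw [map_zpow, ← zpow_natCast, ← zpow_mul, mul_comm, zpow_mul, zpow_natCast, pow_orderOf_eq_one,
          one_zpow]
      have : orderOf (f b) = 1 := Nat.eq_one_of_dvd_coprimes
        (Nat.Coprime.pow_right k hbc) h1 (hk ▸ h2)
      rwa [orderOf_eq_one_iff] at this
    refine ⟨a, mem_pElemClosure (M := M) (zpowers_le.2 hx ha) hi, ?_⟩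
    rw [hab, map_mul, hfb, mul_one]

theorem map_pPrimeElemClosure [Finite G] (p : ℕ) [hp : Fact p.Prime] (f : G →* H) (M : Subgroup G) :
    (pPrimeElemClosure p M).map f = pPrimeElemClosure p (M.map f) := by
  apply le_antisymm
  · rw [pPrimeElemClosure, MonoidHom.map_closure, closure_le]
    rintro _ ⟨x, ⟨hx, hk⟩, rfl⟩
    exact mem_pPrimeElemClosure (mem_map_of_mem f hx) (hk.coprime_dvd_left (orderOf_map_dvd f x))
  · rw [pPrimeElemClosure, closure_le]
    rintro _ ⟨⟨x, hx, rfl⟩, hk⟩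
    obtain ⟨a, b, hab, ha, hb, ⟨i, hi⟩, hbc⟩ := exists_pow_mul_pow p x
    have hfa : f a = 1 := by
      have h1 : orderOf (f a) ∣ orderOf a := orderOf_map_dvd f a
      have h2 : orderOf (f a) ∣ orderOf (f x) := by
        obtain ⟨n, rfl⟩ := ha
        apply orderOf_dvd_of_pow_eq_one
        show f (x ^ n) ^ orderOf (f x) = 1
        rw [map_zpow, ← zpow_natCast, ← zpow_mul, mul_comm, zpow_mul, zpow_natCast, pow_orderOf_eq_one,
          one_zpow]
      have : orderOf (f a) = 1 := Nat.eq_one_of_dvd_coprimes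
        (Nat.Coprime.pow_left i hk.symm) (hi ▸ h1) h2
      rwa [orderOf_eq_one_iff] at this
    refine ⟨b, mem_pPrimeElemClosure (M := M) (zpowers_le.2 hx hb) hbc, ?_⟩
    rw [hab, map_mul, hfa, one_mul]

/-- A perfect subgroup is generated by its `p'`-elements. -/
theorem pPrimeElemClosure_eq_self_of_perfect [Finite G] (p : ℕ) [hp : Fact p.Prime] {M : Subgroup G}
    (hM : ⁅M, M⁆ = M) : pPrimeElemClosure p M = M := by
  set R := (pPrimeElemClosure p M).subgroupOf M with hR
  have hRn : R.Normal := (normal_subgroupOf_iff_le_normalizer (pPrimeElemClosure_le p M)).2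
    (le_normalizer.trans (normalizer_le_normalizer_pPrimeElemClosure p M))
  have hpg : IsPGroup p (↥M ⧸ R) := by
    intro q
    obtain ⟨x, rfl⟩ := QuotientGroup.mk_surjective q
    obtain ⟨a, b, hab, ha, hb, ⟨i, hi⟩, hbc⟩ := exists_pow_mul_pow p (x : G)
    refine ⟨i, ?_⟩
    have haM : a ∈ M := zpowers_le.2 x.2 ha
    have hbM : b ∈ M := zpowers_le.2 x.2 hb
    have hx : x = ⟨a, haM⟩ * ⟨b, hbM⟩ := Subtype.ext hab
    have hbR : (⟨b, hbM⟩ : M) ∈ R := mem_pPrimeElemClosure hbM hbc
    rw [hx, QuotientGroup.mk_mul, (QuotientGroup.eq_one_iff _).2 hbR, mul_one, ← QuotientGroup.mk_pow,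
      QuotientGroup.eq_one_iff]
    have : (⟨a, haM⟩ : M) ^ p ^ i = 1 := Subtype.ext (by simp [← hi, pow_orderOf_eq_one])
    rw [this]
    exact one_mem R
  have hperf : Group.IsPerfect M := Subgroup.isPerfect_iff.2 hM
  have hnil : Group.IsNilpotent (↥M ⧸ R) := hpg.isNilpotent
  rcases subsingleton_or_nontrivial (↥M ⧸ R) with h | h
  · exact le_antisymm (pPrimeElemClosure_le p M) (subgroupOf_eq_top.1 (QuotientGroup.subsingleton_iff.1 h))
  · exact absurd hnil (Group.IsPerfect.not_isNilpotent (↥M ⧸ R))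

/-! ### Thompson's A×B lemma -/

theorem eq_bot_of_commutator_eq_self {U Q P : Subgroup G} (hU : Group.IsNilpotent U) (hQ : Q ≤ U)
    (hP : P ≤ U) (h : ⁅Q, P⁆ = Q) : Q = ⊥ := by
  have key : ∀ n, Q ≤ U.lowerCentralSeries n := by
    intro n
    induction n with
    | zero => simpa using hQ
    | succ n ih =>
      rw [Subgroup.lowerCentralSeries_succ, ← h]
      exact commutator_mono ih hP
  exact le_bot_iff.1 ((key (Group.nilpotencyClass U)).trans_eq
    (lowerCentralSeries_eq_bot_of_nilpotencyClass_le le_rfl))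

theorem axb_aux [Finite G] (p : ℕ) (P : Subgroup G) (x : G) [hp : Fact p.Prime] (hP : IsPGroup p P)
    (hx : (orderOf x).Coprime p) (hxP : ∀ y ∈ P, Commute x y) (n : ℕ) :
    ∀ Q : Subgroup G, Nat.card Q = n → IsPGroup p Q → P ≤ normalizer (Q : Set G) →
      x ∈ normalizer (Q : Set G) → (∀ c ∈ Q, (∀ y ∈ P, Commute c y) → Commute x c) →
      ∀ q ∈ Q, Commute x q := by
  induction n using Nat.strong_induction_on with
  | _ n ih =>
    intro Q hn hQ hPQ hxQ hfix q hq
    rcases eq_or_ne Q ⊥ with rfl | hQb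
    · rw [mem_bot.1 hq]
      exact Commute.one_right x
    set U := P ⊔ Q with hU
    have hUp : IsPGroup p U := IsPGroup.to_sup_of_normal_right' hP hQ hPQ
    have hUn : Group.IsNilpotent U := hUp.isNilpotent
    have hle : ⁅Q, P⁆ ≤ Q := le_normalizer_iff_commutator_le_left.1 hPQ
    have hlt : ⁅Q, P⁆ < Q :=
      lt_of_le_of_ne hle fun h => hQb (eq_bot_of_commutator_eq_self hUn le_sup_right le_sup_left h)
    have hnorm : ∀ g : G, Q.map (MulAut.conj g).toMonoidHom = Q → P.map (MulAut.conj g).toMonoidHom = P →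
        g ∈ normalizer (⁅Q, P⁆ : Subgroup G) := by
      intro g h1 h2
      have h3 : (⁅Q, P⁆).map (MulAut.conj g).toMonoidHom = ⁅Q, P⁆ := by rw [map_commutator, h1, h2]
      rw [mem_normalizer_iff]
      intro z
      constructor
      · intro hz
        exact h3.le ⟨z, hz, rfl⟩
      · intro hz
        obtain ⟨w, hw, hwz⟩ := h3.ge hz
        rwa [(MulAut.conj g).injective (show MulAut.conj g w = MulAut.conj g z from hwz)] at hw
    have hconjQ : ∀ g ∈ normalizer (Q : Set G), Q.map (MulAut.conj g).toMonoidHom = Q := by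
      intro g hg
      ext z
      constructor
      · rintro ⟨w, hw, rfl⟩
        exact (mem_normalizer_iff.1 hg w).1 hw
      · intro hz
        refine ⟨g⁻¹ * z * g, (mem_normalizer_iff.1 hg _).2 ?_, ?_⟩
        · simpa [mul_assoc] using hz
        · simp [mul_assoc]
    have hPn : P ≤ normalizer (⁅Q, P⁆ : Subgroup G) := by
      intro g hg
      refine hnorm g (hconjQ g (hPQ hg)) ?_
      ext z
      constructor
      · rintro ⟨w, hw, rfl⟩
        exact mul_mem (mul_mem hg hw) (inv_mem hg)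
      · intro hz
        exact ⟨g⁻¹ * z * g, mul_mem (mul_mem (inv_mem hg) hz) hg, by simp [mul_assoc]⟩
    have hxn : x ∈ normalizer (⁅Q, P⁆ : Subgroup G) := by
      refine hnorm x (hconjQ x hxQ) ?_
      ext z
      constructor
      · rintro ⟨w, hw, rfl⟩
        show x * w * x⁻¹ ∈ P
        rw [(hxP w hw).eq, mul_inv_cancel_right]
        exact hw
      · intro hz
        exact ⟨z, hz, by show x * z * x⁻¹ = z; rw [(hxP z hz).eq, mul_inv_cancel_right]⟩
    have hcent : ∀ z ∈ ⁅Q, P⁆, Commute x z :=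
      ih _ (hn ▸ lt_of_le_of_ne (card_le_of_le hle)
        fun h => hlt.ne (eq_of_le_of_card_ge hle h.ge)) ⁅Q, P⁆ rfl (hQ.to_le hle) hPn hxn
        fun c hc => hfix c (hle hc)
    set X := zpowers x
    have hXP : ⁅P, X⁆ = ⊥ := by
      rw [commutator_eq_bot_iff_le_centralizer]
      intro y hy
      rw [mem_centralizer_iff]
      rintro _ ⟨i, rfl⟩
      exact ((hxP y hy).zpow_left i).eq
    have h1 : ⁅⁅Q, P⁆, X⁆ = ⊥ := by
      rw [commutator_eq_bot_iff_le_centralizer]
      intro z hz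
      rw [mem_centralizer_iff]
      rintro _ ⟨i, rfl⟩
      exact ((hcent z hz).zpow_left i).eq
    have h2 : ⁅⁅X, Q⁆, P⁆ = ⊥ := by
      refine commutator_commutator_eq_bot_of_rotate h1 ?_
      rw [hXP, commutator_bot_left]
    set c := ⁅x, q⁆ with hc
    have hcQ : c ∈ Q := by
      rw [hc, commutatorElement_def]
      exact mul_mem ((mem_normalizer_iff.1 hxQ q).1 hq) (inv_mem hq)
    have hcP : ∀ y ∈ P, Commute c y := by
      intro y hy
      have hm : ⁅c, y⁆ ∈ ⁅⁅X, Q⁆, P⁆ :=
        commutator_mem_commutator (commutator_mem_commutator (mem_zpowers x) hq) hy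
      rw [h2, mem_bot, commutatorElement_eq_one_iff_commute] at hm
      exact hm
    have hxc : Commute x c := hfix c hcQ hcP
    have hconj : x * q * x⁻¹ = c * q := by rw [hc, commutatorElement_def]; group
    have hpow : ∀ m : ℕ, x ^ m * q * (x ^ m)⁻¹ = c ^ m * q := by
      intro m
      induction m with
      | zero => simp
      | succ m ihm =>
        rw [pow_succ', mul_inv_rev]
        calc x * x ^ m * q * ((x ^ m)⁻¹ * x⁻¹) = x * (x ^ m * q * (x ^ m)⁻¹) * x⁻¹ := by group
          _ = x * c ^ m * q * x⁻¹ := by rw [ihm]; group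
          _ = c ^ m * (x * q * x⁻¹) := by rw [(hxc.pow_right m).eq]; group
          _ = c ^ (m + 1) * q := by rw [hconj, pow_succ]; group
    have hcn : c ^ orderOf x = 1 := by
      have := hpow (orderOf x)
      rw [pow_orderOf_eq_one, one_mul, inv_one, mul_one] at this
      exact mul_eq_right.1 this.symm
    obtain ⟨i, hi⟩ := IsPGroup.iff_orderOf.1 hQ ⟨c, hcQ⟩
    rw [Subgroup.orderOf_mk] at hi
    have : orderOf c = 1 := Nat.eq_one_of_dvd_coprimes (Nat.Coprime.pow_right i hx)
      (orderOf_dvd_of_pow_eq_one hcn) hi.dvd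
    rw [orderOf_eq_one_iff] at this
    rw [this, one_mul, mul_inv_eq_iff_eq_mul] at hconj
    exact hconj

/-- Thompson's A×B lemma. -/
theorem axb [Finite G] {p : ℕ} [Fact p.Prime] {P Q : Subgroup G} {x : G} (hP : IsPGroup p P)
    (hQ : IsPGroup p Q) (hPQ : P ≤ normalizer (Q : Set G)) (hxQ : x ∈ normalizer (Q : Set G))
    (hx : (orderOf x).Coprime p) (hxP : ∀ y ∈ P, Commute x y)
    (hfix : ∀ c ∈ Q, (∀ y ∈ P, Commute c y) → Commute x c) : ∀ q ∈ Q, Commute x q :=
  axb_aux p P x hP hx hxP _ Q rfl hQ hPQ hxQ hfix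

/-- A×B lemma for a subgroup generated by `p'`-elements. -/
theorem axb_le_centralizer [Finite G] {p : ℕ} [Fact p.Prime] {P Q M : Subgroup G} (hP : IsPGroup p P)
    (hQ : IsPGroup p Q) (hPQ : P ≤ normalizer (Q : Set G)) (hMQ : M ≤ normalizer (Q : Set G))
    (hgen : pPrimeElemClosure p M = M) (hMP : M ≤ centralizer (P : Set G))
    (hfix : M ≤ centralizer ((Q ⊓ centralizer (P : Set G) : Subgroup G) : Set G)) :
    M ≤ centralizer (Q : Set G) := by
  conv_lhs => rw [← hgen]
  rw [pPrimeElemClosure, closure_le]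
  rintro x ⟨hxM, hx⟩
  rw [SetLike.mem_coe, mem_centralizer_iff]
  intro q hq
  refine (axb hP hQ hPQ (hMQ hxM) hx (fun y hy => (mem_centralizer_iff.1 (hMP hxM) y hy).symm) ?_ q hq).eq.symm
  intro c hc hcP
  refine (mem_centralizer_iff.1 (hfix hxM) c ⟨hc, mem_centralizer_iff.2 fun y hy => (hcP y hy).eq.symm⟩).symm

end CfsgLib.Cores
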