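import Cfsg.Agent.Lib.Cores.Local
import Cfsg.Agent.Lib.Solvable.Fitting
import Cfsg.Agent.Lib.Solvable.Basic

/-!
Balance from `p`-constraint of centralizers.
-/

namespace CfsgLib.Cores

open Subgroup Cfsg

variable {G : Type*} [Group G] [Finite G] {p : ℕ} [hp : Fact p.Prime]

/-- In a `p`-constrained group, a `p'`-subgroup centralizing a `p`-subgroup `P` and normalized by
`C(P)` lies in the `p'`-core. -/
theorem le_pPrimeCore_of_constrained (hG : IsPConstrained p G) {P D : Subgroup G} (hP : IsPGroup p P)
    (hD : (Nat.card D).Coprime p) (hDP : D ≤ centralizer (P : Set G))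
    (hDn : centralizer (P : Set G) ≤ normalizer (D : Set G)) : D ≤ pPrimeCore p G := by
  set π := QuotientGroup.mk' (pPrimeCore p G)
  set R := pCore p (G ⧸ pPrimeCore p G) with hR
  have hD' : (Nat.card (D.map π)).Coprime p := hD.coprime_dvd_left (card_map_dvd D π)
  have hdis : D.map π ⊓ R ≤ ⊥ := by
    obtain ⟨n, hn⟩ := card_pCore_eq_pow (G := G ⧸ pPrimeCore p G) p
    exact (disjoint_of_coprime_natCard (H := D.map π) (K := R) (by rw [hR, hn]; exact hD'.pow_right n)).le_bot
  have hCP : (centralizer (P : Set G)).map π = centralizer ((P.map π : Subgroup (G ⧸ pPrimeCore p G)) : Set (G ⧸ pPrimeCore p G)) :=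
    map_mk'_centralizer_of_coprime hP (coprime_card_pPrimeCore p)
  have hn : centralizer ((P.map π : Subgroup (G ⧸ pPrimeCore p G)) : Set (G ⧸ pPrimeCore p G)) ≤
      normalizer ((D.map π : Subgroup (G ⧸ pPrimeCore p G)) : Set (G ⧸ pPrimeCore p G)) :=
    hCP ▸ (map_mono hDn).trans (le_normalizer_map _)
  have h1 : D.map π ≤ centralizer (R : Set _) := by
    refine axb_le_centralizer (hP.map π) (isPGroup_pCore p) ?_ ?_
      (pPrimeElemClosure_eq_self_of_coprime hD') ((map_mono hDP).trans hCP.le) ?_
    · rw [normalizer_eq_top]; exact le_top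
    · rw [normalizer_eq_top]; exact le_top
    · rw [← commutator_eq_bot_iff_le_centralizer, eq_bot_iff]
      refine le_trans (le_inf ?_ ?_) hdis
      · rw [commutator_comm]
        exact le_normalizer_iff_commutator_le_right.1 (inf_le_right.trans hn)
      · exact (commutator_mono le_rfl inf_le_left).trans (commutator_le_right _ R)
  have h2 : D.map π = ⊥ := eq_bot_iff.2 ((le_inf le_rfl (h1.trans (isPConstrained_iff.1 hG))).trans hdis)
  rwa [Subgroup.map_eq_bot_iff, QuotientGroup.ker_mk'] at h2

theorem isPConstrained_of_isSolvable [Group.IsSolvable G] : IsPConstrained p G :=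
  isPConstrained_iff.2 (Solvable.centralizer_pCore_le p (pPrimeCore_quotient_self p))

omit [Finite G] hp in
theorem isPGroup_zpowers_of_orderOf_eq {x : G} (hx : orderOf x = p) : IsPGroup p (zpowers x) :=
  IsPGroup.of_card (n := 1) (by rw [Nat.card_zpowers, hx, pow_one])

omit [Finite G] hp in
theorem centralizerPPrimeCore_le (x : G) : centralizerPPrimeCore p x ≤ centralizer ({x} : Set G) :=
  map_subtype_le _

omit hp in
theorem card_centralizerPPrimeCore_coprime (x : G) : (Nat.card (centralizerPPrimeCore p x)).Coprime p :=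
  card_map_pPrimeCore_coprime _

omit [Finite G] hp in
theorem conj_mem_centralizerPPrimeCore {x c d : G} (hc : c * x = x * c)
    (hd : d ∈ centralizerPPrimeCore p x) : c * d * c⁻¹ ∈ centralizerPPrimeCore p x := by
  obtain ⟨e, he, rfl⟩ := hd
  exact ⟨⟨c, mem_centralizer_singleton_iff.2 hc⟩ * e * ⟨c, mem_centralizer_singleton_iff.2 hc⟩⁻¹,
    Normal.conj_mem inferInstance e he _, rfl⟩

omit [Finite G] hp in
/-- A `p'`-subgroup of `C(x)` normalized by `C(x)` is in `O_{p'}(C(x))`. -/
theorem le_centralizerPPrimeCore {x : G} {D : Subgroup G} (hD : D ≤ centralizer ({x} : Set G))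
    (hc : (Nat.card D).Coprime p) (hn : centralizer ({x} : Set G) ≤ normalizer (D : Set G)) :
    D ≤ centralizerPPrimeCore p x := by
  have : (D.subgroupOf (centralizer ({x} : Set G))).Normal := (normal_subgroupOf_iff_le_normalizer hD).2 hn
  rw [← map_subgroupOf_eq_of_le hD]
  exact map_mono (le_pPrimeCore (by rwa [Nat.card_congr (subgroupOfEquivOfLe hD).toEquiv]))

/-- Balance: if `C(y)` is `p`-constrained and the `p`-element `x` commutes with `y`. -/
theorem balance_of_constrained {x y : G} (hx : IsPGroup p (zpowers x)) (hxy : x * y = y * x)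
    (hC : IsPConstrained p ↥(centralizer ({y} : Set G))) :
    centralizerPPrimeCore p x ⊓ centralizer ({y} : Set G) ≤ centralizerPPrimeCore p y := by
  set X := centralizer ({y} : Set G)
  set D := centralizerPPrimeCore p x ⊓ X with hD
  have hxX : zpowers x ≤ X := zpowers_le.2 (mem_centralizer_singleton_iff.2 hxy)
  have hDX : D ≤ X := inf_le_right
  rw [← map_subgroupOf_eq_of_le hDX]
  refine map_mono (le_pPrimeCore_of_constrained hC (P := (zpowers x).subgroupOf X)
    (hx.of_equiv (subgroupOfEquivOfLe hxX).symm) ?_ ?_ ?_)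
  · rw [Nat.card_congr (subgroupOfEquivOfLe (inf_le_right : D ≤ X)).toEquiv]
    exact (card_centralizerPPrimeCore_coprime x).coprime_dvd_left (card_dvd_of_le inf_le_left)
  · intro d hd
    rw [mem_centralizer_iff]
    rintro ⟨z, hzX⟩ ⟨i, rfl⟩
    apply Subtype.ext
    show x ^ i * (d : G) = (d : G) * x ^ i
    have h1 : (d : G) * x = x * d :=
      mem_centralizer_singleton_iff.1 (centralizerPPrimeCore_le x hd.1)
    exact (Commute.zpow_right h1 i).eq.symm
  · refine Solvable.le_normalizer_of_conj_mem fun c hc d hd => ?_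
    have h1 : (c : G) * x = x * c :=
      (congrArg Subtype.val (mem_centralizer_iff.1 hc ⟨x, hxX (mem_zpowers x)⟩ (mem_zpowers x))).symm
    exact ⟨conj_mem_centralizerPPrimeCore h1 hd.1, X.mul_mem (X.mul_mem c.2 d.2) (X.inv_mem c.2)⟩

end CfsgLib.Cores
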