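import Cfsg.Agent.Lib.LocalEven.CoprimeGeneration
import Cfsg.Agent.Lib.PGroup.ElemAbelian

/-!
Generation of coprime operated groups by centralizers of subgroups of bounded index.
-/

namespace CfsgLib.Cores

open Subgroup Cfsg

variable {G : Type*} [Group G] [Finite G] {p : ℕ} [hp : Fact p.Prime]

/-- If `R` contains the fixed points in the `p'`-group `X` of every subgroup of index at most `p` of the
elementary abelian group `A`, it contains those of every subgroup of `A`. -/
theorem inf_centralizer_le_of_hyperplanes {A X R : Subgroup G} (hA : IsElementaryAbelian p A)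
    (hX : (Nat.card X).Coprime p) (hAX : A ≤ normalizer (X : Set G))
    (hR : ∀ B ≤ A, B.relIndex A ≤ p → X ⊓ centralizer (B : Set G) ≤ R) :
    ∀ B ≤ A, X ⊓ centralizer (B : Set G) ≤ R := by
  intro B
  induction B using WellFoundedGT.induction with
  | _ B ih =>
    intro hB
    by_cases hidx : B.relIndex A ≤ p
    · exact hR B hB hidx
    have hone : ∀ a ∈ A, a ∉ B → Nat.card ↥(B ⊔ zpowers a) = Nat.card B * p := by
      intro a ha haB
      have hord : orderOf a = p := orderOf_eq_prime (hA.2 a ha) (fun e => haB (e ▸ one_mem B))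
      have hd : B ⊓ zpowers a = ⊥ := by
        have h2 : (B ⊓ zpowers a).subgroupOf (zpowers a) = ⊥ ∨ (B ⊓ zpowers a).subgroupOf (zpowers a) = ⊤ :=
          haveI : Fact (Nat.card ↥(zpowers a)).Prime := ⟨by rw [Nat.card_zpowers, hord]; exact hp.out⟩
          eq_bot_or_eq_top_of_prime_card _
        rcases h2 with h | h
        · rwa [subgroupOf_eq_bot, disjoint_iff, inf_assoc, inf_idem] at h
        · exact absurd ((subgroupOf_eq_top.1 h) (mem_zpowers a)).1 haB
      have hn : zpowers a ≤ normalizer (B : Set G) := zpowers_le.2 (centralizer_le_normalizer _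
        (mem_centralizer_iff.2 fun y hy => PGroup.elemAb_comm hA (hB hy) ha))
      rw [Solvable.card_sup_of_disjoint hn hd, Nat.card_zpowers, hord]
    obtain ⟨x, hx, hxB⟩ : ∃ x ∈ A, x ∉ B := by
      by_contra hc
      push Not at hc
      exact hidx ((relIndex_eq_one.2 hc).le.trans hp.out.pos)
    obtain ⟨y, hy, hyB⟩ : ∃ y ∈ A, y ∉ B ⊔ zpowers x := by
      by_contra hc
      push Not at hc
      apply hidx
      have heq : B ⊔ zpowers x = A := le_antisymm (sup_le hB (zpowers_le.2 hx)) hc
      have h1 := hone x hx hxB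
      rw [heq, ← relIndex_bot_left, ← relIndex_bot_left, ← relIndex_mul_relIndex ⊥ B A bot_le hB] at h1
      exact (Nat.eq_of_mul_eq_mul_left (Nat.pos_of_ne_zero (by rw [relIndex_bot_left]; exact Nat.card_pos.ne')) h1).le
    have hlt : ∀ z ∈ A, z ∉ B → X ⊓ centralizer (B : Set G) ⊓ centralizer ({z} : Set G) ≤ R := by
      intro z hz hzB
      have hlt : B < B ⊔ zpowers z :=
        lt_of_le_of_ne le_sup_left fun e => hzB (e ▸ mem_sup_right (mem_zpowers z))
      refine le_trans ?_ (ih _ hlt (sup_le hB (zpowers_le.2 hz)))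
      refine le_inf (inf_le_left.trans inf_le_left) ?_
      intro c hc
      have hle : B ⊔ zpowers z ≤ centralizer ({c} : Set G) := by
        refine sup_le (fun b hb => ?_) (zpowers_le.2 ?_) <;> rw [mem_centralizer_singleton_iff]
        · exact mem_centralizer_iff.1 hc.1.2 b hb
        · exact (mem_centralizer_singleton_iff.1 hc.2).symm
      exact mem_centralizer_iff.2 fun b hb => mem_centralizer_singleton_iff.1 (hle hb)
    have hn : A ≤ normalizer ((X ⊓ centralizer (B : Set G) : Subgroup G) : Set G) :=
      Solvable.le_normalizer_inf hAX (le_trans (fun a ha => centralizer_le_normalizer _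
        (mem_centralizer_iff.2 fun b hb => PGroup.elemAb_comm hA (hB hb) ha))
        (Solvable.normalizer_le_normalizer_centralizer B))
    refine LocalEven.le_of_line_centralizers (hA.2 x hx) (hA.2 y hy) (PGroup.elemAb_comm hA hx hy)
      (hX.coprime_dvd_left (card_dvd_of_le inf_le_left)) (hn hx) (hn hy) (hlt x hx hxB) fun i => hlt _ ?_ ?_
    · exact mul_mem hy (pow_mem hx i)
    · intro h
      apply hyB
      have := mul_mem (mem_sup_left (T := zpowers x) h) (inv_mem (mem_sup_right (pow_mem (mem_zpowers x) i)))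
      rwa [mul_inv_cancel_right] at this

theorem le_of_hyperplanes {A X R : Subgroup G} (hA : IsElementaryAbelian p A)
    (hX : (Nat.card X).Coprime p) (hAX : A ≤ normalizer (X : Set G))
    (hR : ∀ B ≤ A, B.relIndex A ≤ p → X ⊓ centralizer (B : Set G) ≤ R) : X ≤ R := by
  refine le_trans (le_inf le_rfl fun x _ => ?_) (inf_centralizer_le_of_hyperplanes hA hX hAX hR ⊥ bot_le)
  rw [mem_centralizer_iff]
  rintro _ rfl
  simp

end CfsgLib.Cores
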