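import Cfsg.Agent.Lib.Cores.BalanceAut
import Cfsg.Agent.Lib.Cores.CoprimeGen
import Cfsg.Prelude.Def_Balance

/-!
Signalizer functors on a connected rank 2 commuting graph.
-/

namespace CfsgLib.Cores

open Subgroup Cfsg

variable {G : Type*} [Group G] [Finite G] {p : ℕ} [hp : Fact p.Prime]

/-- `θ` generates a `p'`-group with the right centralizers on every elementary abelian group of rank at least 3. -/
def IsCompleteOnRankThree (p : ℕ) (θ : G → Subgroup G) : Prop :=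
  ∀ A : Subgroup G, IsElementaryAbelian p A → p ^ 3 ≤ Nat.card A →
    ¬ p ∣ Nat.card ↥(⨆ a : {a : G // a ∈ A ∧ a ≠ 1}, θ a) ∧
      (∀ b ∈ A, ∀ x ∈ ⨆ a : {a : G // a ∈ A ∧ a ≠ 1}, θ a, b * x * b⁻¹ ∈ ⨆ a : {a : G // a ∈ A ∧ a ≠ 1}, θ a) ∧
      ∀ a ∈ A, a ≠ 1 → (⨆ b : {a : G // a ∈ A ∧ a ≠ 1}, θ b) ⊓ centralizer {a} = θ a

theorem not_pRankLE_two_iff : ¬ PRankLE p 2 G ↔ ∃ A : Subgroup G, IsElementaryAbelian p A ∧ p ^ 3 ≤ Nat.card A := by
  constructor
  · intro h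
    unfold PRankLE at h
    push Not at h
    obtain ⟨A, hA, hA2, hc⟩ := h
    obtain ⟨n, hn⟩ := IsPGroup.iff_card.1 (PGroup.elemAb_isPGroup (⟨hA, hA2⟩ : IsElementaryAbelian p A))
    refine ⟨A, ⟨hA, hA2⟩, ?_⟩
    rw [hn] at hc ⊢
    exact Nat.pow_le_pow_right hp.out.pos ((Nat.pow_lt_pow_iff_right hp.out.one_lt).1 hc)
  · rintro ⟨A, ⟨hA, hA2⟩, hc⟩ h
    have := hc.trans (h A hA hA2)
    exact absurd ((Nat.pow_le_pow_iff_right hp.out.one_lt).1 this) (by omega)

omit [Finite G] hp in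
theorem elemAb_sup {A B : Subgroup G} (hA : IsElementaryAbelian p A) (hB : IsElementaryAbelian p B)
    (h : ∀ a ∈ A, ∀ b ∈ B, a * b = b * a) : IsElementaryAbelian p (A ⊔ B) := by
  have hn : B ≤ normalizer (A : Set G) := fun b hb => centralizer_le_normalizer _
    (mem_centralizer_iff.2 fun a ha => h a ha b hb)
  refine PGroup.isElementaryAbelian_mk ?_ ?_
  · intro x hx y hy
    obtain ⟨a, ha, b, hb, rfl⟩ := Solvable.exists_mul_of_mem_sup hn hx
    obtain ⟨c, hc, d, hd, rfl⟩ := Solvable.exists_mul_of_mem_sup hn hy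
    exact (((show Commute a c from PGroup.elemAb_comm hA ha hc).mul_right (h a ha d hd)).mul_left
      ((show Commute b c from (h c hc b hb).symm).mul_right (PGroup.elemAb_comm hB hb hd))).eq
  · intro x hx
    obtain ⟨a, ha, b, hb, rfl⟩ := Solvable.exists_mul_of_mem_sup hn hx
    rw [(show Commute a b from h a ha b hb).mul_pow, hA.2 a ha, hB.2 b hb, one_mul]

/-- An elementary abelian subgroup of rank at least 3 consists of elements with `3`-rank centralizers. -/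
theorem not_pRankLE_centralizer {A : Subgroup G} (hA : IsElementaryAbelian p A) (hA3 : p ^ 3 ≤ Nat.card A)
    {S : Set G} (hS : S ⊆ A) : ¬ PRankLE p 2 ↥(centralizer S) := by
  rw [not_pRankLE_two_iff]
  have hle : A ≤ centralizer S := fun a ha => mem_centralizer_iff.2 fun s hs => PGroup.elemAb_comm hA (hS hs) ha
  exact ⟨A.subgroupOf _, PGroup.elemAb_subgroupOf hA, by rwa [Nat.card_congr (subgroupOfEquivOfLe hle).toEquiv]⟩

theorem exists_rankThree_ge {E : Subgroup G} (hE : IsElementaryAbelian p E)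
    (h : ¬ PRankLE p 2 ↥(centralizer (E : Set G))) :
    ∃ A : Subgroup G, IsElementaryAbelian p A ∧ p ^ 3 ≤ Nat.card A ∧ E ≤ A := by
  obtain ⟨A, hA, hA3⟩ := not_pRankLE_two_iff.1 h
  refine ⟨E ⊔ A.map (centralizer (E : Set G)).subtype, elemAb_sup hE (PGroup.elemAb_map hA _) ?_, ?_, le_sup_left⟩
  · rintro e he _ ⟨a, -, rfl⟩
    exact mem_centralizer_iff.1 a.2 e he
  · refine hA3.trans ?_
    rw [← card_map_of_injective (centralizer (E : Set G)).subtype_injective]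
    exact card_le_of_le le_sup_right

omit [Finite G] hp in
/-- The group generated by the `θ e`. -/
def thetaClosure (θ : G → Subgroup G) (E : Subgroup G) : Subgroup G :=
  ⨆ a : {a : G // a ∈ E ∧ a ≠ 1}, θ a

omit [Finite G] hp in
theorem thetaClosure_mono {θ : G → Subgroup G} {E A : Subgroup G} (h : E ≤ A) :
    thetaClosure θ E ≤ thetaClosure θ A :=
  iSup_le fun a => le_iSup (fun a : {a : G // a ∈ A ∧ a ≠ 1} => θ a) ⟨a, h a.2.1, a.2.2⟩

theorem thetaClosure_eq_of_le {θ : G → Subgroup G} (hcomp : IsCompleteOnRankThree p θ) {E A : Subgroup G}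
    (hA : IsElementaryAbelian p A) (hA3 : p ^ 3 ≤ Nat.card A) (hEA : E ≤ A) (hE2 : p ^ 2 ≤ Nat.card E) :
    thetaClosure θ E = thetaClosure θ A := by
  refine le_antisymm (thetaClosure_mono hEA) ?_
  obtain ⟨hpW, hinv, hC⟩ := hcomp A hA hA3
  refine le_of_hyperplanes (PGroup.elemAb_mono hA hEA)
    ((coprime_iff_not_dvd hp.out _).2 hpW)
    (Solvable.le_normalizer_of_conj_mem fun b hb x hx => hinv b (hEA hb) x hx) fun B hB hidx => ?_
  obtain ⟨b, hb, hb1⟩ := B.bot_or_exists_ne_one.resolve_left fun h => by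
    rw [h, relIndex_bot_left] at hidx
    have := hE2.trans hidx
    rw [pow_two] at this
    nlinarith [hp.out.two_le]
  refine le_trans (inf_le_inf_left _ (centralizer_le (Set.singleton_subset_iff.2 hb))) ?_
  rw [show thetaClosure θ A ⊓ centralizer {b} = θ b from hC b (hEA (hB hb)) hb1]
  exact le_iSup (fun a : {a : G // a ∈ E ∧ a ≠ 1} => θ a) ⟨b, hB hb, hb1⟩

/-- A complete equivariant `θ` on a connected rank 2 graph is trivial when `O_{p'}(G) = 1`. -/
theorem theta_eq_bot_of_connected (hO : pPrimeCore p G = ⊥) (hconn : IsRankGraphConnected p 2 G)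
    {θ : G → Subgroup G} (hcomp : IsCompleteOnRankThree p θ)
    (heq : ∀ a g : G, (orderOf a = p ∧ ¬ PRankLE p 2 ↥(centralizer ({a} : Set G))) →
      θ (g * a * g⁻¹) = (θ a).map (MulAut.conj g).toMonoidHom)
    {a : G} (ha : orderOf a = p ∧ ¬ PRankLE p 2 ↥(centralizer ({a} : Set G))) : θ a = ⊥ := by
  have hgood : ∀ (A : Subgroup G), IsElementaryAbelian p A → p ^ 3 ≤ Nat.card A → ∀ x ∈ A, x ≠ 1 →
      (orderOf x = p ∧ ¬ PRankLE p 2 ↥(centralizer ({x} : Set G))) := fun A hA hA3 x hx hx1 =>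
    ⟨orderOf_eq_prime (hA.2 x hx) hx1, not_pRankLE_centralizer hA hA3 (Set.singleton_subset_iff.2 hx)⟩
  have hvert : ∀ (A : Subgroup G), IsElementaryAbelian p A → p ^ 3 ≤ Nat.card A → IsRankGraphVertex p 2 A :=
    fun A hA hA3 => ⟨hA, le_trans (Nat.pow_le_pow_right hp.out.pos (by omega)) hA3,
      not_pRankLE_centralizer hA hA3 le_rfl⟩
  -- `W` is constant on the graph
  have hconst : ∀ E E' : Subgroup G, IsRankGraphVertex p 2 E → IsRankGraphVertex p 2 E' →
      thetaClosure θ E = thetaClosure θ E' := by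
    intro E E' hE hE'
    induction hconn E E' hE hE' with
    | refl => rfl
    | @tail X Y _ hXY ih =>
      rw [ih hXY.1]
      obtain ⟨hX, hY, hc⟩ := hXY
      have hel := elemAb_sup hX.1 hY.1 hc
      by_cases h3 : p ^ 3 ≤ Nat.card ↥(X ⊔ Y)
      · rw [thetaClosure_eq_of_le hcomp hel h3 le_sup_left hX.2.1,
          thetaClosure_eq_of_le hcomp hel h3 le_sup_right hY.2.1]
      · obtain ⟨n, hn⟩ := PGroup.elemAb_card hel
        rw [hn, Nat.pow_le_pow_iff_right hp.out.one_lt] at h3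
        have hle : Nat.card ↥(X ⊔ Y) ≤ p ^ 2 := hn ▸ Nat.pow_le_pow_right hp.out.pos (by omega)
        have e1 : X = X ⊔ Y := eq_of_le_of_card_ge le_sup_left (hle.trans hX.2.1)
        have e2 : Y = X ⊔ Y := eq_of_le_of_card_ge le_sup_right (hle.trans hY.2.1)
        rw [e1.trans e2.symm]
  obtain ⟨A, hA, hA3, haA⟩ := exists_rankThree_ge (elemAb_zpowers ha.1) (by
    rw [centralizer_zpowers']; exact ha.2)
  set W := thetaClosure θ A with hW
  obtain ⟨hpW, -, -⟩ := hcomp A hA hA3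
  have hWn : W.Normal := by
    refine ⟨fun x hx g => ?_⟩
    set A' := A.map (MulAut.conj g).toMonoidHom
    have hA' : IsElementaryAbelian p A' := PGroup.elemAb_map hA _
    have hA'3 : p ^ 3 ≤ Nat.card A' := by rwa [card_map_of_injective (MulAut.conj g).injective]
    rw [hW, hconst A A' (hvert A hA hA3) (hvert A' hA' hA'3)]
    have hle : W.map (MulAut.conj g).toMonoidHom ≤ thetaClosure θ A' := by
      rw [hW, thetaClosure, Subgroup.map_iSup]
      refine iSup_le fun b => ?_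
      rw [← heq b g (hgood A hA hA3 b b.2.1 b.2.2)]
      exact le_iSup (fun a : {a : G // a ∈ A' ∧ a ≠ 1} => θ a)
        ⟨g * b * g⁻¹, ⟨b, b.2.1, rfl⟩, fun e => b.2.2 (conj_eq_one_iff.1 e)⟩
    exact hle ⟨x, hx, rfl⟩
  have hbot : W ≤ ⊥ := hO ▸ le_pPrimeCore ((coprime_iff_not_dvd hp.out _).2 hpW)
  have ha1 : a ≠ 1 := fun e => by rw [e, orderOf_one] at ha; exact hp.out.one_lt.ne ha.1
  exact le_bot_iff.1 ((le_iSup (fun x : {x : G // x ∈ A ∧ x ≠ 1} => θ x) ⟨a, haA (mem_zpowers a), ha1⟩).trans hbot)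

omit hp in
theorem centralizerPPrimeCore_conj (a g : G) :
    centralizerPPrimeCore p (g * a * g⁻¹) = (centralizerPPrimeCore p a).map (MulAut.conj g).toMonoidHom := by
  refine le_antisymm ?_ (map_centralizerPPrimeCore_equiv_le (MulAut.conj g) a)
  intro x hx
  have h := map_centralizerPPrimeCore_equiv_le (p := p) (MulAut.conj g⁻¹) (g * a * g⁻¹) ⟨x, hx, rfl⟩
  rw [show (MulAut.conj g⁻¹) (g * a * g⁻¹) = a by simp [mul_assoc]] at h
  refine ⟨_, h, ?_⟩
  simp [mul_assoc]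

/-- The solvable signalizer functor theorem for `G`, in the form used here. -/
def SolvableSignalizerTheorem (p : ℕ) (G : Type*) [Group G] : Prop :=
  ∀ (A : Subgroup G), (∀ a ∈ A, ∀ b ∈ A, a * b = b * a) → (∀ a ∈ A, a ^ p = 1) → p ^ 3 ≤ Nat.card A →
    ∀ θ : G → Subgroup G, (∀ a ∈ A, a ≠ 1 → θ a ≤ centralizer {a}) → (∀ a ∈ A, a ≠ 1 → ¬ p ∣ Nat.card (θ a)) →
      (∀ a ∈ A, a ≠ 1 → ∀ b ∈ A, ∀ x ∈ θ a, b * x * b⁻¹ ∈ θ a) →
      (∀ a ∈ A, a ≠ 1 → Group.IsSolvable (θ a)) →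
      (∀ a ∈ A, a ≠ 1 → ∀ b ∈ A, b ≠ 1 → θ a ⊓ centralizer {b} ≤ θ b) →
      ¬ p ∣ Nat.card ↥(⨆ a : {a : G // a ∈ A ∧ a ≠ 1}, θ a) ∧
        ∀ a ∈ A, a ≠ 1 → (⨆ b : {a : G // a ∈ A ∧ a ≠ 1}, θ b) ⊓ centralizer {a} = θ a

/-- A balanced equivariant solvable `θ` on a connected rank 2 graph is trivial when `O_{p'}(G) = 1`. -/
theorem theta_eq_bot_of_balance (hT : SolvableSignalizerTheorem p G) (hO : pPrimeCore p G = ⊥)
    (hconn : IsRankGraphConnected p 2 G) (θ : G → Subgroup G)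
    (hC : ∀ a : G, (orderOf a = p ∧ ¬ PRankLE p 2 ↥(centralizer ({a} : Set G))) →
      θ a ≤ centralizer ({a} : Set G) ∧ ¬ p ∣ Nat.card ↥(θ a) ∧ Group.IsSolvable ↥(θ a))
    (heq : ∀ a g : G, (orderOf a = p ∧ ¬ PRankLE p 2 ↥(centralizer ({a} : Set G))) →
      θ (g * a * g⁻¹) = (θ a).map (MulAut.conj g).toMonoidHom)
    (hbal : ∀ a b : G, (orderOf a = p ∧ ¬ PRankLE p 2 ↥(centralizer ({a} : Set G))) →
      (orderOf b = p ∧ ¬ PRankLE p 2 ↥(centralizer ({b} : Set G))) →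
      a * b = b * a → θ a ⊓ centralizer {b} ≤ θ b)
    {a : G} (ha : orderOf a = p ∧ ¬ PRankLE p 2 ↥(centralizer ({a} : Set G))) : θ a = ⊥ := by
  refine theta_eq_bot_of_connected hO hconn (fun A hA hA3 => ?_) heq ha
  have hg : ∀ x ∈ A, x ≠ 1 → (orderOf x = p ∧ ¬ PRankLE p 2 ↥(centralizer ({x} : Set G))) := fun x hx hx1 =>
    ⟨orderOf_eq_prime (hA.2 x hx) hx1, not_pRankLE_centralizer hA hA3 (Set.singleton_subset_iff.2 hx)⟩
  have hconj : ∀ b ∈ A, ∀ x ∈ A, x ≠ 1 → (θ x).map (MulAut.conj b).toMonoidHom = θ x := by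
    intro b hb x hx hx1
    rw [← heq x b (hg x hx hx1), PGroup.elemAb_comm hA hb hx, mul_inv_cancel_right]
  obtain ⟨h1, h2⟩ := hT A (fun x hx y hy => PGroup.elemAb_comm hA hx hy) hA.2 hA3 θ
    (fun x hx hx1 => (hC x (hg x hx hx1)).1) (fun x hx hx1 => (hC x (hg x hx hx1)).2.1)
    (fun x hx hx1 b hb y hy => (hconj b hb x hx hx1).le ⟨y, hy, rfl⟩)
    (fun x hx hx1 => (hC x (hg x hx hx1)).2.2)
    (fun x hx hx1 y hy hy1 => hbal x y (hg x hx hx1) (hg y hy hy1) (PGroup.elemAb_comm hA hx hy))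
  refine ⟨h1, fun b hb x hx => ?_, h2⟩
  have hle : (⨆ a : {a : G // a ∈ A ∧ a ≠ 1}, θ a).map (MulAut.conj b).toMonoidHom ≤
      ⨆ a : {a : G // a ∈ A ∧ a ≠ 1}, θ a := by
    rw [Subgroup.map_iSup]
    exact iSup_le fun c => (hconj b hb c c.2.1 c.2.2).le.trans (le_iSup (fun a : {a : G // a ∈ A ∧ a ≠ 1} => θ a) c)
  exact hle ⟨x, hx, rfl⟩

/-- Trivial `p`-layers on a connected rank 2 graph force characteristic `p` type centralizers. -/
theorem generalizedFitting_centralizer_of_connected (hT : SolvableSignalizerTheorem p G) (hO : pPrimeCore p G = ⊥)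
    (hconn : IsRankGraphConnected p 2 G)
    (hL : ∀ a : G, (orderOf a = p ∧ ¬ PRankLE p 2 ↥(centralizer ({a} : Set G))) →
      pLayer p ↥(centralizer ({a} : Set G)) = ⊥ ∧ Group.IsSolvable ↥(centralizerPPrimeCore p a))
    {a : G} (ha : orderOf a = p ∧ ¬ PRankLE p 2 ↥(centralizer ({a} : Set G))) :
    generalizedFittingSubgroup ↥(centralizer ({a} : Set G)) = pCore p ↥(centralizer ({a} : Set G)) := by
  have hbot := theta_eq_bot_of_balance hT hO hconn (fun x => centralizerPPrimeCore p x)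
    (fun x hx => ⟨centralizerPPrimeCore_le x,
      (coprime_iff_not_dvd hp.out _).1 (card_centralizerPPrimeCore_coprime x), (hL x hx).2⟩)
    (fun x g _ => centralizerPPrimeCore_conj x g)
    (fun x y hx hy hxy => balance_of_constrained (isPGroup_zpowers_of_orderOf_eq hx.1) hxy
      (isPConstrained_iff_pLayer_eq_bot.2 (hL y hy).1)) ha
  rw [centralizerPPrimeCore, Subgroup.map_eq_bot_iff_of_injective _ (subtype_injective _)] at hbot
  rw [generalizedFittingSubgroup_eq_pCore_iff]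
  refine ⟨hbot, ?_⟩
  rw [layer_eq_bot_iff]
  intro L hLc
  have h1 : IsPComponent p L := isPComponent_of_isComponent hLc fun h => component_ne_bot hLc (le_bot_iff.1 (hbot ▸ h))
  exact component_ne_bot hLc (le_bot_iff.1 ((hL a ha).1 ▸ pComponent_le_pLayer h1))

end CfsgLib.Cores
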