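import Cfsg.Prelude.Def_Balance
import Cfsg.Agent.Lib.PGroup.Basic
import Cfsg.Agent.Lib.PGroup.ElemAbelian
import Cfsg.Agent.Lib.Transfer.CyclicMaximal
import Cfsg.Agent.Lib.Local.AB
import Cfsg.Agent.Lib.Cores.SignalizerConnected

/-!
The graph of elementary abelian subgroups of order at least `p ^ 2` of a `p`-group; `2`-connectedness of `3`-groups
of rank at least `4`.
-/

namespace CfsgLib.RankGraph

open Subgroup Cfsg CfsgLib.PGroup
open scoped commutatorElement

variable {P : Type*} [Group P] [Finite P] {p : ℕ} [hp : Fact p.Prime]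

/-- Two elementary abelian subgroups of order at least `p ^ 2` commuting elementwise. -/
def Adj (p : ℕ) (A B : Subgroup P) : Prop :=
  IsElementaryAbelian p A ∧ p ^ 2 ≤ Nat.card ↥A ∧ IsElementaryAbelian p B ∧ p ^ 2 ≤ Nat.card ↥B ∧
    ∀ a ∈ A, ∀ b ∈ B, a * b = b * a

omit [Finite P] hp in
theorem Adj.symm {A B : Subgroup P} (h : Adj p A B) : Adj p B A :=
  ⟨h.2.2.1, h.2.2.2.1, h.1, h.2.1, fun b hb a ha => (h.2.2.2.2 a ha b hb).symm⟩

/-- A proper subgroup of a `p`-subgroup has order at most a `p`-th of it. -/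
theorem mul_card_le {A B : Subgroup P} (hA : IsPGroup p A) (h : B < A) : p * Nat.card B ≤ Nat.card A := by
  obtain ⟨k, hk⟩ := IsPGroup.iff_card.1 hA
  obtain ⟨j, hj, hB⟩ := (Nat.dvd_prime_pow hp.out).1 (hk ▸ Subgroup.card_dvd_of_le h.le)
  have hlt : j < k := by
    refine lt_of_le_of_ne hj fun hjk => h.ne (Subgroup.eq_of_le_of_card_ge h.le ?_)
    rw [hk, hB, hjk]
  rw [hB, hk, ← pow_succ']
  exact Nat.pow_le_pow_right hp.out.pos hlt

/-- A finite `2`-group of rank at least three has a normal four-group. -/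
theorem exists_normal_four (hP : IsPGroup 2 P) (hrk : ¬ PRankLE 2 2 P) :
    ∃ U : Subgroup P, U.Normal ∧ IsElementaryAbelian 2 U ∧ Nat.card U = 2 ^ 2 := by
  obtain ⟨E, hE, hEc⟩ := Cores.not_pRankLE_two_iff.1 hrk
  obtain ⟨A, -, hAn, hAm, hCA⟩ := exists_normal_abelian_centralizer_eq hP ⊥ inferInstance
    (fun a ha b hb => by rw [Subgroup.mem_bot.1 ha, Subgroup.mem_bot.1 hb])
  have hAc : ∀ a ∈ A, ∀ b ∈ A, a * b = b * a := fun a ha b hb =>
    congrArg Subtype.val (hAm.is_comm.comm ⟨a, ha⟩ ⟨b, hb⟩)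
  by_cases hcyc : IsCyclic A
  swap
  · obtain ⟨k, hk⟩ := IsPGroup.iff_card.1 (hP.to_subgroup (omegaOne 2 A))
    have hk2 : 2 ≤ k := by
      by_contra hlt
      refine hcyc (Transfer.isCyclic_of_omega_le hP hAc ?_)
      rw [hk]
      exact (Nat.pow_le_pow_right (by norm_num) (by omega)).trans (pow_one 2).le
    have := omegaOne_normal 2 A
    obtain ⟨U, hU, hUn, hUc⟩ := Transfer.exists_normal_card_sq hP (K := omegaOne 2 A) (hk ▸ pow_dvd_pow 2 hk2)
    exact ⟨U, hUn, elemAb_mono (elemAb_omegaOne_of_comm hAc) hU, hUc⟩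
  obtain ⟨⟨a, haA⟩, hgen⟩ := hcyc.exists_generator
  have hpow : ∀ y ∈ A, ∃ i : ℤ, a ^ i = y := fun y hy => by
    obtain ⟨i, hi⟩ := hgen ⟨y, hy⟩
    exact ⟨i, by simpa using congrArg Subtype.val hi⟩
  have hCa : ∀ c : P, c * a = a * c → c ∈ A := fun c hc => by
    rw [← hCA, Subgroup.mem_centralizer_iff]
    intro y hy
    obtain ⟨i, rfl⟩ := hpow y hy
    exact ((show Commute c a from hc).zpow_right i).eq.symm
  have hE8 : 8 ≤ Nat.card E := hEc
  have hA1 : A ≠ ⊥ := fun h => by
    have htop : centralizer (A : Set P) = ⊤ := by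
      rw [h]; ext x; simp [Subgroup.mem_centralizer_iff]
    rw [htop, h] at hCA
    have := Subgroup.card_le_of_le (le_top : E ≤ ⊤)
    rw [hCA, Subgroup.card_bot] at this
    omega
  obtain ⟨z, hzA, hzo⟩ := exists_orderOf_eq hP hA1
  have hz1 : z ≠ 1 := fun h => by rw [h, orderOf_one] at hzo; norm_num at hzo
  have hz2 : z ^ 2 = 1 := hzo ▸ pow_orderOf_eq_one z
  have hinv : ∀ y ∈ A, y ^ 2 = 1 → y = 1 ∨ y = z := by
    intro y hy hy2
    rcases eq_or_ne y 1 with h | h
    · exact Or.inl h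
    refine Or.inr ?_
    classical
    have := Fintype.ofFinite A
    by_contra hne
    have hle := IsCyclic.card_pow_eq_one_le (α := A) (n := 2) two_pos
    have hsub : ({1, ⟨y, hy⟩, ⟨z, hzA⟩} : Finset A) ⊆ Finset.univ.filter fun w : A => w ^ 2 = 1 := by
      intro w hw
      simp only [Finset.mem_insert, Finset.mem_singleton] at hw
      simp only [Finset.mem_filter, Finset.mem_univ, true_and]
      rcases hw with rfl | rfl | rfl
      · exact one_pow 2
      · exact Subtype.ext hy2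
      · exact Subtype.ext hz2
    have h3 : ({1, ⟨y, hy⟩, ⟨z, hzA⟩} : Finset A).card = 3 := by
      rw [Finset.card_eq_three]
      exact ⟨_, _, _, fun e => h (congrArg Subtype.val e).symm, fun e => hz1 (congrArg Subtype.val e).symm,
        fun e => hne (congrArg Subtype.val e), rfl⟩
    have := (Finset.card_le_card hsub).trans hle
    omega
  have hzc : ∀ g : P, g * z = z * g := by
    intro g
    have h1 : g * z * g⁻¹ = z := by
      refine (hinv _ (hAn.conj_mem z hzA g) (by rw [conj_pow, hz2, mul_one, mul_inv_cancel])).resolve_left ?_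
      simpa using hz1
    exact mul_inv_eq_iff_eq_mul.1 h1
  obtain ⟨m, hm⟩ := IsPGroup.iff_orderOf.1 hP a
  -- the possible images of `a` under an element of `E`
  have hval : ∀ e ∈ E, e * a * e⁻¹ = a ∨ e * a * e⁻¹ = a * z ∨ e * a * e⁻¹ = a⁻¹ ∨ e * a * e⁻¹ = a⁻¹ * z := by
    intro e he
    obtain ⟨k, hk⟩ := hpow _ (hAn.conj_mem a haA e)
    have hee : e * e = 1 := by rw [← pow_two]; exact hE.2 e he
    have hkk : a ^ (k * k) = a := by
      rw [zpow_mul, hk, conj_zpow, hk]
      rw [show e * (e * a * e⁻¹) * e⁻¹ = (e * e) * a * (e * e)⁻¹ by group, hee, one_mul, inv_one, mul_one]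
    have hdvd : (orderOf a : ℤ) ∣ k * k - 1 := by
      rw [orderOf_dvd_iff_zpow_eq_one, zpow_sub, zpow_one, hkk, mul_inv_cancel]
    rw [hm, Nat.cast_pow, Nat.cast_ofNat] at hdvd
    have hor : ((2 : ℤ) ^ m ∣ 2 * (k - 1)) ∨ ((2 : ℤ) ^ m ∣ 2 * (k + 1)) := by
      rcases le_or_gt m 1 with hm1 | hm1
      · exact Or.inl ((pow_dvd_pow 2 hm1).trans (by simp))
      obtain ⟨j, rfl⟩ | ⟨j, rfl⟩ := Int.even_or_odd k
      · exfalso
        have h2 : (2 : ℤ) ∣ (j + j) * (j + j) - 1 := (dvd_pow_self 2 (by omega)).trans hdvd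
        have h3 : (2 : ℤ) ∣ (j + j) * (j + j) := ⟨2 * j * j, by ring⟩
        have := dvd_sub h3 h2
        norm_num at this
      · obtain ⟨n, rfl⟩ : ∃ n, m = n + 2 := ⟨m - 2, by omega⟩
        have h4 : (2 : ℤ) ^ n ∣ j * (j + 1) := by
          rw [show (2 * j + 1) * (2 * j + 1) - 1 = 2 ^ 2 * (j * (j + 1)) by ring, pow_add, mul_comm] at hdvd
          exact (mul_dvd_mul_iff_left (by norm_num)).1 hdvd
        have h2p : Prime (2 : ℤ) := Int.prime_two
        rcases Int.even_or_odd j with ⟨i, hi⟩ | ⟨i, hi⟩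
        · have hco : IsCoprime ((2 : ℤ) ^ n) (j + 1) := IsCoprime.pow_left ⟨-i, 1, by rw [hi]; ring⟩
          have := hco.dvd_of_dvd_mul_right h4
          refine Or.inl ?_
          rw [pow_add, show (2 : ℤ) * (2 * j + 1 - 1) = j * 2 ^ 2 by ring]
          exact mul_dvd_mul_right this _
        · have hco : IsCoprime ((2 : ℤ) ^ n) j := IsCoprime.pow_left ⟨-i, 1, by rw [hi]; ring⟩
          have := hco.dvd_of_dvd_mul_left h4
          refine Or.inr ?_
          rw [pow_add, show (2 : ℤ) * (2 * j + 1 + 1) = (j + 1) * 2 ^ 2 by ring]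
          exact mul_dvd_mul_right this _
    have hsq : ∀ l : ℤ, (2 : ℤ) ^ m ∣ 2 * l → a ^ l = 1 ∨ a ^ l = z := by
      intro l hl
      refine hinv _ (zpow_mem haA l) ?_
      rw [← zpow_natCast, ← zpow_mul, ← orderOf_dvd_iff_zpow_eq_one, hm]
      push_cast
      rwa [mul_comm]
    rcases hor with h | h
    · rcases hsq _ h with h1 | h1 <;> rw [zpow_sub, zpow_one, hk] at h1
      · exact Or.inl (mul_inv_eq_one.1 h1)
      · exact Or.inr (Or.inl (by rw [mul_inv_eq_iff_eq_mul] at h1; rw [h1, hzc a]))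
    · rcases hsq _ h with h1 | h1 <;> rw [zpow_add, zpow_one, hk] at h1
      · exact Or.inr (Or.inr (Or.inl (eq_inv_of_mul_eq_one_left h1)))
      · exact Or.inr (Or.inr (Or.inr (by rw [hzc a⁻¹, ← h1, mul_inv_cancel_right])))
  -- the elements of `E` outside `A` do not all act alike
  have hK1 : ∀ v : P, ∃ e ∈ E, e ∉ A ∧ e * a * e⁻¹ ≠ v := by
    intro v
    by_contra hcon
    push Not at hcon
    have hsmall : ∃ e₀ : P, (E : Set P) ⊆ {1, z, e₀, e₀ * z} := by
      by_cases h0 : ∃ e₀ ∈ E, e₀ ∉ A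
      · obtain ⟨e₀, he₀, he₀A⟩ := h0
        refine ⟨e₀, fun e he => ?_⟩
        simp only [Set.mem_insert_iff, Set.mem_singleton_iff]
        by_cases heA : e ∈ A
        · rcases hinv e heA (hE.2 e he) with h | h <;> simp [h]
        · have h2 : e₀⁻¹ * e ∈ A := hCa _ (by
            have h3 := (hcon e he heA).trans (hcon e₀ he₀ he₀A).symm
            calc e₀⁻¹ * e * a = e₀⁻¹ * (e * a * e⁻¹) * e := by group
              _ = e₀⁻¹ * (e₀ * a * e₀⁻¹) * e := by rw [h3]
              _ = a * (e₀⁻¹ * e) := by group)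
          rcases hinv _ h2 (hE.2 _ (E.mul_mem (E.inv_mem he₀) he)) with h | h
          · rw [inv_mul_eq_one] at h
            simp [h]
          · rw [inv_mul_eq_iff_eq_mul] at h
            simp [h]
      · push Not at h0
        refine ⟨1, fun e he => ?_⟩
        rcases hinv e (h0 e he) (hE.2 e he) with h | h <;> simp [h]
    obtain ⟨e₀, hs⟩ := hsmall
    have hle : (E : Set P).ncard ≤ 4 := by
      refine (Set.ncard_le_ncard hs (Set.toFinite _)).trans ?_
      refine (Set.ncard_insert_le _ _).trans (Nat.add_le_add_right ?_ 1)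
      refine (Set.ncard_insert_le _ _).trans (Nat.add_le_add_right ?_ 1)
      refine (Set.ncard_insert_le _ _).trans (Nat.add_le_add_right ?_ 1)
      exact (Set.ncard_singleton _).le
    rw [← Nat.card_coe_set_eq] at hle
    exact absurd (hE8.trans hle) (by norm_num)
  -- some element acts as `a ↦ a * z`
  have hone : ∃ e ∈ E, e * a * e⁻¹ = a * z := by
    obtain ⟨e, he, heA, hev⟩ := hK1 a⁻¹
    obtain ⟨e', he', heA', hev'⟩ := hK1 (a⁻¹ * z)
    rcases hval e he with h | h | h | h
    · exact absurd (hCa e (mul_inv_eq_iff_eq_mul.1 h)) heA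
    · exact ⟨e, he, h⟩
    · exact absurd h hev
    rcases hval e' he' with h' | h' | h' | h'
    · exact absurd (hCa e' (mul_inv_eq_iff_eq_mul.1 h')) heA'
    · exact ⟨e', he', h'⟩
    · refine ⟨e * e', E.mul_mem he he', ?_⟩
      calc e * e' * a * (e * e')⁻¹ = e * (e' * a * e'⁻¹) * e⁻¹ := by group
        _ = (e * a * e⁻¹)⁻¹ := by rw [h']; group
        _ = a * z := by
          rw [h, mul_inv_rev, inv_inv, show z⁻¹ = z from inv_eq_of_mul_eq_one_right (by rw [← pow_two]; exact hz2),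
            hzc a]
    · exact absurd h' hev'
  obtain ⟨e, he, hea⟩ := hone
  have hee : e * e = 1 := by rw [← pow_two]; exact hE.2 e he
  have hzz : z * z = 1 := by rw [← pow_two]; exact hz2
  have heA : e ∉ A := fun h => by
    have := hea
    rw [hAc e h a haA, mul_inv_cancel_right, left_eq_mul] at this
    exact hz1 this
  -- `a` has order greater than four
  have ha4 : a ^ (4 : ℤ) ≠ 1 := by
    intro ha
    have haz : a * z = a⁻¹ := by
      have ha2 : (a ^ 2) ^ 2 = 1 := by rw [← pow_mul, ← zpow_natCast]; exact ha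
      rcases hinv _ (pow_mem haA 2) ha2 with h | h
      · rcases hinv a haA h with h1 | h1
        · exact absurd (hCa e (by rw [h1, mul_one, one_mul])) heA
        · exact absurd (hCa e (by rw [h1]; exact hzc e)) heA
      · refine eq_inv_of_mul_eq_one_left ?_
        rw [mul_assoc, ← hzc a, ← mul_assoc, ← pow_two, h, hzz]
    obtain ⟨e', he', heA', hev⟩ := hK1 a⁻¹
    rcases hval e' he' with h | h | h | h
    · exact heA' (hCa e' (mul_inv_eq_iff_eq_mul.1 h))
    · exact hev (h.trans haz)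
    · exact hev h
    · rw [← haz, mul_assoc a, hzz, mul_one] at h
      exact heA' (hCa e' (mul_inv_eq_iff_eq_mul.1 h))
  have hez : ∀ x ∈ zpowers z, ∀ y ∈ zpowers e, x * y = y * x := by
    rintro _ ⟨i, rfl⟩ _ ⟨j, rfl⟩
    exact ((show Commute z e from (hzc e).symm).zpow_zpow i j).eq
  have hU : IsElementaryAbelian 2 (zpowers z ⊔ zpowers e) :=
    elemAb_sup (elemAb_zpowers hz2) (elemAb_zpowers (hE.2 e he)) hez
  refine ⟨zpowers z ⊔ zpowers e, ⟨?_⟩, hU, ?_⟩
  · intro u hu g
    have hgen : (zpowers z ⊔ zpowers e).map (MulAut.conj g).toMonoidHom ≤ zpowers z ⊔ zpowers e := by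
      rw [Subgroup.map_sup, MonoidHom.map_zpowers, MonoidHom.map_zpowers, sup_le_iff, zpowers_le, zpowers_le]
      simp only [MulEquiv.coe_toMonoidHom, MulAut.conj_apply]
      refine ⟨by rw [hzc g, mul_inv_cancel_right]; exact mem_sup_left (mem_zpowers z), ?_⟩
      set c := g * e * g⁻¹ with hc
      obtain ⟨j, hj⟩ := hpow _ (hAn.conj_mem a haA g⁻¹)
      rw [inv_inv] at hj
      have hzj : z ^ j = 1 ∨ z ^ j = z := by
        refine hinv _ (zpow_mem hzA j) ?_
        rw [← zpow_natCast, ← zpow_mul, mul_comm, zpow_mul, zpow_natCast, hz2, one_zpow]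
      have hca : c * a * c⁻¹ = a * z ^ j := by
        calc c * a * c⁻¹ = g * (e * (g⁻¹ * a * g) * e⁻¹) * g⁻¹ := by rw [hc]; group
          _ = g * (e * a * e⁻¹) ^ j * g⁻¹ := by rw [← hj, conj_zpow]
          _ = g * (a ^ j * z ^ j) * g⁻¹ := by
            rw [hea, (show Commute a z from hzc a).mul_zpow]
          _ = a * z ^ j := by
            rw [show g * (a ^ j * z ^ j) * g⁻¹ = (g * a ^ j * g⁻¹) * (g * z ^ j * g⁻¹) by group, hj,
              ((show Commute g z from hzc g).zpow_right j).eq, mul_inv_cancel_right]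
            group
      rcases hzj with h1 | h1
      · rw [h1, mul_one] at hca
        have hcA : c ∈ A := hCa c (mul_inv_eq_iff_eq_mul.1 hca)
        refine absurd ?_ heA
        have := hAn.conj_mem c hcA g⁻¹
        simpa [hc, mul_assoc] using this
      rw [h1, ← hea] at hca
      have hecA : e⁻¹ * c ∈ A := hCa _ (by
        calc e⁻¹ * c * a = e⁻¹ * (c * a * c⁻¹) * c := by group
          _ = e⁻¹ * (e * a * e⁻¹) * c := by rw [hca]
          _ = a * (e⁻¹ * c) := by group)
      obtain ⟨i, hi⟩ := hpow _ hecA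
      have hci : c = e * a ^ i := by rw [hi, mul_inv_cancel_left]
      have hcc : c * c = 1 := by rw [hc, show g * e * g⁻¹ * (g * e * g⁻¹) = g * (e * e) * g⁻¹ by group, hee, mul_one,
        mul_inv_cancel]
      have hsq : a ^ i * z ^ i * a ^ i = 1 := by
        rw [← (show Commute a z from hzc a).mul_zpow, ← hea, conj_zpow]
        rw [hci] at hcc
        rw [show e⁻¹ = e from inv_eq_of_mul_eq_one_right hee]
        simpa only [mul_assoc] using hcc
      have hsq' : a ^ (2 * i) * z ^ i = 1 := by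
        rw [two_mul, zpow_add, mul_assoc, ((show Commute a z from hzc a).zpow_zpow i i).eq, ← mul_assoc]
        exact hsq
      rcases Int.even_or_odd i with ⟨l, rfl⟩ | ⟨l, rfl⟩
      · have hzi : z ^ (l + l) = 1 := by rw [← two_mul, zpow_mul, zpow_two, hzz, one_zpow]
        rw [hzi, mul_one] at hsq'
        rw [hci]
        refine Subgroup.mul_mem _ (mem_sup_right (mem_zpowers e)) ?_
        rcases hinv (a ^ (l + l)) (zpow_mem haA _) (by
          rw [← zpow_natCast, ← zpow_mul, mul_comm]; exact hsq') with h | h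
        · rw [h]; exact Subgroup.one_mem _
        · rw [h]; exact mem_sup_left (mem_zpowers z)
      · exfalso
        have hzi : z ^ (2 * l + 1) = z := by rw [zpow_add, zpow_mul, zpow_two, hzz, one_zpow, one_mul, zpow_one]
        rw [hzi] at hsq'
        have h4 : a ^ (4 * (2 * l + 1)) = 1 := by
          rw [show 4 * (2 * l + 1) = 2 * (2 * l + 1) + 2 * (2 * l + 1) by ring, zpow_add,
            eq_inv_of_mul_eq_one_left hsq', ← mul_inv_rev, hzz, inv_one]
        refine ha4 (orderOf_dvd_iff_zpow_eq_one.1 ?_)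
        have hdvd := orderOf_dvd_iff_zpow_eq_one.2 h4
        rw [hm] at hdvd ⊢
        push_cast at hdvd ⊢
        exact (IsCoprime.pow_left (show IsCoprime (2 : ℤ) (2 * l + 1) from ⟨-l, 1, by ring⟩)).dvd_of_dvd_mul_right hdvd
    exact hgen ⟨u, hu, rfl⟩
  · obtain ⟨k, hk⟩ := elemAb_card hU
    have h1 : 2 * Nat.card (zpowers z) ≤ Nat.card ↥(zpowers z ⊔ zpowers e) := mul_card_le (hP.to_subgroup _)
      (lt_of_le_of_ne le_sup_left fun h => heA (zpowers_le.2 hzA (h ▸ mem_sup_right (mem_zpowers e))))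
    have h2 : ((zpowers z ⊔ zpowers e : Subgroup P) : Set P).ncard ≤ 4 := by
      have hsub : ((zpowers z ⊔ zpowers e : Subgroup P) : Set P) ⊆ {1, z, e, z * e} := by
        intro w hw
        obtain ⟨x, hx, y, hy, rfl⟩ := Solvable.exists_mul_of_mem_sup (le_trans
          (fun v hv => Subgroup.mem_centralizer_iff.2 fun u hu => hez u hu v hv)
          (Subgroup.centralizer_le_normalizer _)) hw
        obtain ⟨i, rfl⟩ := hx
        obtain ⟨j, rfl⟩ := hy
        simp only [Set.mem_insert_iff, Set.mem_singleton_iff]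
        have hpar : ∀ v : P, v * v = 1 → ∀ i : ℤ, v ^ i = 1 ∨ v ^ i = v := by
          intro v hv i
          rcases Int.even_or_odd i with ⟨l, rfl⟩ | ⟨l, rfl⟩
          · exact Or.inl (by rw [← two_mul, zpow_mul, zpow_two, hv, one_zpow])
          · exact Or.inr (by rw [zpow_add, zpow_mul, zpow_two, hv, one_zpow, one_mul, zpow_one])
        rcases hpar z hzz i with h | h <;> rcases hpar e hee j with h' | h' <;> simp [h, h']
      refine (Set.ncard_le_ncard hsub (Set.toFinite _)).trans ?_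
      refine (Set.ncard_insert_le _ _).trans (Nat.add_le_add_right ?_ 1)
      refine (Set.ncard_insert_le _ _).trans (Nat.add_le_add_right ?_ 1)
      refine (Set.ncard_insert_le _ _).trans (Nat.add_le_add_right ?_ 1)
      exact (Set.ncard_singleton _).le
    rw [← Nat.card_coe_set_eq] at h2
    have h2' : Nat.card ↥(zpowers z ⊔ zpowers e) ≤ 4 := h2
    rw [Nat.card_zpowers, hzo] at h1
    omega

/-- A finite `p`-group of rank at least three has a normal elementary abelian subgroup of order `p ^ 2`. -/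
theorem exists_normal_sq (hP : IsPGroup p P) (hrk : ¬ PRankLE p 2 P) :
    ∃ U : Subgroup P, U.Normal ∧ IsElementaryAbelian p U ∧ Nat.card U = p ^ 2 := by
  rcases eq_or_ne p 2 with rfl | hp2
  · exact exists_normal_four hP hrk
  obtain ⟨E, hE, hEc⟩ := Cores.not_pRankLE_two_iff.1 hrk
  have hnc : ¬ IsCyclic (⊤ : Subgroup P) := by
    intro h
    haveI := h
    have hEcyc : IsCyclic E := Subgroup.isCyclic_of_le (le_top : E ≤ ⊤)
    obtain ⟨g, hg⟩ := hEcyc.exists_generator
    have h1 : Nat.card E = orderOf g := (orderOf_eq_card_of_forall_mem_zpowers hg).symm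
    have h2 : orderOf g ≤ p := Nat.le_of_dvd hp.out.pos (orderOf_dvd_of_pow_eq_one (Subtype.ext (hE.2 g g.2)))
    have h3 : p < p ^ 3 := lt_self_pow₀ hp.out.one_lt (by norm_num)
    omega
  obtain ⟨U, -, hUn, hU, hUc⟩ := Transfer.exists_normal_elemAb_sq hP hp2 (S := ⊤) hnc
  exact ⟨U, hUn, hU, hUc⟩

omit [Finite P] in
/-- Half of an elementary abelian subgroup fixes a given normal subgroup of order `p ^ 2`. -/
theorem exists_le_centralizing [Finite P] (hP : IsPGroup p P) {U : Subgroup P} [hUn : U.Normal]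
    (hUc : Nat.card U = p ^ 2) (E : Subgroup P) :
    ∃ K ≤ E, Nat.card E ≤ p * Nat.card K ∧ ∀ k ∈ K, ∀ u ∈ U, k * u = u * k := by
  have hU1 : U ≠ ⊥ := fun h => by
    rw [h, Subgroup.card_bot] at hUc
    exact (Nat.one_lt_pow two_ne_zero hp.out.one_lt).ne hUc
  obtain ⟨Z, hZU, hZc, hZn, hZ⟩ := exists_card_eq_le_center hP U hU1
  have hlt : Z < U := lt_of_le_of_ne hZU fun h => by
    rw [← h, hZ] at hUc
    exact (lt_self_pow₀ hp.out.one_lt one_lt_two).ne hUc
  obtain ⟨v, hvU, hvZ⟩ := SetLike.exists_of_lt hlt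
  have hgen : Z ⊔ zpowers v = U := by
    have hle : Z ⊔ zpowers v ≤ U := sup_le hZU (zpowers_le.2 hvU)
    refine Subgroup.eq_of_le_of_card_ge hle ?_
    have h := mul_card_le (hP.to_subgroup _)
      (lt_of_le_of_ne (le_sup_left : Z ≤ Z ⊔ zpowers v) fun h => hvZ (h ▸ mem_sup_right (mem_zpowers v)))
    rw [hZ] at h
    rw [hUc, pow_two]
    exact h
  have hcomm : ∀ g : P, g * v * g⁻¹ * v⁻¹ ∈ Z := by
    intro g
    have hc := (QuotientGroup.mk' Z).map_mul
    have hUn' : (U.map (QuotientGroup.mk' Z)).Normal := hUn.map _ (QuotientGroup.mk'_surjective Z)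
    have hcard : Nat.card (U.map (QuotientGroup.mk' Z)) = p := by
      have h1 := Subgroup.card_mul_index (Z.subgroupOf U)
      rw [Nat.card_congr (subgroupOfEquivOfLe hZU).toEquiv, hZ, hUc, pow_two] at h1
      rw [← relIndex_ker, QuotientGroup.ker_mk']
      exact Nat.eq_of_mul_eq_mul_left hp.out.pos h1
    have hcen := le_center_of_card_eq (hP.to_quotient Z) _ hcard ⟨v, hvU, rfl⟩
    have h2 : QuotientGroup.mk' Z (g * v * g⁻¹ * v⁻¹) = 1 := by
      rw [map_mul, map_mul, map_mul, Subgroup.mem_center_iff.1 hcen, map_inv, map_inv, mul_inv_cancel_right,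
        mul_inv_cancel]
    exact (QuotientGroup.eq_one_iff _).1 h2
  let f : E →* Z := MonoidHom.mk' (fun e => ⟨(e : P) * v * (e : P)⁻¹ * v⁻¹, hcomm e⟩) fun x y => by
    refine Subtype.ext ?_
    have hz := Subgroup.mem_center_iff.1 (hZc (hcomm (y : P)))
    show (x * y : P) * v * (x * y : P)⁻¹ * v⁻¹ = x * v * (x : P)⁻¹ * v⁻¹ * (y * v * (y : P)⁻¹ * v⁻¹)
    calc (x * y : P) * v * (x * y : P)⁻¹ * v⁻¹
        = x * ((y : P) * v * (y : P)⁻¹ * v⁻¹) * (v * (x : P)⁻¹ * v⁻¹) := by group
      _ = x * ((v * (x : P)⁻¹ * v⁻¹) * ((y : P) * v * (y : P)⁻¹ * v⁻¹)) := by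
          rw [hz (v * (x : P)⁻¹ * v⁻¹)]; group
      _ = _ := by group
  refine ⟨f.ker.map E.subtype, map_subtype_le _, ?_, ?_⟩
  · rw [Subgroup.card_map_of_injective E.subtype_injective, ← Subgroup.card_mul_index f.ker, mul_comm p,
      Subgroup.index_ker]
    exact Nat.mul_le_mul_left _ (hZ ▸ Subgroup.card_le_card_group _)
  · rintro _ ⟨k, hk, rfl⟩ u hu
    rw [← hgen] at hu
    have hk1 : (k : P) * v * (k : P)⁻¹ * v⁻¹ = 1 := congrArg Subtype.val (MonoidHom.mem_ker.1 hk)
    have hle : Z ⊔ zpowers v ≤ Subgroup.centralizer {(k : P)} := sup_le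
      (fun y hy => Subgroup.mem_centralizer_singleton_iff.2 (Subgroup.mem_center_iff.1 (hZc hy) k).symm)
      (zpowers_le.2 (Subgroup.mem_centralizer_singleton_iff.2
        (mul_inv_eq_iff_eq_mul.1 (mul_inv_eq_one.1 hk1)).symm))
    exact (Subgroup.mem_centralizer_singleton_iff.1 (hle hu)).symm

/-- `X` reaches a given normal elementary abelian subgroup of order `p ^ 2` in the graph iff its centralizer has
rank at least three. -/
theorem reach_iff (hP : IsPGroup p P) (hrk : ¬ PRankLE p 2 P) {U : Subgroup P} (hUn : U.Normal)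
    (hU : IsElementaryAbelian p U) (hUc : Nat.card U = p ^ 2) {X : Subgroup P} (hX : IsElementaryAbelian p X)
    (hXc : p ^ 2 ≤ Nat.card X) :
    Relation.ReflTransGen (Adj p) X U ↔ ¬ PRankLE p 2 ↥(Subgroup.centralizer (X : Set P)) := by
  have hK2 : ∀ E K : Subgroup P, p ^ 3 ≤ Nat.card E → Nat.card E ≤ p * Nat.card K → p ^ 2 ≤ Nat.card K :=
    fun E K h1 h2 => Nat.le_of_mul_le_mul_left (by rw [← pow_succ']; exact h1.trans h2) hp.out.pos
  constructor
  · intro hreach hC
    rw [pRankLE_subgroup_iff] at hC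
    have hXC : X ≤ Subgroup.centralizer (X : Set P) := fun x hx =>
      Subgroup.mem_centralizer_iff.2 fun y hy => elemAb_comm hX hy hx
    have hX2 : Nat.card X = p ^ 2 := le_antisymm (hC X hXC hX) hXc
    have hin : ∀ y ∈ Subgroup.centralizer (X : Set P), y ^ p = 1 → y ∈ X := by
      intro y hy hy1
      have hc : ∀ a ∈ X, ∀ b ∈ zpowers y, a * b = b * a := by
        rintro a ha _ ⟨i, rfl⟩
        exact ((show Commute a y from Subgroup.mem_centralizer_iff.1 hy a ha).zpow_right i).eq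
      have hle := hC _ (sup_le hXC (zpowers_le.2 hy)) (elemAb_sup hX (elemAb_zpowers hy1) hc)
      have := Subgroup.eq_of_le_of_card_ge (le_sup_left : X ≤ X ⊔ zpowers y) (hle.trans hXc)
      rw [this]
      exact mem_sup_right (mem_zpowers y)
    have hstuck : ∀ Y, Relation.ReflTransGen (Adj p) X Y → Y = X := by
      intro Y hY
      induction hY with
      | refl => rfl
      | tail _ hadj ih =>
        subst ih
        obtain ⟨-, -, hB, hB2, hcomm⟩ := hadj
        exact Subgroup.eq_of_le_of_card_ge (fun b hb => hin b (Subgroup.mem_centralizer_iff.2 fun x hx =>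
          hcomm x hx b hb) (hB.2 b hb)) (by rw [hX2]; exact hB2)
    obtain rfl := hstuck U hreach
    obtain ⟨E, hE, hE3⟩ := Cores.not_pRankLE_two_iff.1 hrk
    obtain ⟨K, hKE, hKc, hKU⟩ := exists_le_centralizing hP hX2 E
    have hKsub : K ≤ U := fun k hk => hin k (Subgroup.mem_centralizer_iff.2 fun u hu => (hKU k hk u hu).symm)
      (hE.2 k (hKE hk))
    have hUK : U ≤ E := (Subgroup.eq_of_le_of_card_ge hKsub (hX2.le.trans (hK2 E K hE3 hKc))).ge.trans hKE
    have hEU : E ≤ U := fun e he => hin e (Subgroup.mem_centralizer_iff.2 fun u hu =>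
      elemAb_comm hE (hUK hu) he) (hE.2 e he)
    have := (hE3.trans (Subgroup.card_le_of_le hEU)).trans_eq hX2
    exact absurd this (not_le.2 (Nat.pow_lt_pow_right hp.out.one_lt (by norm_num)))
  · intro hC
    rw [pRankLE_subgroup_iff] at hC
    push Not at hC
    obtain ⟨E, hEC, hE, hEc⟩ := hC
    obtain ⟨n, hn⟩ := elemAb_card hE
    rw [hn, Nat.pow_lt_pow_iff_right hp.out.one_lt] at hEc
    have hE3 : p ^ 3 ≤ Nat.card E := hn ▸ Nat.pow_le_pow_right hp.out.pos hEc
    have hE2 : p ^ 2 ≤ Nat.card E := (Nat.pow_le_pow_right hp.out.pos (by norm_num)).trans hE3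
    obtain ⟨K, hKE, hKc, hKU⟩ := exists_le_centralizing hP hUc E
    have hK := hK2 E K hE3 hKc
    have a1 : Adj p X E := ⟨hX, hXc, hE, hE2, fun x hx e he => Subgroup.mem_centralizer_iff.1 (hEC he) x hx⟩
    have a2 : Adj p E K := ⟨hE, hE2, elemAb_mono hE hKE, hK, fun e he k hk => elemAb_comm hE he (hKE hk)⟩
    have a3 : Adj p K U := ⟨elemAb_mono hE hKE, hK, hU, hUc.ge, hKU⟩
    exact ((Relation.ReflTransGen.single a1).tail a2).tail a3

/-! ### `3`-groups -/

omit [Finite P] in
theorem mul_pow_three {a b k : P} (hba : b * a = a * b * k) (ha : Commute k a) (hb : Commute k b) :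
    (a * b) ^ 3 = a ^ 3 * b ^ 3 * k ^ 3 := by
  have h2 : ∀ x, b * (a * x) = a * (b * (k * x)) := fun x => by rw [← mul_assoc, hba]; group
  have h3 : ∀ x, k * (a * x) = a * (k * x) := fun x => by rw [← mul_assoc, ha.eq, mul_assoc]
  have h4 : ∀ x, k * (b * x) = b * (k * x) := fun x => by rw [← mul_assoc, hb.eq, mul_assoc]
  simp only [pow_succ, pow_zero, one_mul, mul_assoc]
  simp only [h2, h3, h4]
  simp only [← mul_assoc]
  simp only [mul_assoc, h2, h3, h4]
  simp [hba, ha.eq, hb.eq, h2, h3, h4, mul_assoc]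

/-- A maximal normal elementary abelian subgroup of a `3`-group contains the elements of order `3` of its centralizer. -/
theorem mem_of_centralizes (hP : IsPGroup 3 P) {W : Subgroup P} [hWn : W.Normal] (hW : IsElementaryAbelian 3 W)
    (hmax : ∀ W' : Subgroup P, W'.Normal → IsElementaryAbelian 3 W' → W ≤ W' → W' = W) :
    ∀ c ∈ Subgroup.centralizer (W : Set P), c ^ 3 = 1 → c ∈ W := by
  haveI : Fact (Nat.Prime 3) := ⟨Nat.prime_three⟩
  haveI := hP.isNilpotent
  intro c
  induction hm : Nat.card (Subgroup.normalClosure {c}) using Nat.strong_induction_on generalizing c with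
  | _ m ih =>
  subst hm
  intro hc hc3
  by_contra hcW
  set U := W ⊔ zpowers c
  have hUe : IsElementaryAbelian 3 U := elemAb_sup hW (elemAb_zpowers hc3) (by
    rintro a ha _ ⟨i, rfl⟩
    exact ((show Commute a c from Subgroup.mem_centralizer_iff.1 hc a ha).zpow_right i).eq)
  have hcU : c ∈ U := mem_sup_right (mem_zpowers c)
  have hne : ¬ U.Normal := fun h => hcW (hmax U h hUe le_sup_left ▸ hcU)
  have hlt : normalizer (U : Set P) < ⊤ := lt_top_iff_ne_top.2 fun h => hne (Subgroup.normalizer_eq_top_iff.1 h)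
  obtain ⟨g, hgN, hgU⟩ := SetLike.exists_of_lt (Group.normalizerCondition_of_isNilpotent _ hlt)
  set c' := g * c * g⁻¹ with hc'
  have hUN : U ≤ normalizer (U : Set P) := Subgroup.le_normalizer
  have hc'N : c' ∈ normalizer (U : Set P) := (Subgroup.mem_normalizer_iff.1 hgN c).1 (hUN hcU)
  have hgcN : g⁻¹ * c * g ∈ normalizer (U : Set P) := by
    have := (Subgroup.mem_normalizer_iff.1 (Subgroup.inv_mem _ hgN) c).1 (hUN hcU)
    rwa [inv_inv] at this
  -- membership in the conjugate of `U`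
  have hconjU : ∀ y ∈ U, g * y * g⁻¹ ∈ W ⊔ zpowers c' := by
    intro y hy
    have hle : U.map (MulAut.conj g).toMonoidHom ≤ W ⊔ zpowers c' := by
      rw [Subgroup.map_sup, MonoidHom.map_zpowers]
      exact sup_le_sup (by rintro _ ⟨w, hw, rfl⟩; exact hWn.conj_mem w hw g) le_rfl
    exact hle ⟨y, hy, rfl⟩
  set k := c' * c * c'⁻¹ * c⁻¹ with hk
  have hkU : k ∈ U := U.mul_mem ((Subgroup.mem_normalizer_iff.1 hc'N c).1 hcU) (U.inv_mem hcU)
  have hkU' : k ∈ W ⊔ zpowers c' := by
    have h1 : (g⁻¹ * c * g) * c⁻¹ * (g⁻¹ * c * g)⁻¹ ∈ U :=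
      (Subgroup.mem_normalizer_iff.1 hgcN c⁻¹).1 (U.inv_mem hcU)
    have h2 := hconjU _ (U.mul_mem hcU h1)
    rwa [show g * (c * (g⁻¹ * c * g * c⁻¹ * (g⁻¹ * c * g)⁻¹)) * g⁻¹ = k by rw [hk, hc']; group] at h2
  have hkW : k ∈ W := by
    by_contra hkW
    have hWc : W ≤ W ⊔ zpowers k := le_sup_left
    have hle : W ⊔ zpowers k ≤ U := sup_le le_sup_left (zpowers_le.2 hkU)
    have hUle : U ≤ W ⊔ zpowers k := by
      refine sup_le hWc (zpowers_le.2 ?_)
      obtain ⟨w, hw, y, ⟨i, rfl⟩, hky⟩ := Solvable.exists_mul_of_mem_sup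
        (le_top.trans_eq (Subgroup.normalizer_eq_top_iff.2 hWn).symm) hkU
      have hyk : c ^ i ∈ W ⊔ zpowers k := by
        have : c ^ i = w⁻¹ * k := by rw [hky]; group
        rw [this]
        exact Subgroup.mul_mem _ (mem_sup_left (W.inv_mem hw)) (mem_sup_right (mem_zpowers k))
      have hi : ¬ (3 : ℤ) ∣ i := by
        rintro ⟨r, rfl⟩
        apply hkW
        rw [hky]
        show w * c ^ (3 * r) ∈ W
        rw [zpow_mul, show c ^ (3 : ℤ) = 1 from (zpow_natCast c 3).trans hc3, one_zpow, mul_one]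
        exact hw
      obtain ⟨u, v, huv⟩ : IsCoprime i (3 : ℤ) :=
        ((Int.prime_three.coprime_iff_not_dvd).2 hi).symm
      have : c = (c ^ i) ^ u * (c ^ (3 : ℤ)) ^ v := by
        rw [← zpow_mul, ← zpow_mul, ← zpow_add, mul_comm i u, mul_comm (3 : ℤ) v, huv, zpow_one]
      rw [this, show c ^ (3 : ℤ) = 1 from (zpow_natCast c 3).trans hc3, one_zpow, mul_one]
      exact zpow_mem hyk u
    have hUU' : U ≤ W ⊔ zpowers c' := hUle.trans (sup_le le_sup_left (zpowers_le.2 hkU'))
    refine hgU (CfsgLib.Solvable.mem_normalizer_of_conj_mem fun y hy => ?_)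
    have hWg : W.map (MulAut.conj g).toMonoidHom = W := le_antisymm
      (by rintro _ ⟨w, hw, rfl⟩; exact hWn.conj_mem w hw g)
      fun w hw => ⟨g⁻¹ * w * g, by simpa using hWn.conj_mem w hw g⁻¹, by simp [mul_assoc]⟩
    have hcard : Nat.card ↥(W ⊔ zpowers c') = Nat.card U := by
      rw [← Nat.card_congr (Subgroup.equivMapOfInjective U (MulAut.conj g).toMonoidHom (MulAut.conj g).injective).symm.toEquiv,
        Subgroup.map_sup, MonoidHom.map_zpowers, hWg]
      rfl
    rw [Subgroup.eq_of_le_of_card_ge hUU' hcard.le]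
    exact hconjU y hy
  have hc'C : c' ∈ Subgroup.centralizer (W : Set P) :=
    (inferInstance : (Subgroup.centralizer (W : Set P)).Normal).conj_mem c hc g
  have hkc : ∀ y ∈ Subgroup.centralizer (W : Set P), Commute k y := fun y hy =>
    Subgroup.mem_centralizer_iff.1 hy k hkW
  set h := c⁻¹ * c' with hh
  have hh3 : h ^ 3 = 1 := by
    rw [hh, mul_pow_three (k := k⁻¹) (a := c⁻¹) (b := c') ?_ (hkc _ (Subgroup.inv_mem _ hc)).inv_left
      (hkc _ hc'C).inv_left, inv_pow, inv_pow, hc3, hW.2 k hkW, hc', conj_pow, hc3]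
    · simp
    · have e1 : c' * c⁻¹ = c⁻¹ * k⁻¹ * c' := by rw [hk]; group
      rw [e1, mul_assoc, ((hkc _ hc'C).inv_left).eq, ← mul_assoc]
  set N := Subgroup.normalClosure ({c} : Set P)
  have hcN : c ∈ N := Subgroup.subset_normalClosure rfl
  have hN1 : N ≠ ⊥ := fun h1 => hcW (by rw [h1, Subgroup.mem_bot] at hcN; rw [hcN]; exact W.one_mem)
  have hNlt : ⁅N, (⊤ : Subgroup P)⁆ < N := Local.commutator_lt_of_isPGroup (hP.to_subgroup N)
    (hP.to_subgroup ⊤) (le_top.trans_eq (Subgroup.normalizer_eq_top_iff.2 inferInstance).symm) hN1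
  have hhN : h ∈ ⁅N, (⊤ : Subgroup P)⁆ := by
    have := Subgroup.commutator_mem_commutator (N.inv_mem hcN) (Subgroup.mem_top g)
    rwa [commutatorElement_def, inv_inv, show c⁻¹ * g * c * g⁻¹ = h by rw [hh, hc']; group] at this
  have hsmall : Nat.card (Subgroup.normalClosure {h}) < Nat.card N := by
    refine lt_of_le_of_lt (Subgroup.card_le_of_le
      (Subgroup.normalClosure_le_normal (Set.singleton_subset_iff.2 hhN))) ?_
    exact Set.Finite.card_lt_card (Set.toFinite _) (SetLike.coe_ssubset_coe.2 hNlt)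
  have hhW : h ∈ W := ih _ hsmall h rfl (Subgroup.mul_mem _ (Subgroup.inv_mem _ hc) hc'C) hh3
  have hc'U : c' ∈ U := by
    rw [show c' = c * h by rw [hh, mul_inv_cancel_left]]
    exact U.mul_mem hcU (mem_sup_left hhW)
  refine hgU (CfsgLib.Solvable.mem_normalizer_of_conj_mem fun y hy => ?_)
  exact (sup_le le_sup_left (zpowers_le.2 hc'U) : W ⊔ zpowers c' ≤ U) (hconjU y hy)

/-- An abelian subgroup of exponent `3` normalized by `x`, `x ^ 3 = 1`, has order at most `27` if `x` fixes at most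
three of its elements. -/
theorem card_le_of_fixed {x : P} (hx : x ^ 3 = 1) {K : Subgroup P} (hK : IsElementaryAbelian 3 K)
    (hxK : x ∈ normalizer (K : Set P))
    (hfix : Nat.card ↥(K ⊓ Subgroup.centralizer {x}) ≤ 3) : Nat.card K ≤ 27 := by
  letI : CommGroup K := { (inferInstance : Group K) with
    mul_comm := fun a b => Subtype.ext (elemAb_comm hK a.2 b.2) }
  let N : K →* K := MonoidHom.mk' (fun w => ⟨x * w * x⁻¹ * (w : P)⁻¹,
    K.mul_mem ((Subgroup.mem_normalizer_iff.1 hxK w).1 w.2) (K.inv_mem w.2)⟩) fun a b => by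
    refine Subtype.ext ?_
    have ha : x * a * x⁻¹ ∈ K := (Subgroup.mem_normalizer_iff.1 hxK a).1 a.2
    have hb : x * b * x⁻¹ ∈ K := (Subgroup.mem_normalizer_iff.1 hxK b).1 b.2
    show x * (a * b : P) * x⁻¹ * (a * b : P)⁻¹ = x * a * x⁻¹ * (a : P)⁻¹ * (x * b * x⁻¹ * (b : P)⁻¹)
    have e := elemAb_comm hK (K.inv_mem a.2) (K.mul_mem hb (K.inv_mem b.2))
    calc x * (a * b : P) * x⁻¹ * (a * b : P)⁻¹ = x * a * x⁻¹ * ((x * b * x⁻¹ * (b : P)⁻¹) * (a : P)⁻¹) := by group
      _ = _ := by rw [← e]; group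
  have hker : ∀ (f : K →* K), Nat.card (N.comp f).ker ≤ Nat.card f.ker * 3 := by
    intro f
    have h1 : (N.comp f).ker = N.ker.comap f := (MonoidHom.comap_ker N f).symm
    rw [h1]
    have h2 := Subgroup.card_mul_index (f.ker.subgroupOf (N.ker.comap f))
    rw [Nat.card_congr (subgroupOfEquivOfLe (MonoidHom.ker_le_comap f N.ker)).toEquiv,
      show (f.ker.subgroupOf (N.ker.comap f)).index = f.ker.relIndex (N.ker.comap f) from rfl,
      relIndex_ker] at h2
    rw [← h2]
    refine Nat.mul_le_mul_left _ (le_trans (Subgroup.card_le_of_le (map_comap_le f N.ker)) ?_)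
    refine le_trans (le_of_eq (Nat.card_congr ?_)) hfix
    refine
      { toFun := fun w => ⟨(w : K), (w : K).2, Subgroup.mem_centralizer_singleton_iff.2
          (mul_inv_eq_iff_eq_mul.1 (mul_inv_eq_one.1 (congrArg Subtype.val (MonoidHom.mem_ker.1 w.2)))).symm⟩
        invFun := fun w => ⟨⟨w, w.2.1⟩, MonoidHom.mem_ker.2 (Subtype.ext (by
          show x * (w : P) * x⁻¹ * (w : P)⁻¹ = 1
          rw [← Subgroup.mem_centralizer_singleton_iff.1 w.2.2, mul_inv_cancel_right, mul_inv_cancel]))⟩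
        left_inv := fun w => rfl
        right_inv := fun w => rfl }
  have htop : (N.comp (N.comp N)).ker = ⊤ := by
    rw [eq_top_iff]
    intro w _
    rw [MonoidHom.mem_ker]
    obtain ⟨σ, hσ⟩ : ∃ σ : K →* K, ∀ u : K, ((σ u : K) : P) = x * u * x⁻¹ :=
      ⟨MonoidHom.mk' (fun u => ⟨x * u * x⁻¹, (Subgroup.mem_normalizer_iff.1 hxK u).1 u.2⟩)
        fun a b => Subtype.ext (by show x * (a * b : P) * x⁻¹ = x * a * x⁻¹ * (x * b * x⁻¹); group), fun _ => rfl⟩
    have hN : ∀ u : K, N u = σ u / u := fun u => by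
      refine Subtype.ext ?_
      rw [div_eq_mul_inv]
      show x * (u : P) * x⁻¹ * (u : P)⁻¹ = (σ u : P) * (u : P)⁻¹
      rw [hσ]
    have h3 : σ (σ (σ w)) = w := Subtype.ext (by
      rw [hσ, hσ, hσ, show x * (x * (x * (w : P) * x⁻¹) * x⁻¹) * x⁻¹ = (x * (x * x)) * w * (x * (x * x))⁻¹ by group,
        ← pow_three, hx, one_mul,
        inv_one, mul_one])
    have hcube : ∀ u : K, u ^ 3 = 1 := fun u => Subtype.ext (hK.2 u u.2)
    show N (N (N w)) = 1
    calc N (N (N w)) = σ (σ (σ w)) / w * (σ w / σ (σ w)) ^ 3 := by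
          simp only [hN, map_div]
          simp only [div_eq_mul_inv, mul_inv_rev, inv_inv, pow_three]
          ac_rfl
      _ = 1 := by rw [h3, div_self', hcube, one_mul]
  have h0 : Nat.card (MonoidHom.id K).ker = 1 := by rw [MonoidHom.ker_id, Subgroup.card_bot]
  have h1 := hker (MonoidHom.id K)
  rw [MonoidHom.comp_id, h0] at h1
  have h2 := hker N
  have h3 := hker (N.comp N)
  rw [htop, Subgroup.card_top] at h3
  omega

end CfsgLib.RankGraph
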