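import Cfsg.Agent.Lib.Cores.PComponents

/-!
Lifting normalizers and centralizers of p-subgroups modulo normal p'-subgroups, p-constraint.
-/

namespace CfsgLib.Cores

open Subgroup Cfsg
open scoped commutatorElement Pointwise

variable {G : Type*} [Group G] [Finite G] {p : ℕ} [hp : Fact p.Prime]

theorem isSylow_subgroupOf_sup {P N : Subgroup G} [N.Normal] (hP : IsPGroup p P)
    (hN : (Nat.card N).Coprime p) :
    ∃ S : Sylow p ↥(N ⊔ P), (S : Subgroup ↥(N ⊔ P)) = P.subgroupOf (N ⊔ P) := by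
  have hP' : IsPGroup p (P.subgroupOf (N ⊔ P)) := hP.of_equiv (subgroupOfEquivOfLe le_sup_right).symm
  have hidx : ¬ p ∣ (P.subgroupOf (N ⊔ P)).index := by
    intro h
    have hdvd : (P.subgroupOf (N ⊔ P)).index ∣ Nat.card N := by
      have h1 : Nat.card P * (P.subgroupOf (N ⊔ P)).index = Nat.card ↥(N ⊔ P) := by
        rw [← Nat.card_congr (subgroupOfEquivOfLe (le_sup_right : P ≤ N ⊔ P)).toEquiv,
          card_mul_index]
      have h2 : Nat.card P * (P.subgroupOf (N ⊔ P)).index ∣ Nat.card P * Nat.card N := by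
        rw [h1, mul_comm (Nat.card P)]
        exact card_sup_dvd_mul N P
      exact Nat.dvd_of_mul_dvd_mul_left Nat.card_pos h2
    exact (coprime_iff_not_dvd hp.out _).1 hN (h.trans hdvd)
  exact ⟨hP'.toSylow hidx, IsPGroup.toSylow_coe hP' hidx⟩

/-- Frattini argument: modulo a normal `p'`-subgroup, a normalizing element lifts to one normalizing `P`. -/
theorem exists_mul_of_map_mk'_normalizes {P N : Subgroup G} [N.Normal] (hP : IsPGroup p P)
    (hN : (Nat.card N).Coprime p) {g : G}
    (hg : ∀ x ∈ P, g * x * g⁻¹ ∈ N ⊔ P) :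
    ∃ n ∈ N, ∃ y ∈ normalizer (P : Set G), g = n * y := by
  set M := N ⊔ P with hM
  obtain ⟨S, hS⟩ := isSylow_subgroupOf_sup hP hN
  set Q := P.map (MulAut.conj g).toMonoidHom with hQ
  have hQM : Q ≤ M := by
    rintro _ ⟨x, hx, rfl⟩
    exact hg x hx
  have hQp : IsPGroup p (Q.subgroupOf M) := (hP.map _).of_equiv (subgroupOfEquivOfLe hQM).symm
  obtain ⟨S', hS'⟩ := hQp.exists_le_sylow
  obtain ⟨m, hm⟩ := MulAction.exists_smul_eq M S' S
  have hconj : ∀ x ∈ P, ((m : G) * g) * x * ((m : G) * g)⁻¹ ∈ P := by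
    intro x hx
    have h1 : (⟨g * x * g⁻¹, hg x hx⟩ : M) ∈ (S' : Subgroup M) := hS' (by
      show g * x * g⁻¹ ∈ Q
      exact ⟨x, hx, rfl⟩)
    have h2 : m * ⟨g * x * g⁻¹, hg x hx⟩ * m⁻¹ ∈ (S : Subgroup M) := by
      rw [← hm]
      exact Subgroup.smul_mem_pointwise_smul _ (MulAut.conj m) _ h1
    rw [hS] at h2
    have h3 : (m : G) * (g * x * g⁻¹) * (m : G)⁻¹ ∈ P := h2
    rw [mul_inv_rev]
    simpa [mul_assoc] using h3
  have hyn : (m : G) * g ∈ normalizer (P : Set G) := mem_normalizer_iff'.2 fun x => by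
    have key : P.map (MulAut.conj ((m : G) * g)).toMonoidHom = P := by
      refine eq_of_le_of_card_ge ?_ (le_of_eq ?_)
      · rintro _ ⟨z, hz, rfl⟩
        exact hconj z hz
      · exact (card_map_of_injective (MulAut.conj ((m : G) * g)).injective).symm
    constructor
    · intro hx
      have := key.ge hx
      obtain ⟨z, hz, hzx⟩ := this
      have : (m : G) * g * z * ((m : G) * g)⁻¹ = x * ((m : G) * g) := hzx
      have hh := hconj _ hx
      rw [show (m : G) * g * (x * ((m : G) * g)) * ((m : G) * g)⁻¹ = (m : G) * g * x by group] at hh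
      exact hh
    · intro hx
      obtain ⟨z, hz, hzx⟩ := key.ge hx
      have hzx' : (m : G) * g * z * ((m : G) * g)⁻¹ = (m : G) * g * x := hzx
      have : x * ((m : G) * g) = z := by
        rw [mul_inv_eq_iff_eq_mul] at hzx'
        simpa [mul_assoc] using hzx'.symm
      rwa [this]
  obtain ⟨n, hn, q, hq, hnq⟩ := mem_sup_of_normal_left.1 ((m⁻¹).2 : ((m⁻¹ : M) : G) ∈ N ⊔ P)
  refine ⟨n, hn, q * ((m : G) * g), mul_mem (le_normalizer hq) hyn, ?_⟩
  rw [← mul_assoc, hnq, InvMemClass.coe_inv, inv_mul_cancel_left]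

/-- Centralizers of `p`-subgroups lift modulo normal `p'`-subgroups. -/
theorem exists_mul_of_map_mk'_centralizes {P N : Subgroup G} [N.Normal] (hP : IsPGroup p P)
    (hN : (Nat.card N).Coprime p) {g : G} (hg : ∀ x ∈ P, ⁅g, x⁆ ∈ N) :
    ∃ n ∈ N, ∃ y ∈ centralizer (P : Set G), g = n * y := by
  have hg' : ∀ x ∈ P, g * x * g⁻¹ ∈ N ⊔ P := fun x hx => by
    have : g * x * g⁻¹ = ⁅g, x⁆ * x := by rw [commutatorElement_def]; group
    rw [this]
    exact mul_mem (mem_sup_left (hg x hx)) (mem_sup_right hx)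
  obtain ⟨n, hn, y, hy, rfl⟩ := exists_mul_of_map_mk'_normalizes hP hN hg'
  refine ⟨n, hn, y, mem_centralizer_iff.2 fun x hx => ?_, rfl⟩
  have hdis : Disjoint P N := by
    obtain ⟨k, hk⟩ := IsPGroup.iff_card.1 hP
    exact disjoint_of_coprime_natCard (hk ▸ (Nat.Coprime.pow_left k hN.symm))
  have h1 : ⁅y, x⁆ ∈ P := by
    rw [commutatorElement_def]
    exact mul_mem ((mem_normalizer_iff.1 hy x).1 hx) (inv_mem hx)
  have h2 : ⁅y, x⁆ ∈ N := by
    set π := QuotientGroup.mk' N
    rw [← QuotientGroup.eq_one_iff]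
    have h3 : π ⁅n * y, x⁆ = 1 := (QuotientGroup.eq_one_iff _).2 (hg x hx)
    rwa [map_commutatorElement, map_mul, show π n = 1 from (QuotientGroup.eq_one_iff n).2 hn, one_mul,
      ← map_commutatorElement] at h3
  have h4 : ⁅y, x⁆ = 1 := by
    have := (hdis.le_bot ⟨h1, h2⟩ : ⁅y, x⁆ ∈ (⊥ : Subgroup G))
    exact mem_bot.1 this
  exact (commutatorElement_eq_one_iff_mul_comm.1 h4).symm

theorem map_mk'_centralizer_of_coprime {P N : Subgroup G} [N.Normal] (hP : IsPGroup p P)
    (hN : (Nat.card N).Coprime p) :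
    (centralizer (P : Set G)).map (QuotientGroup.mk' N) =
      centralizer ((P.map (QuotientGroup.mk' N) : Subgroup (G ⧸ N)) : Set (G ⧸ N)) := by
  apply le_antisymm
  · rintro _ ⟨c, hc, rfl⟩
    rw [mem_centralizer_iff]
    rintro _ ⟨x, hx, rfl⟩
    rw [← map_mul, ← map_mul, mem_centralizer_iff.1 hc x hx]
  · intro q hq
    obtain ⟨g, rfl⟩ := QuotientGroup.mk'_surjective N q
    obtain ⟨n, hn, y, hy, rfl⟩ := exists_mul_of_map_mk'_centralizes hP hN (g := g) fun x hx => by
      rw [← QuotientGroup.eq_one_iff, ← QuotientGroup.mk'_apply N, map_commutatorElement,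
        commutatorElement_eq_one_iff_mul_comm]
      exact (mem_centralizer_iff.1 hq _ ⟨x, hx, rfl⟩).symm
    refine ⟨y, hy, ?_⟩
    rw [map_mul, show QuotientGroup.mk' N n = 1 from (QuotientGroup.eq_one_iff n).2 hn, one_mul]

theorem map_mk'_normalizer_of_coprime {P N : Subgroup G} [N.Normal] (hP : IsPGroup p P)
    (hN : (Nat.card N).Coprime p) :
    (normalizer (P : Set G)).map (QuotientGroup.mk' N) =
      normalizer ((P.map (QuotientGroup.mk' N) : Subgroup (G ⧸ N)) : Set (G ⧸ N)) := by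
  apply le_antisymm
  · exact le_normalizer_map _
  · intro q hq
    obtain ⟨g, rfl⟩ := QuotientGroup.mk'_surjective N q
    obtain ⟨n, hn, y, hy, rfl⟩ := exists_mul_of_map_mk'_normalizes hP hN (g := g) fun x hx => by
      have h1 := (mem_normalizer_iff.1 hq _).1 (mem_map_of_mem (QuotientGroup.mk' N) hx)
      rw [← map_inv, ← map_mul, ← map_mul, ← mem_comap, comap_map_eq, QuotientGroup.ker_mk', sup_comm] at h1
      exact h1
    refine ⟨y, hy, ?_⟩
    rw [map_mul, show QuotientGroup.mk' N n = 1 from (QuotientGroup.eq_one_iff n).2 hn, one_mul]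

/-! ### O_{p',p} and p-constraint -/

omit hp [Finite G] in
theorem pPrimePCore_normal : (pPrimePCore p G).Normal := Normal.comap inferInstance _

omit hp [Finite G] in
theorem pPrimeCore_le_pPrimePCore : pPrimeCore p G ≤ pPrimePCore p G :=
  (QuotientGroup.ker_mk' _).ge.trans (ker_le_comap _ _)

omit hp [Finite G] in
theorem map_mk'_pPrimePCore :
    (pPrimePCore p G).map (QuotientGroup.mk' (pPrimeCore p G)) = pCore p (G ⧸ pPrimeCore p G) :=
  map_comap_eq_self_of_surjective (QuotientGroup.mk'_surjective _) _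

theorem map_mk'_sylow_pPrimePCore (P : Sylow p ↥(pPrimePCore p G)) :
    ((P : Subgroup ↥(pPrimePCore p G)).map (pPrimePCore p G).subtype).map
        (QuotientGroup.mk' (pPrimeCore p G)) = pCore p (G ⧸ pPrimeCore p G) := by
  set π := QuotientGroup.mk' (pPrimeCore p G)
  refine le_antisymm (le_trans (map_mono (map_subtype_le _)) map_mk'_pPrimePCore.le) ?_
  intro q hq
  obtain ⟨x, hx, rfl⟩ := (map_mk'_pPrimePCore (p := p) (G := G)).ge hq
  set f : ↥(pPrimePCore p G) →* G ⧸ pPrimeCore p G := π.comp (pPrimePCore p G).subtype with hf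
  have hfr : f.range = pCore p (G ⧸ pPrimeCore p G) := by
    rw [hf, MonoidHom.range_comp, range_subtype]
    exact map_mk'_pPrimePCore
  let Pr := P.mapSurjective (f := f.rangeRestrict) f.rangeRestrict_surjective
  have htop : (Pr : Subgroup f.range) = ⊤ := by
    have hpg : IsPGroup p f.range := by rw [hfr]; exact isPGroup_pCore p
    exact (Pr.3 (hpg.to_subgroup ⊤) le_top).symm
  have hmem : f.rangeRestrict ⟨x, hx⟩ ∈ (Pr : Subgroup f.range) := htop ▸ mem_top _
  obtain ⟨y, hy, hyx⟩ := hmem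
  exact ⟨(y : G), ⟨y, hy, rfl⟩, congrArg Subtype.val hyx⟩

theorem isPConstrained_iff :
    IsPConstrained p G ↔
      centralizer (pCore p (G ⧸ pPrimeCore p G) : Set (G ⧸ pPrimeCore p G)) ≤
        pCore p (G ⧸ pPrimeCore p G) := by
  set π := QuotientGroup.mk' (pPrimeCore p G)
  have key : ∀ P : Sylow p ↥(pPrimePCore p G),
      (centralizer (((P : Subgroup ↥(pPrimePCore p G)).map (pPrimePCore p G).subtype : Subgroup G) : Set G)).map π =
        centralizer (pCore p (G ⧸ pPrimeCore p G) : Set (G ⧸ pPrimeCore p G)) := by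
    intro P
    rw [map_mk'_centralizer_of_coprime (P.2.map _) (coprime_card_pPrimeCore p), map_mk'_sylow_pPrimePCore P]
  constructor
  · intro h
    obtain ⟨P⟩ : Nonempty (Sylow p ↥(pPrimePCore p G)) := inferInstance
    rw [← key P]
    exact le_trans (map_mono (h P)) map_mk'_pPrimePCore.le
  · intro h P
    refine map_le_iff_le_comap.1 ?_
    exact (key P).le.trans h

omit hp in
theorem fittingSubgroup_eq_pCore [Fact p.Prime] (hO : pPrimeCore p G = ⊥) : fittingSubgroup G = pCore p G := by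
  refine le_antisymm ?_ (pCore_le_fittingSubgroup p)
  rw [fittingSubgroup_eq_iSup_pCore]
  refine iSup_le fun q => ?_
  have hq : Fact (q : ℕ).Prime := ⟨Nat.prime_of_mem_primeFactors q.2⟩
  rcases eq_or_ne (q : ℕ) p with h | h
  · rw [h]
  · obtain ⟨n, hn⟩ := card_pCore_eq_pow (G := G) (q : ℕ)
    refine le_trans (le_pPrimeCore (p := p) ?_) (hO.le.trans bot_le)
    rw [hn]
    exact Nat.Coprime.pow_left n ((Nat.coprime_primes hq.out Fact.out).2 h)

omit hp in
theorem centralizer_pCore_le_iff [Fact p.Prime] (hO : pPrimeCore p G = ⊥) :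
    centralizer (pCore p G : Set G) ≤ pCore p G ↔ layer G = ⊥ := by
  rw [layer_eq_bot_iff_centralizer_fitting_le, fittingSubgroup_eq_pCore hO]

theorem isPConstrained_iff_pLayer_eq_bot : IsPConstrained p G ↔ pLayer p G = ⊥ := by
  rw [isPConstrained_iff, pLayer_eq_bot_iff, centralizer_pCore_le_iff (pPrimeCore_quotient_self p)]

omit hp in
theorem generalizedFittingSubgroup_eq_pCore_iff [Fact p.Prime] :
    generalizedFittingSubgroup G = pCore p G ↔ pPrimeCore p G = ⊥ ∧ layer G = ⊥ := by
  constructor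
  · intro h
    have hl : layer G = ⊥ := by
      rw [layer_eq_bot_iff]
      intro L hL
      have : Group.IsNilpotent (pCore p G) := (isPGroup_pCore p).isNilpotent
      exact component_not_le_of_isSolvable hL inferInstance
        (h ▸ (component_le_layer hL).trans layer_le_generalizedFittingSubgroup)
    refine ⟨?_, hl⟩
    have hC := centralizer_generalizedFittingSubgroup_le (G := G)
    rw [h] at hC
    rw [eq_bot_iff, ← pCore_inf_pPrimeCore (G := G) p]
    exact le_inf (le_trans (commutator_eq_bot_iff_le_centralizer.1 (by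
      rw [commutator_comm]; exact commutator_pCore_pPrimeCore p)) hC) le_rfl
  · rintro ⟨h1, h2⟩
    rw [generalizedFittingSubgroup, h2, bot_sup_eq, fittingSubgroup_eq_pCore h1]

end CfsgLib.Cores
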