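import Cfsg.Agent.Lib.Cores.PConstrained

/-!
Consequences of the A×B lemma for normalizers of p-subgroups.
-/

namespace CfsgLib.Cores

open Subgroup Cfsg

variable {G : Type*} [Group G] [Finite G] {p : ℕ} [hp : Fact p.Prime]

omit hp in
theorem inf_normalizer_le_pCore (P : Subgroup G) :
    pCore p G ⊓ normalizer (P : Set G) ≤
      (pCore p (normalizer (P : Set G))).map (normalizer (P : Set G)).subtype :=
  pCore_inf_le p _

omit hp in
theorem le_map_pCore_normalizer {P : Subgroup G} (hP : IsPGroup p P) :
    P ≤ (pCore p (normalizer (P : Set G))).map (normalizer (P : Set G)).subtype := by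
  intro x hx
  exact ⟨⟨x, le_normalizer hx⟩, le_pCore (N := P.subgroupOf (normalizer (P : Set G)))
    (hP.of_equiv (subgroupOfEquivOfLe le_normalizer).symm) hx, rfl⟩

/-- A subgroup of `N(P)` generated by `p'`-elements and centralizing `O_p(N(P))` centralizes `O_p(G)`. -/
theorem le_centralizer_pCore_of_normalizer {P : Subgroup G} (hP : IsPGroup p P) {M : Subgroup G}
    (hgen : pPrimeElemClosure p M = M)
    (hM : M ≤ centralizer (((pCore p (normalizer (P : Set G))).map
      (normalizer (P : Set G)).subtype : Subgroup G) : Set G)) :
    M ≤ centralizer (pCore p G : Set G) := by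
  refine axb_le_centralizer hP (isPGroup_pCore p) ?_ ?_ hgen (hM.trans (centralizer_le (le_map_pCore_normalizer hP))) ?_
  · rw [normalizer_eq_top]; exact le_top
  · rw [normalizer_eq_top]; exact le_top
  · refine hM.trans (centralizer_le ?_)
    intro x hx
    exact inf_normalizer_le_pCore P ⟨hx.1, centralizer_le_normalizer _ hx.2⟩

omit hp in
theorem map_le_centralizer_map {K : Subgroup G} {A B : Subgroup K} (h : ⁅A, B⁆ = ⊥) :
    A.map K.subtype ≤ centralizer ((B.map K.subtype : Subgroup G) : Set G) := by
  rw [← commutator_eq_bot_iff_le_centralizer, ← map_commutator, h, Subgroup.map_bot]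

omit hp in
theorem pPrimeElemClosure_eq_self_of_coprime {M : Subgroup G} (h : (Nat.card M).Coprime p) :
    pPrimeElemClosure p M = M :=
  le_antisymm (pPrimeElemClosure_le p M) fun _ hx =>
    mem_pPrimeElemClosure hx (h.coprime_dvd_left (orderOf_dvd_natCard M hx))

omit hp in
theorem card_map_pPrimeCore_coprime (K : Subgroup G) :
    (Nat.card ((pPrimeCore p K).map K.subtype)).Coprime p := by
  rw [card_map_of_injective K.subtype_injective]
  exact coprime_card_pPrimeCore p

theorem map_pPrimeCore_normalizer_le_centralizer {P : Subgroup G} (hP : IsPGroup p P) :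
    (pPrimeCore p (normalizer (P : Set G))).map (normalizer (P : Set G)).subtype ≤
      centralizer (pCore p G : Set G) :=
  le_centralizer_pCore_of_normalizer hP
    (pPrimeElemClosure_eq_self_of_coprime (card_map_pPrimeCore_coprime _))
    (map_le_centralizer_map (by rw [commutator_comm]; exact commutator_pCore_pPrimeCore p))

omit hp in
theorem commutator_map_layer_self (K : Subgroup G) :
    ⁅(layer K).map K.subtype, (layer K).map K.subtype⁆ = (layer K).map K.subtype := by
  rw [← map_commutator, commutator_layer_self]

theorem map_layer_normalizer_le_centralizer {P : Subgroup G} (hP : IsPGroup p P) :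
    (layer (normalizer (P : Set G))).map (normalizer (P : Set G)).subtype ≤
      centralizer (pCore p G : Set G) :=
  le_centralizer_pCore_of_normalizer hP
    (pPrimeElemClosure_eq_self_of_perfect p (commutator_map_layer_self _))
    (map_le_centralizer_map (eq_bot_iff.2
      ((commutator_mono le_rfl (pCore_le_fittingSubgroup p)).trans commutator_layer_fittingSubgroup.le)))

/-- The preimage of the layer of `K / O_{p'}(K)`. -/
theorem pPrimeElemClosure_comap_layer (K : Type*) [Group K] [Finite K] :
    pPrimeElemClosure p ((layer (K ⧸ pPrimeCore p K)).comap (QuotientGroup.mk' (pPrimeCore p K))) =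
      (layer (K ⧸ pPrimeCore p K)).comap (QuotientGroup.mk' (pPrimeCore p K)) := by
  set π := QuotientGroup.mk' (pPrimeCore p K)
  set M := (layer (K ⧸ pPrimeCore p K)).comap π
  refine le_antisymm (pPrimeElemClosure_le p M) ?_
  have h1 : (pPrimeElemClosure p M).map π = layer (K ⧸ pPrimeCore p K) := by
    rw [map_pPrimeElemClosure, map_comap_eq_self_of_surjective (QuotientGroup.mk'_surjective _),
      pPrimeElemClosure_eq_self_of_perfect p commutator_layer_self]
  have h2 : pPrimeCore p K ≤ pPrimeElemClosure p M := by
    intro x hx
    refine mem_pPrimeElemClosure ?_ ((coprime_card_pPrimeCore p).coprime_dvd_left (orderOf_dvd_natCard _ hx))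
    rw [mem_comap, show π x = 1 from (QuotientGroup.eq_one_iff x).2 hx]
    exact one_mem _
  have h3 := congrArg (Subgroup.comap π) h1
  rw [comap_map_eq, QuotientGroup.ker_mk', sup_eq_left.2 h2] at h3
  exact h3.ge

theorem commutator_comap_layer_pCore (K : Type*) [Group K] [Finite K] :
    ⁅(layer (K ⧸ pPrimeCore p K)).comap (QuotientGroup.mk' (pPrimeCore p K)), pCore p K⁆ = ⊥ := by
  set π := QuotientGroup.mk' (pPrimeCore p K)
  set M := (layer (K ⧸ pPrimeCore p K)).comap π
  rw [eq_bot_iff, ← pCore_inf_pPrimeCore (G := K) p]
  refine le_inf ?_ ?_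
  · exact commutator_le_right M (pCore p K)
  · rw [← QuotientGroup.ker_mk' (pPrimeCore p K), ← Subgroup.map_eq_bot_iff, map_commutator, eq_bot_iff,
      ← commutator_layer_fittingSubgroup (G := K ⧸ pPrimeCore p K)]
    exact commutator_mono (map_comap_le _ _)
      ((map_pCore_le π (QuotientGroup.mk'_surjective _)).trans (pCore_le_fittingSubgroup p))

theorem map_comap_layer_normalizer_le_centralizer {P : Subgroup G} (hP : IsPGroup p P) :
    ((layer (↥(normalizer (P : Set G)) ⧸ pPrimeCore p ↥(normalizer (P : Set G)))).comap
        (QuotientGroup.mk' (pPrimeCore p ↥(normalizer (P : Set G))))).map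
      (normalizer (P : Set G)).subtype ≤ centralizer (pCore p G : Set G) := by
  refine le_centralizer_pCore_of_normalizer hP ?_ (map_le_centralizer_map (commutator_comap_layer_pCore _))
  rw [← map_pPrimeElemClosure, pPrimeElemClosure_comap_layer]

theorem layer_normalizer_eq {P : Subgroup G} (hP : P ≤ pCore p G) :
    (layer (normalizer (P : Set G))).map (normalizer (P : Set G)).subtype = layer G := by
  have hPp : IsPGroup p P := (isPGroup_pCore p).to_le hP
  have hC : centralizer (pCore p G : Set G) ≤ normalizer (P : Set G) :=
    (centralizer_le hP).trans (centralizer_le_normalizer _)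
  have hEC : layer G ≤ centralizer (pCore p G : Set G) :=
    layer_le_centralizer_fittingSubgroup.trans (centralizer_le (pCore_le_fittingSubgroup p))
  have hCn : (centralizer (pCore p G : Set G)).Normal := inferInstance
  apply le_antisymm
  · rw [map_le_iff_le_comap, layer_le_iff]
    intro L hL
    refine map_le_iff_le_comap.1 ?_
    have hLC : L.map (normalizer (P : Set G)).subtype ≤ centralizer (pCore p G : Set G) :=
      (map_mono (component_le_layer hL)).trans (map_layer_normalizer_le_centralizer hPp)
    refine component_le_layer ⟨IsSubnormal.trans hLC ?_ hCn.isSubnormal, isQuasisimple_map_equiv hL.2 _ (subtype_injective _)⟩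
    have h1 := hL.1.comap (inclusion hC)
    convert h1 using 1
    ext ⟨x, hx⟩
    constructor
    · rintro ⟨y, hy, hyx⟩
      have hy' : y = ⟨x, hC hx⟩ := Subtype.ext hyx
      subst hy'
      exact hy
    · exact fun h => ⟨⟨x, hC hx⟩, h, rfl⟩
  · refine layer_le_iff.2 fun L hL => ?_
    have hLN : L ≤ normalizer (P : Set G) := (component_le_layer hL).trans (hEC.trans hC)
    rw [← map_subgroupOf_eq_of_le hLN]
    exact map_mono (component_le_layer (isComponent_subgroupOf hL hLN))

theorem pPrimeCore_eq_bot_and_layer_eq_bot_normalizer {P : Subgroup G} (hP : IsPGroup p P)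
    (hC : centralizer (pCore p G : Set G) ≤ pCore p G) :
    pPrimeCore p (normalizer (P : Set G)) = ⊥ ∧ layer (normalizer (P : Set G)) = ⊥ := by
  constructor
  · have h1 := (map_pPrimeCore_normalizer_le_centralizer hP).trans hC
    obtain ⟨n, hn⟩ := card_pCore_eq_pow (G := G) p
    have h2 : Nat.card ((pPrimeCore p (normalizer (P : Set G))).map (normalizer (P : Set G)).subtype) = 1 :=
      Nat.eq_one_of_dvd_coprimes (Nat.Coprime.pow_right n (card_map_pPrimeCore_coprime _)) dvd_rfl
        (hn ▸ card_dvd_of_le h1)
    rw [card_map_of_injective (subtype_injective _)] at h2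
    exact eq_bot_of_card_eq _ h2
  · rw [layer_eq_bot_iff]
    intro L hL
    have : Group.IsNilpotent (pCore p G) := (isPGroup_pCore p).isNilpotent
    exact not_isSolvable_of_isQuasisimple (isQuasisimple_map_equiv hL.2 _ (subtype_injective _))
      (isSolvable_of_le (((map_mono (component_le_layer hL)).trans (map_layer_normalizer_le_centralizer hP)).trans hC)
        inferInstance)

end CfsgLib.Cores
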