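import Cfsg.Agent.Lib.Cores.BalanceComp
import Cfsg.Agent.Lib.PGroup.ElemAbelian
import Cfsg.Prelude.Def_Balance

/-!
Balance from local balance of the components.
-/

namespace CfsgLib.Cores

open Subgroup Cfsg

variable {G : Type*} [Group G] [Finite G] {p : ℕ} [hp : Fact p.Prime]

omit [Finite G] hp in
theorem centralizer_zpowers' (a : G) : centralizer (zpowers a : Set G) = centralizer ({a} : Set G) := by
  refine le_antisymm (centralizer_le (by simp)) fun c hc => mem_centralizer_iff.2 ?_
  rintro _ ⟨i, rfl⟩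
  exact (Commute.zpow_left (show Commute a c from (mem_centralizer_singleton_iff.1 hc).symm) i).eq

omit hp in
theorem map_centralizerPPrimeCore_equiv_le {H : Type*} [Group H] (e : G ≃* H) (x : G) :
    (centralizerPPrimeCore p x).map e.toMonoidHom ≤ centralizerPPrimeCore p (e x) := by
  haveI : Finite H := Finite.of_equiv G e.toEquiv
  refine le_centralizerPPrimeCore ?_ ?_ ?_
  · rintro _ ⟨d, hd, rfl⟩
    rw [mem_centralizer_singleton_iff]
    show e d * e x = e x * e d
    rw [← map_mul, ← map_mul, mem_centralizer_singleton_iff.1 (centralizerPPrimeCore_le x hd)]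
  · exact (card_centralizerPPrimeCore_coprime x).coprime_dvd_left (card_map_dvd _ _)
  · refine Solvable.le_normalizer_of_conj_mem fun c hc => ?_
    rintro _ ⟨d, hd, rfl⟩
    refine ⟨e.symm c * d * (e.symm c)⁻¹, conj_mem_centralizerPPrimeCore ?_ hd, by simp⟩
    have := congrArg e.symm (mem_centralizer_singleton_iff.1 hc)
    simpa using this

omit [Finite G] hp in
theorem signalizerDelta_le {A : Subgroup G} {a : G} (ha : a ∈ A) (ha1 : a ≠ 1) :
    signalizerDelta p A ≤ centralizerPPrimeCore p a :=
  iInf_le (fun a : {a : G // a ∈ A ∧ a ≠ 1} => centralizerPPrimeCore p (a : G)) ⟨a, ha, ha1⟩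

omit hp in
theorem map_signalizerDelta_equiv_le {H : Type*} [Group H] (e : G ≃* H) (A : Subgroup G) :
    (signalizerDelta p A).map e.toMonoidHom ≤ signalizerDelta p (A.map e.toMonoidHom) := by
  refine le_iInf fun ⟨_, ⟨a, ha, rfl⟩, ha1⟩ => ?_
  exact (map_mono (signalizerDelta_le ha (fun h => ha1 (by rw [h, map_one])))).trans
    (map_centralizerPPrimeCore_equiv_le e a)

/-- Properties of `Δ(A)` for a nontrivial commutative `A`. -/
theorem signalizerDelta_props {A : Subgroup G} (hA : IsElementaryAbelian p A) (hA1 : A ≠ ⊥) :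
    (Nat.card (signalizerDelta p A)).Coprime p ∧ signalizerDelta p A ≤ centralizer (A : Set G) ∧
      centralizer (A : Set G) ≤ normalizer (signalizerDelta p A : Set G) := by
  obtain ⟨a₀, ha₀, ha₀1⟩ := A.bot_or_exists_ne_one.resolve_left hA1
  refine ⟨(card_centralizerPPrimeCore_coprime a₀).coprime_dvd_left (card_dvd_of_le (signalizerDelta_le ha₀ ha₀1)),
    fun d hd => mem_centralizer_iff.2 fun a ha => ?_, ?_⟩
  · rcases eq_or_ne a 1 with rfl | ha1
    · simp
    · exact (mem_centralizer_singleton_iff.1 (centralizerPPrimeCore_le a (signalizerDelta_le ha ha1 hd))).symm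
  · refine Solvable.le_normalizer_of_conj_mem fun c hc d hd => ?_
    simp only [signalizerDelta, Subgroup.mem_iInf] at hd ⊢
    exact fun a => conj_mem_centralizerPPrimeCore (mem_centralizer_iff.1 hc a a.2.1).symm (hd a)

/-- A `p'`-subgroup centralizing `O_p(G)` and every component is trivial. -/
theorem eq_bot_of_le_centralizer_pCore_of_forall (hO : pPrimeCore p G = ⊥) {D : Subgroup G}
    (hD : (Nat.card D).Coprime p) (hDp : D ≤ centralizer (pCore p G : Set G))
    (hall : ∀ L : Subgroup G, IsComponent L → D ≤ centralizer (L : Set G)) : D = ⊥ := by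
  have h1 : D ≤ centralizer (generalizedFittingSubgroup G : Set G) := by
    rw [← commutator_eq_bot_iff_le_centralizer, commutator_comm, commutator_eq_bot_iff_le_centralizer]
    refine sup_le (layer_le_iff.2 fun L hL => ?_) ?_
    · rw [← commutator_eq_bot_iff_le_centralizer, commutator_comm, commutator_eq_bot_iff_le_centralizer]
      exact hall L hL
    · rw [← commutator_eq_bot_iff_le_centralizer, commutator_comm, commutator_eq_bot_iff_le_centralizer,
        fittingSubgroup_eq_pCore hO]
      exact hDp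
  haveI := generalizedFittingSubgroup_normal (G := G)
  haveI := map_center_normal (generalizedFittingSubgroup G)
  have h2 : D ≤ pCore p G := by
    refine le_trans ?_ ((le_fittingSubgroup (isNilpotent_center_map (generalizedFittingSubgroup G))).trans
      (fittingSubgroup_eq_pCore hO).le)
    rw [map_center_eq_inf_centralizer]
    exact le_inf (h1.trans centralizer_generalizedFittingSubgroup_le) h1
  obtain ⟨n, hn⟩ := card_pCore_eq_pow (G := G) p
  exact eq_bot_of_card_eq _ (Nat.eq_one_of_dvd_coprimes (hD.pow_right n) dvd_rfl (hn ▸ card_dvd_of_le h2))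

/-- If `D` centralizes every component it is trivial. -/
theorem eq_bot_of_forall_le_centralizer_component (hO : pPrimeCore p G = ⊥) {P D : Subgroup G}
    (hP : IsPGroup p P) (hD : (Nat.card D).Coprime p) (hDP : D ≤ centralizer (P : Set G))
    (hDn : centralizer (P : Set G) ≤ normalizer (D : Set G))
    (hall : ∀ L : Subgroup G, IsComponent L → D ≤ centralizer (L : Set G)) : D = ⊥ :=
  eq_bot_of_le_centralizer_pCore_of_forall hO hD (le_centralizer_pCore_of_le_centralizer hP hD hDP hDn) hall

/-- The image of `O_{p'}(C(a))` in an automizer of a component. -/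
theorem map_le_centralizerPPrimeCore (hO : pPrimeCore p G = ⊥) {L : Subgroup G} (hL : IsComponent L) {a : G}
    (ha : orderOf a = p) (haL : a ∈ normalizer (L : Set G)) {H : Subgroup G} (haH : a ∈ H)
    (hdec : ∀ h ∈ H, ∃ y ∈ L, ∃ c ∈ centralizer ({a} : Set G), h = y * c)
    {Q : Type*} [Group Q] (f : H →* Q) (hf : Function.Surjective f)
    (hker : f.ker = (centralizer (L : Set G)).subgroupOf H) :
    ((centralizerPPrimeCore p a).subgroupOf H).map f ≤ centralizerPPrimeCore p (f ⟨a, haH⟩) := by
  set Z := layerCenter G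
  haveI : Z.Normal := layerCenter_normal
  have hP : IsPGroup p (zpowers a) := isPGroup_zpowers_of_orderOf_eq ha
  set D₀ := centralizerPPrimeCore p a
  have hD₀P : D₀ ≤ centralizer (zpowers a : Set G) := by
    rw [centralizer_zpowers']; exact centralizerPPrimeCore_le a
  have hD₀n : centralizer (zpowers a : Set G) ≤ normalizer (D₀ : Set G) := by
    rw [centralizer_zpowers']
    exact Solvable.le_normalizer_of_conj_mem fun c hc d hd =>
      conj_mem_centralizerPPrimeCore (mem_centralizer_singleton_iff.1 hc) hd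
  have hD₀ := card_centralizerPPrimeCore_coprime (p := p) a
  set P' := zpowers a ⊔ Z
  set C' := centralizer (P' : Set G)
  set D' := (pPrimeCore p C').map C'.subtype
  have hC'a : C' ≤ centralizer ({a} : Set G) := by
    rw [← centralizer_zpowers']
    exact centralizer_le (SetLike.coe_subset_coe.2 le_sup_left)
  have hDC' : D₀ ≤ C' := by
    intro e he
    have h1 : P' ≤ centralizer ({e} : Set G) := by
      refine sup_le (fun g hg => ?_) (fun g hg => ?_) <;> rw [mem_centralizer_singleton_iff]
      · exact mem_centralizer_iff.1 (hD₀P he) g hg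
      · exact mem_centralizer_iff.1 (le_centralizer_pCore_of_le_centralizer hP hD₀ hD₀P hD₀n he) g
          (layerCenter_le_pCore hO hg)
    exact mem_centralizer_iff.2 fun g hg => mem_centralizer_singleton_iff.1 (h1 hg)
  have hDD' : D₀ ≤ D' := by
    haveI : (D₀.subgroupOf C').Normal :=
      (normal_subgroupOf_iff_le_normalizer hDC').2 (hC'a.trans (by rw [← centralizer_zpowers']; exact hD₀n))
    rw [← map_subgroupOf_eq_of_le hDC']
    exact map_mono (le_pPrimeCore (by rwa [Nat.card_congr (subgroupOfEquivOfLe hDC').toEquiv]))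
  refine (map_mono (comap_mono hDD' : D₀.subgroupOf H ≤ D'.subgroupOf H)).trans ?_
  refine le_centralizerPPrimeCore ?_ ?_ ?_
  · rintro _ ⟨⟨d, hdH⟩, hd, rfl⟩
    rw [mem_centralizer_singleton_iff, ← map_mul, ← map_mul]
    congr 1
    exact Subtype.ext (mem_centralizer_singleton_iff.1 (hC'a ((map_subtype_le _ : D' ≤ C') hd)))
  · refine (card_map_pPrimeCore_coprime (p := p) C').coprime_dvd_left ((card_map_dvd _ _).trans ?_)
    show Nat.card ↥(D'.subgroupOf H) ∣ _
    rw [← inf_subgroupOf_right, Nat.card_congr (subgroupOfEquivOfLe inf_le_right).toEquiv]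
    exact card_dvd_of_le inf_le_left
  · haveI : Finite Q := Finite.of_surjective f hf
    refine Solvable.le_normalizer_of_conj_mem fun q hq => ?_
    obtain ⟨h, rfl⟩ := hf q
    rintro _ ⟨d, hd, rfl⟩
    refine ⟨h * d * h⁻¹, ?_, by simp⟩
    obtain ⟨y, hy, c, hc, hyc⟩ := hdec h h.2
    have hca : c * a = a * c := mem_centralizer_singleton_iff.1 hc
    have h1 : y * a * y⁻¹ * a⁻¹ ∈ centralizer (L : Set G) := by
      have h2 : h * ⟨a, haH⟩ * h⁻¹ * ⟨a, haH⟩⁻¹ ∈ f.ker := by
        rw [MonoidHom.mem_ker, map_mul, map_mul, map_mul, map_inv, map_inv,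
          mem_centralizer_singleton_iff.1 hq, mul_inv_cancel_right, mul_inv_cancel]
      rw [hker, mem_subgroupOf] at h2
      simp only [Subgroup.coe_mul, InvMemClass.coe_inv, hyc] at h2
      rwa [show y * c * a * (y * c)⁻¹ * a⁻¹ = y * a * y⁻¹ * a⁻¹ by
        rw [mul_assoc y c a, hca]; group] at h2
    have h3 : y * a * y⁻¹ * a⁻¹ ∈ L := by
      rw [mul_assoc y a, mul_assoc y]
      exact mul_mem hy ((mem_normalizer_iff.1 haL _).1 (inv_mem hy))
    have h4 : y * a * y⁻¹ * a⁻¹ ∈ Z := mem_layerCenter_of_commute hL h3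
      fun l hl => (mem_centralizer_iff.1 h1 l hl).symm
    have hN : ∀ g : G, g * a * g⁻¹ * a⁻¹ ∈ Z → g ∈ normalizer (P' : Set G) := by
      intro g hg
      refine Solvable.mem_normalizer_of_conj_mem fun x hx => ?_
      have hle : P' ≤ P'.comap (MulAut.conj g).toMonoidHom := by
        refine sup_le (zpowers_le.2 ?_) fun z hz => mem_sup_right (Normal.conj_mem inferInstance z hz g)
        show g * a * g⁻¹ ∈ P'
        simpa using mul_mem (mem_sup_right (S := zpowers a) hg) (mem_sup_left (mem_zpowers a))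
      exact hle hx
    have hhN : (h : G) ∈ normalizer (D' : Set G) := by
      rw [hyc]
      refine mem_normalizer_pPrimeCore_map (Solvable.normalizer_le_normalizer_centralizer P'
        (mul_mem (hN y h4) (hN c ?_)))
      rw [hca, mul_inv_cancel_right, mul_inv_cancel]
      exact one_mem Z
    exact (mem_normalizer_iff.1 hhN d).1 hd

omit [Finite G] hp in
theorem centralizer_subgroupOf_normal {L H : Subgroup G} (h : H ≤ normalizer (L : Set G)) :
    ((centralizer (L : Set G)).subgroupOf H).Normal :=
  normal_subgroupOf_of_le_normalizer (h.trans (fun g hg => by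
    rw [mem_normalizer_iff]
    intro c
    simp only [mem_centralizer_iff]
    constructor
    · intro hc l hl
      have := hc _ ((mem_normalizer_iff''.1 hg l).1 hl)
      calc l * (g * c * g⁻¹) = g * (g⁻¹ * l * g * c) * g⁻¹ := by group
        _ = g * c * g⁻¹ * l := by rw [this]; group
    · intro hc l hl
      have := hc _ ((mem_normalizer_iff.1 hg l).1 hl)
      calc l * c = g⁻¹ * (g * l * g⁻¹ * (g * c * g⁻¹)) * g := by group
        _ = c * l := by rw [this]; group))

/-- `Δ(A)` centralizes a component whose automizers are `k`-balanced. -/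
theorem signalizerDelta_le_centralizer_component (hO : pPrimeCore p G = ⊥) {L : Subgroup G} (hL : IsComponent L)
    {A : Subgroup G} (hA : IsElementaryAbelian p A) (hA1 : A ≠ ⊥)
    (hbal : ∀ H : Subgroup G, L ≤ H → ∀ _ : H ≤ normalizer (L : Set G),
      ∀ [((centralizer (L : Set G)).subgroupOf H).Normal],
      ∀ B : Subgroup (↥H ⧸ (centralizer (L : Set G)).subgroupOf H), IsElementaryAbelian p B →
        Nat.card B = Nat.card A → signalizerDelta p B = ⊥) :
    signalizerDelta p A ≤ centralizer (L : Set G) := by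
  have hord : ∀ a ∈ A, a ≠ 1 → orderOf a = p := fun a ha ha1 => orderOf_eq_prime (hA.2 a ha) ha1
  by_cases hex : ∃ a ∈ A, a ≠ 1 ∧ (a ∈ centralizer (L : Set G) ∨ a ∉ normalizer (L : Set G))
  · obtain ⟨a, ha, ha1, h⟩ := hex
    exact (signalizerDelta_le ha ha1).trans
      (centralizerPPrimeCore_le_centralizer_component hO (hord a ha ha1) hL h)
  push Not at hex
  have hAL : A ≤ normalizer (L : Set G) := fun a ha => by
    rcases eq_or_ne a 1 with rfl | ha1
    · exact one_mem _
    · exact (hex a ha ha1).2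
  obtain ⟨hD, hDA, hDn⟩ := signalizerDelta_props hA hA1
  set D := signalizerDelta p A
  have hDL : D ≤ normalizer (L : Set G) :=
    le_normalizer_component hO (PGroup.elemAb_isPGroup hA) hD hDA hDn hL
  set H := L ⊔ (A ⊔ D)
  have hHN : H ≤ normalizer (L : Set G) := sup_le le_normalizer (sup_le hAL hDL)
  have hLH : L ≤ H := le_sup_left
  have hAH : A ≤ H := le_sup_left.trans le_sup_right
  have hDH : D ≤ H := le_sup_right.trans le_sup_right
  haveI := centralizer_subgroupOf_normal hHN
  set π := QuotientGroup.mk' ((centralizer (L : Set G)).subgroupOf H)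
  have hinj : ∀ b : H, (b : G) ∈ A → π b = 1 → b = 1 := by
    intro b hb hb1
    by_contra hne
    exact (hex b hb (fun h => hne (Subtype.ext h))).1 ((QuotientGroup.eq_one_iff b).1 hb1)
  set B := (A.subgroupOf H).map π
  have hBcard : Nat.card B = Nat.card A := by
    rw [← Nat.card_congr (subgroupOfEquivOfLe hAH).toEquiv]
    refine (Nat.card_congr (Equiv.ofBijective (π.subgroupMap (A.subgroupOf H))
      ⟨?_, π.subgroupMap_surjective _⟩)).symm
    rw [← MonoidHom.ker_eq_bot_iff, Subgroup.eq_bot_iff_forall]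
    exact fun b hb => Subtype.ext (hinj b b.2 (congrArg Subtype.val hb))
  have hB : IsElementaryAbelian p B := PGroup.elemAb_map (PGroup.elemAb_subgroupOf hA) π
  have hdel := hbal H hLH hHN B hB hBcard
  intro d hd
  have h1 : π ⟨d, hDH hd⟩ ∈ signalizerDelta p B := by
    rw [signalizerDelta, Subgroup.mem_iInf]
    rintro ⟨_, ⟨b, hbA, rfl⟩, hb1⟩
    have hbA : (b : G) ∈ A := hbA
    have hb1' : (b : G) ≠ 1 := fun h => hb1 (by rw [show b = 1 from Subtype.ext h, map_one])
    refine map_le_centralizerPPrimeCore hO hL (hord b hbA hb1') (hAL hbA) b.2 ?_ π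
      (QuotientGroup.mk'_surjective _) (QuotientGroup.ker_mk' _) ⟨⟨d, hDH hd⟩, signalizerDelta_le hbA hb1' hd, rfl⟩
    intro h hh
    obtain ⟨y, hy, c, hc, hyc⟩ := Solvable.exists_mul_of_mem_sup (sup_le hAL hDL) hh
    refine ⟨y, hy, c, (sup_le (fun a ha => ?_) ?_ : A ⊔ D ≤ centralizer ({(b : G)} : Set G)) hc, hyc⟩
    · exact mem_centralizer_singleton_iff.2 (PGroup.elemAb_comm hA ha hbA)
    · exact (signalizerDelta_le hbA hb1').trans (centralizerPPrimeCore_le _)
  rw [hdel, mem_bot] at h1
  exact (QuotientGroup.eq_one_iff (N := (centralizer (L : Set G)).subgroupOf H) _).1 h1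

/-- If every automizer of every component is `k`-balanced then `Δ(A) = 1`. -/
theorem signalizerDelta_eq_bot (hO : pPrimeCore p G = ⊥) {A : Subgroup G} (hA : IsElementaryAbelian p A)
    (hA1 : A ≠ ⊥)
    (hbal : ∀ L : Subgroup G, IsComponent L → ∀ H : Subgroup G, L ≤ H → ∀ _ : H ≤ normalizer (L : Set G),
      ∀ [((centralizer (L : Set G)).subgroupOf H).Normal],
      ∀ B : Subgroup (↥H ⧸ (centralizer (L : Set G)).subgroupOf H), IsElementaryAbelian p B →
        Nat.card B = Nat.card A → signalizerDelta p B = ⊥) :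
    signalizerDelta p A = ⊥ := by
  obtain ⟨hD, hDA, hDn⟩ := signalizerDelta_props hA hA1
  exact eq_bot_of_forall_le_centralizer_component hO (PGroup.elemAb_isPGroup hA) hD hDA hDn
    fun L hL => signalizerDelta_le_centralizer_component hO hL hA hA1 (hbal L hL)

omit hp in
theorem elemAb_zpowers {x : G} (hx : orderOf x = p) : IsElementaryAbelian p (zpowers x) := by
  refine PGroup.isElementaryAbelian_mk ?_ ?_
  · rintro _ ⟨i, rfl⟩ _ ⟨j, rfl⟩
    exact (Commute.zpow_zpow_self x i j).eq
  · rintro _ ⟨i, rfl⟩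
    show (x ^ i) ^ p = 1
    rw [← zpow_natCast, zpow_comm, zpow_natCast, ← hx, pow_orderOf_eq_one, one_zpow]

theorem signalizerDelta_zpowers {x : G} (hx : orderOf x = p) :
    signalizerDelta p (zpowers x) = centralizerPPrimeCore p x := by
  refine le_antisymm (signalizerDelta_le (mem_zpowers x) fun h => ?_) (le_iInf ?_)
  · rw [h, orderOf_one] at hx
    exact hp.out.one_lt.ne hx
  rintro ⟨y, hy, hy1⟩
  haveI : Fact (Nat.card ↥(zpowers x)).Prime := ⟨by rw [Nat.card_zpowers, hx]; exact hp.out⟩
  have h1 : zpowers y = zpowers x := by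
    rcases eq_bot_or_eq_top_of_prime_card ((zpowers y).subgroupOf (zpowers x)) with h | h
    · rw [subgroupOf_eq_bot, disjoint_iff, inf_eq_left.2 (zpowers_le.2 hy)] at h
      exact absurd (zpowers_eq_bot.1 h) hy1
    · exact le_antisymm (zpowers_le.2 hy) (subgroupOf_eq_top.1 h)
  show centralizerPPrimeCore p x ≤ centralizerPPrimeCore p y
  refine le_centralizerPPrimeCore ?_ (card_centralizerPPrimeCore_coprime x) ?_
  · rw [← centralizer_zpowers', h1, centralizer_zpowers']
    exact centralizerPPrimeCore_le x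
  · rw [← centralizer_zpowers', h1, centralizer_zpowers']
    exact Solvable.le_normalizer_of_conj_mem fun c hc d hd =>
      conj_mem_centralizerPPrimeCore (mem_centralizer_singleton_iff.1 hc) hd

/-- The automizer of a component has trivial `p'`-core. -/
theorem pPrimeCore_automizer_eq_bot (hO : pPrimeCore p G = ⊥) {L : Subgroup G} (hL : IsComponent L)
    {H : Subgroup G} (hLH : L ≤ H) (hHN : H ≤ normalizer (L : Set G))
    [((centralizer (L : Set G)).subgroupOf H).Normal] :
    pPrimeCore p (↥H ⧸ (centralizer (L : Set G)).subgroupOf H) = ⊥ := by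
  set π := QuotientGroup.mk' ((centralizer (L : Set G)).subgroupOf H)
  set N := pPrimeCore p (↥H ⧸ (centralizer (L : Set G)).subgroupOf H)
  have hsnd : (((N.comap π).map H.subtype).subgroupOf L).Normal := by
    refine normal_subgroupOf_of_le_normalizer fun l hl => Solvable.mem_normalizer_of_conj_mem ?_
    rintro _ ⟨n, hn, rfl⟩
    exact ⟨⟨l, hLH hl⟩ * n * ⟨l, hLH hl⟩⁻¹, Normal.conj_mem (Normal.comap inferInstance π) n hn _, rfl⟩
  rw [eq_bot_iff]
  intro q hq
  obtain ⟨h, rfl⟩ := QuotientGroup.mk'_surjective _ q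
  rw [mem_bot]
  refine (QuotientGroup.eq_one_iff h).2 ?_
  rcases normal_eq_top_or_le_center_of_isQuasisimple hL.2 (((N.comap π).map H.subtype).subgroupOf L) with h1 | h1
  · exfalso
    obtain ⟨⟨s, hsL⟩, ⟨j, hsj⟩, hsc⟩ := not_all_pElem_central hL.2.1 (dvd_card_component hO hL)
    rw [orderOf_mk] at hsj
    obtain ⟨n, hn, hns⟩ := subgroupOf_eq_top.1 h1 hsL
    subst hns
    have h2 : orderOf (π n) = 1 := by
      refine Nat.eq_one_of_dvd_coprimes (Nat.Coprime.pow_left j (coprime_card_pPrimeCore p).symm) ?_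
        (orderOf_dvd_natCard N hn)
      rw [← hsj]
      exact (orderOf_map_dvd π n).trans (by rw [← orderOf_coe]; rfl)
    rw [orderOf_eq_one_iff] at h2
    have h3 : (n : G) ∈ centralizer (L : Set G) :=
      (QuotientGroup.eq_one_iff (N := (centralizer (L : Set G)).subgroupOf H) n).1 h2
    exact hsc (mem_center_iff.2 fun w => Subtype.ext (mem_centralizer_iff.1 h3 w w.2))
  · refine mem_centralizer_of_commutator_central (component_commutator_self hL) (fun l hl v hv => ?_)
      fun l hl => mul_mem ((mem_normalizer_iff.1 (hHN h.2) l).1 hl) (inv_mem hl)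
    have hm : (h : G) * l * (h : G)⁻¹ * l⁻¹ ∈ L := mul_mem ((mem_normalizer_iff.1 (hHN h.2) l).1 hl) (inv_mem hl)
    have hm2 : (h : G) * l * (h : G)⁻¹ * l⁻¹ ∈ (N.comap π).map H.subtype := by
      refine ⟨h * ⟨l, hLH hl⟩ * h⁻¹ * ⟨l, hLH hl⟩⁻¹, ?_, rfl⟩
      rw [SetLike.mem_coe, mul_assoc h, mul_assoc h]
      exact mul_mem hq (Normal.conj_mem (Normal.comap inferInstance π) _ (inv_mem hq) _)
    exact (congrArg Subtype.val (mem_center_iff.1 (h1 (show (⟨_, hm⟩ : L) ∈ _ from hm2)) ⟨v, hv⟩)).symm

/-! ### Automorphisms induced on `L / Z(L)` -/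

/-- The automorphism of `L` induced by an element of a subgroup normalizing it. -/
def conjOn {H L : Subgroup G} (hHN : H ≤ normalizer (L : Set G)) : H →* MulAut L where
  toFun h :=
    { toFun := fun l => ⟨h * l * (h : G)⁻¹, (mem_normalizer_iff.1 (hHN h.2) l).1 l.2⟩
      invFun := fun l => ⟨(h : G)⁻¹ * l * h, by
        have := (mem_normalizer_iff.1 (inv_mem (hHN h.2)) l).1 l.2
        rwa [inv_inv] at this⟩
      left_inv := fun l => Subtype.ext (by simp [mul_assoc])
      right_inv := fun l => Subtype.ext (by simp [mul_assoc])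
      map_mul' := fun l m => Subtype.ext (by simp [mul_assoc]) }
  map_one' := by ext l; simp
  map_mul' h k := by ext l; simp [mul_assoc]

/-- The automorphism of `L / Z(L)` induced by an element of a subgroup normalizing `L`. -/
def conjOnQuot {H L : Subgroup G} (hHN : H ≤ normalizer (L : Set G)) : H →* MulAut (↥L ⧸ center ↥L) where
  toFun h := QuotientGroup.congr (center ↥L) (center ↥L) (conjOn hHN h)
    (Subgroup.characteristic_iff_map_eq.1 inferInstance _)
  map_one' := by
    ext q
    obtain ⟨l, rfl⟩ := QuotientGroup.mk_surjective q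
    simp
  map_mul' h k := by
    ext q
    obtain ⟨l, rfl⟩ := QuotientGroup.mk_surjective q
    show QuotientGroup.mk (conjOn hHN (h * k) l) = QuotientGroup.mk (conjOn hHN h (conjOn hHN k l))
    rw [map_mul, MulAut.mul_apply]

omit [Finite G] hp in
theorem ker_conjOnQuot {H L : Subgroup G} (hHN : H ≤ normalizer (L : Set G)) (hperf : ⁅L, L⁆ = L) :
    (conjOnQuot hHN).ker = (centralizer (L : Set G)).subgroupOf H := by
  ext h
  constructor
  · intro hh
    have hc : ∀ l : L, ((conjOn hHN h l : L) * l⁻¹ : L) ∈ center ↥L := by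
      intro l
      have h1 := DFunLike.congr_fun (MonoidHom.mem_ker.1 hh) (QuotientGroup.mk l)
      rw [← div_eq_mul_inv, ← QuotientGroup.eq_iff_div_mem]
      exact h1
    refine mem_centralizer_of_commutator_central hperf (fun l hl v hv => ?_)
      fun l hl => mul_mem ((mem_normalizer_iff.1 (hHN h.2) l).1 hl) (inv_mem hl)
    exact (congrArg Subtype.val (mem_center_iff.1 (hc ⟨l, hl⟩) ⟨v, hv⟩)).symm
  · intro hh
    rw [MonoidHom.mem_ker]
    ext q
    obtain ⟨l, rfl⟩ := QuotientGroup.mk_surjective q
    have h1 : conjOn hHN h l = l := Subtype.ext (by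
      show (h : G) * l * (h : G)⁻¹ = l
      rw [← mem_centralizer_iff.1 (show (h : G) ∈ centralizer (L : Set G) from hh) l l.2, mul_inv_cancel_right])
    show QuotientGroup.mk (conjOn hHN h l) = _
    rw [h1]
    rfl

omit [Finite G] hp in
theorem range_conj_le_range_conjOnQuot {H L : Subgroup G} (hHN : H ≤ normalizer (L : Set G)) (hLH : L ≤ H) :
    (MulAut.conj : (↥L ⧸ center ↥L) →* MulAut (↥L ⧸ center ↥L)).range ≤ (conjOnQuot hHN).range := by
  rintro _ ⟨q, rfl⟩
  obtain ⟨l, rfl⟩ := QuotientGroup.mk_surjective q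
  refine ⟨⟨l, hLH l.2⟩, ?_⟩
  ext r
  obtain ⟨m, rfl⟩ := QuotientGroup.mk_surjective r
  show QuotientGroup.mk (conjOn hHN ⟨l, hLH l.2⟩ m) = _
  rw [MulAut.conj_apply, ← QuotientGroup.mk_inv, ← QuotientGroup.mk_mul, ← QuotientGroup.mk_mul]
  rfl

/-- `Δ(A) = 1` when the components are locally `k`-balanced modulo centres. -/
theorem signalizerDelta_eq_bot_of_locallyKBalanced (hO : pPrimeCore p G = ⊥) {A : Subgroup G}
    (hA : IsElementaryAbelian p A) {k : ℕ} (hk : 1 ≤ k) (hcard : Nat.card A = p ^ k)
    (hbal : ∀ L : Subgroup G, IsComponent L → IsLocallyKBalanced p k (↥L ⧸ center ↥L)) :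
    signalizerDelta p A = ⊥ := by
  have hA1 : A ≠ ⊥ := fun h => by
    rw [h, Subgroup.card_bot] at hcard
    exact (Nat.one_lt_pow (by omega) hp.out.one_lt).ne hcard
  refine signalizerDelta_eq_bot hO hA hA1 fun L hL H hLH hHN => ?_
  intro _ B hB hBcard
  set f := conjOnQuot hHN
  let e : (↥H ⧸ (centralizer (L : Set G)).subgroupOf H) ≃* ↥f.range :=
    (QuotientGroup.quotientMulEquivOfEq (ker_conjOnQuot hHN (component_commutator_self hL)).symm).trans
      (QuotientGroup.quotientKerEquivRange f)
  have h1 := hbal L hL f.range (range_conj_le_range_conjOnQuot hHN hLH) (B.map e.toMonoidHom)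
    (PGroup.elemAb_map hB _) (by
      rw [← hcard, ← hBcard]
      exact card_map_of_injective e.injective)
  have h2 := map_signalizerDelta_equiv_le (p := p) e B
  rw [h1, le_bot_iff] at h2
  exact map_injective (f := e.toMonoidHom) e.injective (h2.trans (Subgroup.map_bot _).symm)

/-- Local balance is local `1`-balance. -/
theorem isLocallyKBalanced_one_of_isLocallyBalanced {K : Type*} [Group K] [Finite K] (h : IsLocallyBalanced K) :
    IsLocallyKBalanced 2 1 K := by
  intro H hH A hA hcard
  rw [pow_one] at hcard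
  haveI : Fact (Nat.card A).Prime := ⟨hcard ▸ Nat.prime_two⟩
  obtain ⟨x, hx, hx1⟩ := A.bot_or_exists_ne_one.resolve_left fun h => by rw [h, Subgroup.card_bot] at hcard; omega
  exact le_bot_iff.1 ((signalizerDelta_le hx hx1).trans (h H hH x (orderOf_eq_prime (hA.2 x hx) hx1)).le)

/-- `O_{p'}(C(a)) ⊓ X` maps into the core of the centralizer of the image in `X / O_{p'}(X)`. -/
theorem map_signalizerDelta_le {X A : Subgroup G} (hAX : A ≤ X) (hA : IsElementaryAbelian p A) :
    ((signalizerDelta p A).subgroupOf X).map (QuotientGroup.mk' (pPrimeCore p X)) ≤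
      signalizerDelta p ((A.subgroupOf X).map (QuotientGroup.mk' (pPrimeCore p X))) := by
  set π := QuotientGroup.mk' (pPrimeCore p X)
  refine le_iInf fun ⟨_, ⟨a, ha, rfl⟩, ha1⟩ => ?_
  have ha1' : (a : G) ≠ 1 := fun h => ha1 (by rw [show a = 1 from Subtype.ext h, map_one])
  refine (map_mono (comap_mono (signalizerDelta_le (show (a : G) ∈ A from ha) ha1'))).trans ?_
  have ho : orderOf a = p := by rw [← orderOf_coe]; exact orderOf_eq_prime (hA.2 a ha) ha1'
  have hP : IsPGroup p (zpowers a) := isPGroup_zpowers_of_orderOf_eq ho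
  have h1 : (centralizerPPrimeCore p (a : G)).subgroupOf X ≤ centralizerPPrimeCore p a := by
    refine le_centralizerPPrimeCore ?_ ?_ ?_
    · intro d hd
      rw [mem_centralizer_singleton_iff]
      exact Subtype.ext (mem_centralizer_singleton_iff.1 (centralizerPPrimeCore_le _ hd))
    · rw [← inf_subgroupOf_right, Nat.card_congr (subgroupOfEquivOfLe inf_le_right).toEquiv]
      exact (card_centralizerPPrimeCore_coprime (a : G)).coprime_dvd_left (card_dvd_of_le inf_le_left)
    · refine Solvable.le_normalizer_of_conj_mem fun c hc d hd => ?_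
      exact conj_mem_centralizerPPrimeCore (congrArg Subtype.val (mem_centralizer_singleton_iff.1 hc)) hd
  refine (map_mono h1).trans (le_centralizerPPrimeCore ?_ ?_ ?_)
  · rintro _ ⟨d, hd, rfl⟩
    rw [mem_centralizer_singleton_iff, ← map_mul, ← map_mul,
      mem_centralizer_singleton_iff.1 (centralizerPPrimeCore_le a hd)]
  · exact (card_centralizerPPrimeCore_coprime a).coprime_dvd_left (card_map_dvd _ _)
  · have hC := map_mk'_centralizer_of_coprime hP (coprime_card_pPrimeCore (G := X) p)
    rw [centralizer_zpowers', MonoidHom.map_zpowers, centralizer_zpowers'] at hC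
    rw [← hC]
    refine (map_mono ?_).trans (le_normalizer_map _)
    exact Solvable.le_normalizer_of_conj_mem fun c hc d hd =>
      conj_mem_centralizerPPrimeCore (mem_centralizer_singleton_iff.1 hc) hd

end CfsgLib.Cores
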