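import Cfsg.Agent.Lib.Cores.Layer

/-!
Subnormal subgroups of `F*(G)`.
-/

namespace CfsgLib.Cores

open Subgroup Cfsg

variable {G : Type*} [Group G] [Finite G]

theorem component_centralizer_of_not_le {S : Subgroup G} (hS : S.IsSubnormal) {L : Subgroup G}
    (hL : IsComponent L) (h : ¬ L ≤ S) : S ≤ centralizer (L : Set G) := by
  rw [← commutator_eq_bot_iff_le_centralizer, commutator_comm]
  exact (component_le_or_commutator_eq_bot hL hS).resolve_left h

/-- A subnormal subgroup of `G` inside `F*(G)` is generated by its part in `F(G)` and the components it contains. -/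
theorem le_fitting_inf_sup_components {S : Subgroup G} (hS : S.IsSubnormal)
    (hle : S ≤ generalizedFittingSubgroup G) :
    S ≤ (fittingSubgroup G ⊓ S) ⊔ sSup {L : Subgroup G | IsComponent L ∧ L ≤ S} := by
  have := layer_normal (G := G)
  set E₁ := sSup {L : Subgroup G | IsComponent L ∧ L ≤ S} with hE₁
  set E₂ := sSup {L : Subgroup G | IsComponent L ∧ ¬ L ≤ S} with hE₂
  have hE₂C : E₂ ≤ centralizer (E₁ : Set G) := sSup_le fun L hL => by
    refine le_centralizer_iff.1 (sSup_le fun K hK => ?_)
    rw [← commutator_eq_bot_iff_le_centralizer]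
    exact commutator_components_eq_bot hK.1 hL.1 fun h => hL.2 (h ▸ hK.2)
  have hE : layer G ≤ E₁ ⊔ E₂ := layer_le_iff.2 fun L hL => by
    by_cases h : L ≤ S
    · exact le_sup_of_le_left (le_sSup (show L ∈ {L : Subgroup G | IsComponent L ∧ L ≤ S} from ⟨hL, h⟩))
    · exact le_sup_of_le_right (le_sSup (show L ∈ {L : Subgroup G | IsComponent L ∧ ¬ L ≤ S} from ⟨hL, h⟩))
  have hn : E₂ ≤ normalizer (E₁ : Set G) := hE₂C.trans (centralizer_le_normalizer _)
  intro s hs
  obtain ⟨e, he, f, hf, hef⟩ := mem_sup_of_normal_left.1 (hle hs)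
  have he' := hE he
  rw [← SetLike.mem_coe] at he'
  rw [coe_mul_of_right_le_normalizer_left E₁ E₂ hn] at he'
  obtain ⟨a, ha, c, hc, hac⟩ := Set.mem_mul.1 he'
  have haS : a ∈ S := (sSup_le fun L hL => hL.2 : E₁ ≤ S) ha
  have hb : c * f ∈ S := by
    have : c * f = a⁻¹ * s := by rw [← hef, ← hac]; group
    rw [this]
    exact mul_mem (inv_mem haS) hs
  have hE₁L : E₁ ≤ layer G := sSup_le fun L hL => component_le_layer hL.1
  have hE₂L : E₂ ≤ layer G := sSup_le fun L hL => component_le_layer hL.1
  have hfc : ∀ y ∈ layer G, y * f = f * y := fun y hy =>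
    (mem_centralizer_iff.1 (layer_le_centralizer_fittingSubgroup hy) f hf).symm
  have hS₂ : S ≤ centralizer (E₂ : Set G) := le_centralizer_iff.1 (sSup_le fun L hL =>
    le_centralizer_iff.1 (component_centralizer_of_not_le hS hL.1 hL.2))
  have hc2 : c ∈ centralizer (E₂ : Set G) := by
    rw [mem_centralizer_iff]
    intro y hy
    have h1 : y * (c * f) = c * f * y := mem_centralizer_iff.1 (hS₂ hb) y hy
    rw [mul_assoc c f y, ← hfc y (hE₂L hy), ← mul_assoc, ← mul_assoc] at h1
    exact mul_right_cancel h1
  have hcF : c ∈ fittingSubgroup G := by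
    have h : c ∈ fittingSubgroup G ⊓ layer G := by
      rw [← center_layer_eq, map_center_eq_inf_centralizer]
      refine ⟨hE₂L hc, ?_⟩
      refine mem_centralizer_iff.2 fun y hy => ?_
      have hy' := hE hy
      rw [← SetLike.mem_coe, coe_mul_of_right_le_normalizer_left E₁ E₂ hn] at hy'
      obtain ⟨u, hu, w, hw, rfl⟩ := Set.mem_mul.1 hy'
      rw [mul_assoc, mem_centralizer_iff.1 hc2 w hw, ← mul_assoc, mem_centralizer_iff.1 (hE₂C hc) u hu,
        mul_assoc]
    exact h.1
  rw [show s = a * (c * f) by rw [← hef, ← hac, mul_assoc]]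
  exact mul_mem (mem_sup_right ha) (mem_sup_left ⟨mul_mem hcF hf, hb⟩)

theorem fittingSubgroup_of_isSubnormal {S : Subgroup G} (hS : S.IsSubnormal) :
    (fittingSubgroup S).map S.subtype = fittingSubgroup G ⊓ S :=
  le_antisymm (le_inf (le_fittingSubgroup_of_isSubnormal
      ((fittingSubgroup_normal (G := S)).isSubnormal.trans' hS) (isNilpotent_map isNilpotent_fittingSubgroup _))
    (map_subtype_le _)) (fittingSubgroup_inf_le S)

theorem map_generalizedFittingSubgroup_of_isSubnormal_le {S : Subgroup G} (hS : S.IsSubnormal)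
    (hle : S ≤ generalizedFittingSubgroup G) : (generalizedFittingSubgroup S).map S.subtype = S := by
  refine le_antisymm (map_subtype_le _) ?_
  refine (le_fitting_inf_sup_components hS hle).trans (sup_le ?_ ?_)
  · rw [← fittingSubgroup_of_isSubnormal hS]
    exact map_mono fittingSubgroup_le_generalizedFittingSubgroup
  · rw [← map_subtype_layer_eq_sSup hS]
    exact map_mono layer_le_generalizedFittingSubgroup

theorem map_generalizedFittingSubgroup_le_of_isSubnormal {S : Subgroup G} (hS : S.IsSubnormal) :
    (generalizedFittingSubgroup S).map S.subtype ≤ generalizedFittingSubgroup G := by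
  rw [generalizedFittingSubgroup, Subgroup.map_sup, fittingSubgroup_of_isSubnormal hS]
  exact sup_le_sup (map_subtype_layer_le hS) inf_le_left

theorem generalizedFittingSubgroup_of_normal (B : Subgroup G) [B.Normal] :
    (generalizedFittingSubgroup B).map B.subtype = generalizedFittingSubgroup G ⊓ B := by
  have := generalizedFittingSubgroup_normal (G := G)
  have hB : B.IsSubnormal := Normal.isSubnormal inferInstance
  refine le_antisymm (le_inf (map_generalizedFittingSubgroup_le_of_isSubnormal hB) (map_subtype_le _)) ?_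
  set S := generalizedFittingSubgroup G ⊓ B
  have hS : S.IsSubnormal := (Normal.isSubnormal inferInstance).inf hB
  refine (le_fitting_inf_sup_components hS inf_le_left).trans (sup_le ?_ ?_)
  · refine le_trans (le_inf inf_le_left (inf_le_right.trans inf_le_right)) ?_
    rw [← fittingSubgroup_of_normal B]
    exact map_mono fittingSubgroup_le_generalizedFittingSubgroup
  · refine sSup_le fun L hL => ?_
    rw [← map_subgroupOf_eq_of_le (hL.2.trans inf_le_right)]
    exact map_mono ((component_le_layer (isComponent_subgroupOf hL.1 (hL.2.trans inf_le_right))).trans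
      layer_le_generalizedFittingSubgroup)

end CfsgLib.Cores
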