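import Cfsg.Agent.Lib.Cores.Balance
import Cfsg.Agent.Lib.Cores.Layer2
import Cfsg.Agent.Lib.Solvable.Nilpotent

/-!
The action of cores of centralizers of `p`-subgroups on the components, when `O_{p'}(G) = 1`.
-/

namespace CfsgLib.Cores

open Subgroup Cfsg

variable {G : Type*} [Group G] [Finite G] {p : ℕ} [hp : Fact p.Prime]

/-- A `p'`-subgroup centralizing `P` and normalized by `C(P)` centralizes `O_p(G)`. -/
theorem le_centralizer_pCore_of_le_centralizer {P D : Subgroup G} (hP : IsPGroup p P)
    (hD : (Nat.card D).Coprime p) (hDP : D ≤ centralizer (P : Set G))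
    (hDn : centralizer (P : Set G) ≤ normalizer (D : Set G)) : D ≤ centralizer (pCore p G : Set G) := by
  refine axb_le_centralizer hP (isPGroup_pCore p) ?_ ?_ (pPrimeElemClosure_eq_self_of_coprime hD) hDP ?_
  · rw [normalizer_eq_top]; exact le_top
  · rw [normalizer_eq_top]; exact le_top
  · rw [← commutator_eq_bot_iff_le_centralizer, eq_bot_iff]
    obtain ⟨n, hn⟩ := card_pCore_eq_pow (G := G) p
    refine le_trans (le_inf ?_ ?_)
      (disjoint_of_coprime_natCard (H := D) (K := pCore p G) (by rw [hn]; exact hD.pow_right n)).le_bot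
    · rw [commutator_comm]
      exact le_normalizer_iff_commutator_le_right.1 (inf_le_right.trans hDn)
    · exact (commutator_mono le_rfl inf_le_left).trans (commutator_le_right _ _)

variable (G) in
/-- `Z(E(G))` as a subgroup of `G`. -/
def layerCenter : Subgroup G := (center (layer G)).map (layer G).subtype

omit [Finite G] in
theorem layerCenter_le_layer : layerCenter G ≤ layer G := map_subtype_le _

omit [Finite G] in
theorem layerCenter_normal : (layerCenter G).Normal :=
  haveI := layer_normal (G := G)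
  map_center_normal _

theorem layerCenter_le_pCore (hO : pPrimeCore p G = ⊥) : layerCenter G ≤ pCore p G := by
  rw [← fittingSubgroup_eq_pCore hO, layerCenter, center_layer_eq]
  exact inf_le_left

theorem isPGroup_layerCenter (hO : pPrimeCore p G = ⊥) : IsPGroup p (layerCenter G) :=
  (isPGroup_pCore p).to_le (layerCenter_le_pCore hO)

omit [Finite G] in
theorem layerCenter_commute {z e : G} (hz : z ∈ layerCenter G) (he : e ∈ layer G) : e * z = z * e := by
  rw [layerCenter, map_center_eq_inf_centralizer] at hz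
  exact mem_centralizer_iff.1 hz.2 e he

/-- The centre of a component lies in `Z(E(G))`. -/
theorem mem_layerCenter_of_commute {L : Subgroup G} (hL : IsComponent L) {z : G} (hz : z ∈ L)
    (hc : ∀ l ∈ L, z * l = l * z) : z ∈ layerCenter G := by
  rw [layerCenter, map_center_eq_inf_centralizer]
  exact componentCenters_le_center_layer hL ⟨hz, mem_centralizer_iff.2 fun l hl => (hc l hl).symm⟩

omit [Finite G] in
/-- An element normalizing a quasisimple subgroup which induces central translations centralizes it. -/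
theorem mem_centralizer_of_commutator_central {L : Subgroup G} (hperf : ⁅L, L⁆ = L) {h : G}
    (hc : ∀ l ∈ L, ∀ v ∈ L, (h * l * h⁻¹ * l⁻¹) * v = v * (h * l * h⁻¹ * l⁻¹))
    (hm : ∀ l ∈ L, h * l * h⁻¹ * l⁻¹ ∈ L) : h ∈ centralizer (L : Set G) := by
  rw [mem_centralizer_iff]
  have hle : ⁅L, L⁆ ≤ centralizer ({h} : Set G) := by
    rw [commutator_le]
    intro x hx y hy
    rw [mem_centralizer_singleton_iff]
    set a := h * x * h⁻¹ * x⁻¹ with ha
    set b := h * y * h⁻¹ * y⁻¹ with hb
    have hax : h * x * h⁻¹ = a * x := by rw [ha]; group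
    have hby : h * y * h⁻¹ = b * y := by rw [hb]; group
    have haz := hc x hx
    have hbz := hc y hy
    rw [← ha] at haz
    rw [← hb] at hbz
    have key : h * (x * y * x⁻¹ * y⁻¹) * h⁻¹ = x * y * x⁻¹ * y⁻¹ := by
      have h1 : h * (x * y * x⁻¹ * y⁻¹) * h⁻¹ = a * x * (b * y) * (a * x)⁻¹ * (b * y)⁻¹ := by
        rw [← hax, ← hby]; group
      rw [h1]
      calc a * x * (b * y) * (a * x)⁻¹ * (b * y)⁻¹
          = a * (x * b) * (y * x⁻¹) * a⁻¹ * y⁻¹ * b⁻¹ := by group
        _ = a * (b * x) * (y * x⁻¹) * a⁻¹ * y⁻¹ * b⁻¹ := by rw [← hbz x hx]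
        _ = a * (b * (x * y * x⁻¹)) * a⁻¹ * y⁻¹ * b⁻¹ := by group
        _ = b * (x * y * x⁻¹) * a * a⁻¹ * y⁻¹ * b⁻¹ := by
            rw [haz _ (mul_mem (hb ▸ hm y hy) (mul_mem (mul_mem hx hy) (inv_mem hx)))]
        _ = b * (x * y * x⁻¹ * y⁻¹) * b⁻¹ := by group
        _ = x * y * x⁻¹ * y⁻¹ := by
            rw [hbz _ (mul_mem (mul_mem (mul_mem hx hy) (inv_mem hx)) (inv_mem hy)), mul_inv_cancel_right]
    rw [commutatorElement_def]
    exact (mul_inv_eq_iff_eq_mul.1 key).symm
  intro l hl
  exact mem_centralizer_singleton_iff.1 (hle (hperf.symm ▸ hl))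

omit [Finite G] hp in
theorem isComponent_conj {L : Subgroup G} (hL : IsComponent L) (g : G) :
    IsComponent (L.map (MulAut.conj g).toMonoidHom) :=
  isComponent_map_equiv (MulAut.conj g) hL

omit [Finite G] hp in
theorem map_conj_mul (L : Subgroup G) (g h : G) :
    L.map (MulAut.conj (g * h)).toMonoidHom = (L.map (MulAut.conj h).toMonoidHom).map (MulAut.conj g).toMonoidHom := by
  rw [map_map]
  congr 1
  ext y
  simp [mul_assoc]

omit [Finite G] hp in
theorem map_conj_eq_self_iff {L : Subgroup G} {g : G} :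
    L.map (MulAut.conj g).toMonoidHom = L ↔ g ∈ normalizer (L : Set G) := by
  constructor
  · intro h
    rw [mem_normalizer_iff]
    intro x
    refine ⟨fun hx => h.le ⟨x, hx, rfl⟩, fun hx => ?_⟩
    obtain ⟨y, hy, hyx⟩ := h.ge hx
    have : g * y * g⁻¹ = g * x * g⁻¹ := hyx
    rwa [← mul_left_cancel (mul_right_cancel this)]
  · intro h
    ext x
    rw [mem_map_equiv]
    show g⁻¹ * x * g ∈ L ↔ x ∈ L
    rw [mem_normalizer_iff.1 h (g⁻¹ * x * g)]
    simp [mul_assoc]

omit [Finite G] hp in
theorem mem_normalizer_pPrimeCore_map {H : Subgroup G} {y : G} (hy : y ∈ normalizer (H : Set G)) :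
    y ∈ normalizer (((pPrimeCore p H).map H.subtype : Subgroup G) : Set G) := by
  rw [← map_conj_eq_self_iff]
  have hH : H.map (MulAut.conj y).toMonoidHom = H := map_conj_eq_self_iff.2 hy
  let e : H ≃* H := ((MulAut.conj y).subgroupMap H).trans (MulEquiv.subgroupCongr hH)
  conv_rhs => rw [← map_pPrimeCore_equiv e]
  rw [map_map, map_map]
  rfl

/-- The product of the `P`-conjugates of `L`, with `Z(E(G))`. -/
def orbitProd (P L : Subgroup G) : Subgroup G :=
  (⨆ g : P, L.map (MulAut.conj (g : G)).toMonoidHom) ⊔ layerCenter G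

omit [Finite G] hp in
theorem orbitProd_le_layer {P L : Subgroup G} (hL : IsComponent L) : orbitProd P L ≤ layer G :=
  sup_le (iSup_le fun _ => component_le_layer (isComponent_conj hL _)) layerCenter_le_layer

omit [Finite G] hp in
theorem le_orbitProd (P L : Subgroup G) : L ≤ orbitProd P L := by
  refine le_trans ?_ le_sup_left
  refine le_trans (le_of_eq ?_) (le_iSup _ (1 : P))
  rw [OneMemClass.coe_one, map_conj_eq_self_iff.2 (one_mem _)]

/-- A noncentral `p`-element of the orbit product normalizing `P ⊔ Z(E(G))`. -/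
theorem exists_orbit_pElem (hO : pPrimeCore p G = ⊥) {P L : Subgroup G} (hP : IsPGroup p P) (hL : IsComponent L) :
    ∃ y ∈ orbitProd P L, y ∉ layerCenter G ∧ y ∈ normalizer ((P ⊔ layerCenter G : Subgroup G) : Set G) ∧
      ∃ j, orderOf y = p ^ j := by
  set Z := layerCenter G with hZdef
  haveI : Z.Normal := layerCenter_normal
  set W := orbitProd P L with hWdef
  have hLW : L ≤ W := le_orbitProd P L
  have hPW : ∀ g ∈ P, W.map (MulAut.conj g).toMonoidHom ≤ W := by
    intro g hg
    rw [hWdef, orbitProd, Subgroup.map_sup, Subgroup.map_iSup]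
    refine sup_le_sup (iSup_le fun h => ?_) (le_of_eq (map_conj_eq_self_iff.2 ?_))
    · rw [← map_conj_mul]
      exact le_iSup (fun h : P => L.map (MulAut.conj (h : G)).toMonoidHom) (⟨g, hg⟩ * h)
    · rw [normalizer_eq_top]; exact mem_top g
  set P' := P ⊔ Z
  have hP' : IsPGroup p P' := hP.to_sup_of_normal_right (isPGroup_layerCenter hO)
  have hP'W : P' ≤ normalizer (W : Set G) := by
    refine sup_le (Solvable.le_normalizer_of_conj_mem fun g hg x hx => hPW g hg ⟨x, hx, rfl⟩) ?_
    exact le_sup_right.trans le_normalizer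
  set M := W ⊔ P' with hMdef
  have hWM : (W.subgroupOf M).Normal :=
    (normal_subgroupOf_iff_le_normalizer le_sup_left).2 (sup_le le_normalizer hP'W)
  obtain ⟨Q, hQ⟩ := (hP'.of_equiv (subgroupOfEquivOfLe (le_sup_right : P' ≤ M)).symm).exists_le_sylow
  haveI : Group.IsNilpotent (Q : Subgroup M) := Q.2.isNilpotent
  -- `Q ∩ W` is not inside `Z`
  have hQW : ¬ (W.subgroupOf M).subgroupOf (Q : Subgroup M) ≤ (Z.subgroupOf M).subgroupOf (Q : Subgroup M) := by
    intro hle
    obtain ⟨⟨s, hsL⟩, ⟨k, hsk⟩, hsc⟩ := not_all_pElem_central hL.2.1 (dvd_card_component hO hL)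
    have hsM : s ∈ M := le_sup_left (a := W) (hLW hsL)
    rw [orderOf_mk] at hsk
    obtain ⟨R, hR⟩ := (IsPGroup.of_card (n := k) (show Nat.card ↥(zpowers (⟨s, hsM⟩ : M)) = p ^ k by
      rw [Nat.card_zpowers, orderOf_mk, hsk])).exists_le_sylow
    obtain ⟨m, hm⟩ := MulAction.exists_smul_eq M R Q
    have h1 : m * ⟨s, hsM⟩ * m⁻¹ ∈ (Q : Subgroup M) := by
      rw [← hm, Sylow.coe_subgroup_smul]
      exact smul_mem_pointwise_smul _ (MulAut.conj m) _ (hR (mem_zpowers _))
    have h2 : m * ⟨s, hsM⟩ * m⁻¹ ∈ W.subgroupOf M := hWM.conj_mem _ (hLW hsL) m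
    have h3 : (⟨_, h1⟩ : (Q : Subgroup M)) ∈ (Z.subgroupOf M).subgroupOf (Q : Subgroup M) := hle h2
    have h4 : (m : G) * s * (m : G)⁻¹ ∈ Z := h3
    have h5 : s ∈ Z := by
      simpa [mul_assoc] using Normal.conj_mem (inferInstance : Z.Normal) _ h4 (m : G)⁻¹
    exact hsc (mem_center_iff.2 fun l => Subtype.ext (layerCenter_commute h5 (component_le_layer hL l.2)))
  obtain ⟨⟨⟨y, hyM⟩, hyQ⟩, hyW, hyZ, hyc⟩ := Solvable.exists_central_mod_of_isNilpotent hQW
  replace hyW : y ∈ W := hyW
  replace hyZ : y ∉ Z := hyZ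
  have hyN : y ∈ normalizer (P' : Set G) := by
    refine Solvable.mem_normalizer_of_conj_mem fun g hg => ?_
    have h1 : y * g * y⁻¹ * g⁻¹ ∈ Z :=
      (hyc ⟨⟨g, le_sup_right (a := W) hg⟩, hQ hg⟩).2
    simpa using mul_mem (mem_sup_right (S := P) h1) hg
  obtain ⟨j, hj⟩ := IsPGroup.iff_orderOf.1 Q.2 ⟨⟨y, hyM⟩, hyQ⟩
  rw [orderOf_mk, orderOf_mk] at hj
  exact ⟨y, hyW, hyZ, hyN, j, hj⟩

/-- If `d` moves `L` out of its `P`-orbit and centralizes `P`, it moves noncentral elements of the orbit product
to commuting, different elements. -/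
theorem commute_conj_of_not_mem_orbit {P L : Subgroup G} (hL : IsComponent L) {d : G}
    (hdP : d ∈ centralizer (P : Set G))
    (horb : ∀ g ∈ P, L.map (MulAut.conj d).toMonoidHom ≠ L.map (MulAut.conj g).toMonoidHom)
    {y : G} (hyW : y ∈ orbitProd P L) :
    Commute (d * y * d⁻¹) y ∧ (y ∉ layerCenter G → d * y * d⁻¹ ≠ y) := by
  set Z := layerCenter G with hZdef
  haveI : Z.Normal := layerCenter_normal
  set W := orbitProd P L with hWdef
  have hWE : W ≤ layer G := orbitProd_le_layer hL
  -- distinct orbits commute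
  have hcom : W.map (MulAut.conj d).toMonoidHom ≤ centralizer (W : Set G) := by
    rw [← commutator_eq_bot_iff_le_centralizer, eq_bot_iff]
    rw [le_bot_iff, commutator_eq_bot_iff_le_centralizer]
    rw [hWdef, orbitProd, Subgroup.map_sup, Subgroup.map_iSup]
    have hZc : ∀ K : Subgroup G, K ≤ layer G → Z ≤ centralizer (K : Set G) := fun K hK z hz =>
      mem_centralizer_iff.2 fun e he => layerCenter_commute hz (hK he)
    refine sup_le (iSup_le fun g => ?_) ?_
    · rw [← commutator_eq_bot_iff_le_centralizer, commutator_comm, commutator_eq_bot_iff_le_centralizer]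
      refine sup_le (iSup_le fun h => ?_) (hZc _ ?_)
      · rw [← commutator_eq_bot_iff_le_centralizer]
        refine commutator_components_eq_bot (isComponent_conj hL _) (isComponent_conj (isComponent_conj hL _) d)
          fun he => horb ((g : G)⁻¹ * h) (mul_mem (inv_mem g.2) h.2) ?_
        rw [map_conj_mul L (g : G)⁻¹, he, ← map_conj_mul, ← map_conj_mul, mul_assoc]
        congr 3
        rw [← mem_centralizer_iff.1 hdP g g.2, inv_mul_cancel_left]
      · exact component_le_layer (isComponent_conj (isComponent_conj hL _) d)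
    · rw [map_conj_eq_self_iff.2 (by rw [normalizer_eq_top]; exact mem_top d)]
      exact hZc _ hWE
  refine ⟨(mem_centralizer_iff.1 (hcom ⟨y, hyW, rfl⟩) y hyW).symm, fun hyZ hone => hyZ ?_⟩
  rw [hZdef, layerCenter, map_center_eq_inf_centralizer]
  refine ⟨hWE hyW, mem_centralizer_iff.2 fun e he => ?_⟩
  have hall : layer G ≤ centralizer ({y} : Set G) := by
    refine layer_le_iff.2 fun K hK k hk => ?_
    rw [mem_centralizer_singleton_iff]
    by_cases hKO : ∃ g : P, K = L.map (MulAut.conj (g : G)).toMonoidHom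
    · obtain ⟨g, rfl⟩ := hKO
      have h2 : y ∈ centralizer (W : Set G) := hcom (hone ▸ ⟨y, hyW, rfl⟩)
      exact mem_centralizer_iff.1 h2 k (mem_sup_left (mem_iSup_of_mem g hk))
    · push Not at hKO
      have : W ≤ centralizer ({k} : Set G) := by
        refine sup_le (iSup_le fun g w hw => ?_) (fun w hw => ?_) <;> rw [mem_centralizer_singleton_iff]
        · exact (mem_centralizer_iff.1 (commutator_eq_bot_iff_le_centralizer.1
            (commutator_components_eq_bot hK (isComponent_conj hL _) (hKO g)) hk) w hw)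
        · exact (layerCenter_commute hw (component_le_layer hK hk)).symm
      exact (mem_centralizer_singleton_iff.1 (this hyW)).symm
  exact mem_centralizer_singleton_iff.1 (hall he)

/-- Coprime trick: an element of order prime to `p` commuting with `g` of `p`-power order which maps `L` as `g` fixes it. -/
theorem mem_normalizer_of_conj_eq {L : Subgroup G} {d g : G} {n k : ℕ} (hn : n.Coprime p) (hdn : d ^ n = 1)
    (hgk : orderOf g = p ^ k) (hgd : g * d = d * g)
    (he : L.map (MulAut.conj d).toMonoidHom = L.map (MulAut.conj g).toMonoidHom) :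
    d ∈ normalizer (L : Set G) := by
  have hpow : ∀ n : ℕ, L.map (MulAut.conj (d ^ n)).toMonoidHom = L.map (MulAut.conj (g ^ n)).toMonoidHom := by
    intro n
    induction n with
    | zero => rw [pow_zero, pow_zero]
    | succ n ih =>
      rw [pow_succ, map_conj_mul, he, ← map_conj_mul, show d ^ n * g = g * d ^ n from
        ((show Commute g d from hgd).pow_right n).eq.symm, map_conj_mul, ih, ← map_conj_mul, ← pow_succ']
  have h1 := hpow n
  rw [hdn] at h1
  rw [map_conj_eq_self_iff.2 (one_mem _), eq_comm, map_conj_eq_self_iff] at h1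
  obtain ⟨m, hm⟩ := exists_pow_eq_self_of_coprime (show n.Coprime (orderOf g) by rw [hgk]; exact hn.pow_right k)
  rw [← map_conj_eq_self_iff, he, map_conj_eq_self_iff, ← hm]
  exact pow_mem h1 m

/-- A `p'`-subgroup centralizing a `p`-subgroup `P` and normalized by `C(P)` normalizes every component. -/
theorem le_normalizer_component (hO : pPrimeCore p G = ⊥) {P D : Subgroup G} (hP : IsPGroup p P)
    (hD : (Nat.card D).Coprime p) (hDP : D ≤ centralizer (P : Set G))
    (hDn : centralizer (P : Set G) ≤ normalizer (D : Set G)) {L : Subgroup G} (hL : IsComponent L) :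
    D ≤ normalizer (L : Set G) := by
  intro d hd
  by_contra hne
  have horb : ∀ g ∈ P, L.map (MulAut.conj d).toMonoidHom ≠ L.map (MulAut.conj g).toMonoidHom := by
    intro g hg he
    obtain ⟨k, hk⟩ := IsPGroup.iff_orderOf.1 hP ⟨g, hg⟩
    rw [orderOf_mk] at hk
    exact hne (mem_normalizer_of_conj_eq hD (orderOf_dvd_iff_pow_eq_one.1 (orderOf_dvd_natCard D hd)) hk
      (mem_centralizer_iff.1 (hDP hd) g hg) he)
  obtain ⟨y, hyW, hyZ, hyN, j, hj⟩ := exists_orbit_pElem hO hP hL
  obtain ⟨hyy, hne'⟩ := commute_conj_of_not_mem_orbit hL (hDP hd) horb hyW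
  set Z := layerCenter G
  set P' := P ⊔ Z
  have hDZ : D ≤ centralizer (Z : Set G) :=
    (le_centralizer_pCore_of_le_centralizer hP hD hDP hDn).trans (centralizer_le (layerCenter_le_pCore hO))
  -- the core of `C(P')`
  set C' := centralizer (P' : Set G)
  set D' := (pPrimeCore p C').map C'.subtype with hD'def
  have hDC' : D ≤ C' := by
    intro e he
    rw [mem_centralizer_iff]
    have : P' ≤ centralizer ({e} : Set G) := by
      refine sup_le (fun g hg => ?_) (fun g hg => ?_) <;> rw [mem_centralizer_singleton_iff]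
      · exact mem_centralizer_iff.1 (hDP he) g hg
      · exact mem_centralizer_iff.1 (hDZ he) g hg
    exact fun g hg => mem_centralizer_singleton_iff.1 (this hg)
  have hDD' : D ≤ D' := by
    haveI : (D.subgroupOf C').Normal :=
      (normal_subgroupOf_iff_le_normalizer hDC').2 ((centralizer_le (SetLike.coe_subset_coe.2 le_sup_left)).trans hDn)
    rw [← map_subgroupOf_eq_of_le hDC']
    exact map_mono (le_pPrimeCore (by rwa [Nat.card_congr (subgroupOfEquivOfLe hDC').toEquiv]))
  have hyD' : y ∈ normalizer (D' : Set G) :=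
    mem_normalizer_pPrimeCore_map (Solvable.normalizer_le_normalizer_centralizer P' hyN)
  have hcm : d * y * d⁻¹ * y⁻¹ ∈ D' := by
    have h1 := mul_mem (hDD' hd) ((mem_normalizer_iff.1 hyD' _).1 (inv_mem (hDD' hd)))
    simpa [mul_assoc] using h1
  have hpp : (d * y * d⁻¹ * y⁻¹) ^ p ^ j = 1 := by
    rw [hyy.inv_right.mul_pow, conj_pow, inv_pow, ← hj, pow_orderOf_eq_one]
    simp
  have hone : d * y * d⁻¹ * y⁻¹ = 1 := by
    rw [← orderOf_eq_one_iff]
    refine Nat.eq_one_of_dvd_coprimes (Nat.Coprime.pow_left j ?_) (orderOf_dvd_of_pow_eq_one hpp)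
      (orderOf_dvd_natCard D' hcm)
    exact (card_map_pPrimeCore_coprime (p := p) C').symm
  exact hne' hyZ (mul_inv_eq_one.1 hone)

/-- If `x` centralizes `L` or moves it, then `O_{p'}(C(x))` centralizes `L`. -/
theorem centralizerPPrimeCore_le_centralizer_component (hO : pPrimeCore p G = ⊥) {x : G}
    (hx : orderOf x = p) {L : Subgroup G} (hL : IsComponent L)
    (h : x ∈ centralizer (L : Set G) ∨ x ∉ normalizer (L : Set G)) :
    centralizerPPrimeCore p x ≤ centralizer (L : Set G) := by
  set D := centralizerPPrimeCore p x with hDdef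
  have hD : (Nat.card D).Coprime p := card_centralizerPPrimeCore_coprime x
  have hxP : IsPGroup p (zpowers x) := isPGroup_zpowers_of_orderOf_eq hx
  have hDx : D ≤ centralizer (zpowers x : Set G) := fun e he => mem_centralizer_iff.2 fun y hy => by
    obtain ⟨i, rfl⟩ := hy
    exact (Commute.zpow_left (show Commute x e from
      (mem_centralizer_singleton_iff.1 (centralizerPPrimeCore_le x he)).symm) i).eq
  have hDn : centralizer (zpowers x : Set G) ≤ normalizer (D : Set G) :=
    Solvable.le_normalizer_of_conj_mem fun c hc e he =>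
      conj_mem_centralizerPPrimeCore (mem_centralizer_iff.1 hc x (mem_zpowers x)).symm he
  have hDN := le_normalizer_component hO hxP hD hDx hDn hL
  -- the part of `D ⊔ K` inside `L`
  suffices key : ∀ d ∈ D, ∀ l ∈ L, ∀ v ∈ L, (d * l * d⁻¹ * l⁻¹) * v = v * (d * l * d⁻¹ * l⁻¹) by
    exact fun d hd => mem_centralizer_of_commutator_central (component_commutator_self hL) (key d hd)
      fun l hl => mul_mem ((mem_normalizer_iff.1 (hDN hd) l).1 hl) (inv_mem hl)
  rcases h with hxc | hxn
  · intro d hd l hl v hv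
    have hlx : l * x = x * l := mem_centralizer_iff.1 hxc l hl
    have hm : d * l * d⁻¹ * l⁻¹ ∈ D := by
      have := mul_mem hd (conj_mem_centralizerPPrimeCore hlx (inv_mem hd))
      simpa [mul_assoc] using this
    have hn : (D ⊓ L).subgroupOf L |>.Normal := by
      refine normal_subgroupOf_of_le_normalizer (Solvable.le_normalizer_inf ?_ le_normalizer)
      exact fun w hw => Solvable.mem_normalizer_of_conj_mem fun e he =>
        conj_mem_centralizerPPrimeCore (mem_centralizer_iff.1 hxc w hw) he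
    rcases normal_eq_top_or_le_center_of_isQuasisimple hL.2 ((D ⊓ L).subgroupOf L) with h1 | h1
    · exfalso
      have h2 : L ≤ D := (subgroupOf_eq_top.1 h1).trans inf_le_left
      exact (coprime_iff_not_dvd hp.out _).1 hD ((dvd_card_component hO hL).trans (card_dvd_of_le h2))
    · have hm' : d * l * d⁻¹ * l⁻¹ ∈ L := mul_mem ((mem_normalizer_iff.1 (hDN hd) l).1 hl) (inv_mem hl)
      exact (congrArg Subtype.val (mem_center_iff.1 (h1 (show (⟨_, hm'⟩ : L) ∈ _ from ⟨hm, hm'⟩)) ⟨v, hv⟩)).symm
  -- `x` moves `L`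
  set E := layer G
  haveI : E.Normal := layer_normal
  set Z := layerCenter G
  haveI : Z.Normal := layerCenter_normal
  set K := (⨆ M : {M : Subgroup G // IsComponent M ∧ M ≠ L}, (M : Subgroup G)) ⊔ Z with hKdef
  have hKL : K ≤ centralizer (L : Set G) := by
    refine sup_le (iSup_le fun M => ?_) fun z hz => mem_centralizer_iff.2 fun e he =>
      layerCenter_commute hz (component_le_layer hL he)
    exact commutator_eq_bot_iff_le_centralizer.1 (commutator_components_eq_bot M.2.1 hL M.2.2)
  have hKn : ∀ g ∈ normalizer (L : Set G), g ∈ normalizer (K : Set G) := by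
    intro g hg
    refine Solvable.mem_normalizer_of_conj_mem fun w hw => ?_
    suffices hh : K.map (MulAut.conj g).toMonoidHom ≤ K from hh ⟨w, hw, rfl⟩
    rw [hKdef, Subgroup.map_sup, Subgroup.map_iSup]
    refine sup_le_sup (iSup_le fun M => ?_) (le_of_eq (map_conj_eq_self_iff.2 ?_))
    · refine le_iSup_of_le ⟨_, isComponent_conj M.2.1 g, fun he => M.2.2 ?_⟩ le_rfl
      exact map_injective (MulAut.conj g).injective (he.trans (map_conj_eq_self_iff.2 hg).symm)
    · rw [normalizer_eq_top]; exact mem_top g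
  set T := (D ⊓ E) ⊔ K with hTdef
  -- the diagonal
  have hdiag : ∀ l ∈ L, ∃ k ∈ K, (l * k) * x = x * (l * k) := by
    intro l hl
    have hq : ∀ n : ℕ, 1 ≤ n → n ≤ p → ∃ k ∈ K, (l * x) ^ n * (x ^ n)⁻¹ = l * k := by
      intro n
      induction n with
      | zero => intro h; omega
      | succ n ih =>
        intro _ hn
        rcases Nat.eq_zero_or_pos n with rfl | hn0
        · exact ⟨1, one_mem K, by simp⟩
        obtain ⟨k, hk, he⟩ := ih hn0 (by omega)
        have hmove : L.map (MulAut.conj (x ^ n)).toMonoidHom ≠ L := by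
          intro h2
          apply hxn
          have hc : n.Coprime (orderOf x) := by
            rw [hx]
            exact ((Nat.Prime.coprime_iff_not_dvd hp.out).2 fun h3 => by
              have := Nat.le_of_dvd hn0 h3; omega).symm
          obtain ⟨m, hm⟩ := exists_pow_eq_self_of_coprime hc
          exact hm ▸ pow_mem (map_conj_eq_self_iff.1 h2) m
        refine ⟨k * (x ^ n * l * (x ^ n)⁻¹), mul_mem hk (mem_sup_left
          (mem_iSup_of_mem (⟨_, isComponent_conj hL _, hmove⟩ : {M : Subgroup G // IsComponent M ∧ M ≠ L})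
            (show x ^ n * l * (x ^ n)⁻¹ ∈ L.map (MulAut.conj (x ^ n)).toMonoidHom from ⟨l, hl, rfl⟩))), ?_⟩
        calc (l * x) ^ (n + 1) * (x ^ (n + 1))⁻¹
            = ((l * x) ^ n * (x ^ n)⁻¹) * (x ^ n * l * (x ^ n)⁻¹) := by
              rw [pow_succ, pow_succ]; group
          _ = _ := by rw [he, mul_assoc]
    obtain ⟨k, hk, he⟩ := hq p hp.out.one_le le_rfl
    rw [← hx, pow_orderOf_eq_one, inv_one, mul_one, hx] at he
    refine ⟨k, hk, ?_⟩
    have hlk : l * k = k * l := mem_centralizer_iff.1 (hKL hk) l hl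
    have h1 : x * (l * x) ^ p * x⁻¹ = l⁻¹ * (l * x) ^ p * l := by
      rw [← conj_pow, show x * (l * x) * x⁻¹ = l⁻¹ * (l * x) * l⁻¹⁻¹ by group, conj_pow, inv_inv]
    rw [he, inv_mul_cancel_left, ← hlk] at h1
    exact (mul_inv_eq_iff_eq_mul.1 h1).symm
  have hLT : L ≤ normalizer (T : Set G) := by
    intro l hl
    obtain ⟨k, hk, hcx⟩ := hdiag l hl
    have hk' : k ∈ normalizer (T : Set G) := le_normalizer (mem_sup_right hk)
    have hm : l * k ∈ normalizer (T : Set G) := by
      rw [hTdef, ← map_conj_eq_self_iff, Subgroup.map_sup]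
      congr 1 <;> rw [map_conj_eq_self_iff]
      · refine Solvable.mem_normalizer_of_conj_mem fun e he => ⟨conj_mem_centralizerPPrimeCore hcx he.1, ?_⟩
        exact Normal.conj_mem inferInstance e he.2 _
      · exact mul_mem (hKn l (le_normalizer hl)) (le_normalizer hk)
    simpa using mul_mem hm (inv_mem hk')
  haveI : (T.subgroupOf L).Normal := normal_subgroupOf_of_le_normalizer hLT
  intro d hd l hl v hv
  obtain ⟨k, hk, hcx⟩ := hdiag l hl
  have hkE : l * k ∈ E := mul_mem (component_le_layer hL hl)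
    ((sup_le (iSup_le fun M => component_le_layer M.2.1) layerCenter_le_layer : K ≤ E) hk)
  have hm1 : d * (l * k) * d⁻¹ * (l * k)⁻¹ ∈ T := by
    refine mem_sup_left ⟨?_, ?_⟩
    · have := mul_mem hd (conj_mem_centralizerPPrimeCore hcx (inv_mem hd))
      simpa [mul_assoc] using this
    · exact E.mul_mem (Normal.conj_mem inferInstance _ hkE d) (E.inv_mem hkE)
  have hm2 : l * ((d * k * d⁻¹) * k⁻¹) * l⁻¹ ∈ T := by
    refine mem_sup_right ((mem_normalizer_iff.1 (hKn l (le_normalizer hl)) _).1 (mul_mem ?_ (inv_mem hk)))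
    exact (mem_normalizer_iff.1 (hKn d (hDN hd)) k).1 hk
  have hmL : d * l * d⁻¹ * l⁻¹ ∈ L := mul_mem ((mem_normalizer_iff.1 (hDN hd) l).1 hl) (inv_mem hl)
  have hmT : d * l * d⁻¹ * l⁻¹ ∈ T := by
    have := mul_mem hm1 (inv_mem hm2)
    simpa [mul_assoc] using this
  rcases normal_eq_top_or_le_center_of_isQuasisimple hL.2 (T.subgroupOf L) with h1 | h1
  · exfalso
    have h2 : L ≤ T := subgroupOf_eq_top.1 h1
    obtain ⟨⟨s, hsL⟩, ⟨j, hsj⟩, hsc⟩ := not_all_pElem_central hL.2.1 (dvd_card_component hO hL)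
    rw [orderOf_mk] at hsj
    apply hsc
    have hsK : s ∈ K := by
      have hKnD : D ⊓ E ≤ normalizer (K : Set G) := fun e he => hKn e (hDN he.1)
      obtain ⟨k', hk', e, he, heq⟩ := Solvable.exists_mul_of_mem_sup hKnD
        (show s ∈ K ⊔ (D ⊓ E) from sup_comm (D ⊓ E) K ▸ h2 hsL)
      set R := (D ⊓ E) ⊔ K
      haveI : (K.subgroupOf R).Normal :=
        (normal_subgroupOf_iff_le_normalizer le_sup_right).2 (sup_le hKnD le_normalizer)
      set π := QuotientGroup.mk' (K.subgroupOf R)
      have h3 : π ⟨s, h2 hsL⟩ = π ⟨e, mem_sup_left he⟩ := by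
        rw [show (⟨s, h2 hsL⟩ : R) = ⟨k', mem_sup_right hk'⟩ * ⟨e, mem_sup_left he⟩ from Subtype.ext heq,
          map_mul, show π ⟨k', mem_sup_right hk'⟩ = 1 from (QuotientGroup.eq_one_iff _).2 hk', one_mul]
      have h4 : orderOf (π ⟨s, h2 hsL⟩) = 1 := by
        refine Nat.eq_one_of_dvd_coprimes (Nat.Coprime.pow_left j hD.symm) ?_ ?_
        · have := orderOf_map_dvd π ⟨s, h2 hsL⟩
          rwa [orderOf_mk, hsj] at this
        · rw [h3]
          refine (orderOf_map_dvd π _).trans ?_
          rw [orderOf_mk]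
          exact (orderOf_dvd_natCard (D ⊓ E) he).trans (card_dvd_of_le inf_le_left)
      rw [orderOf_eq_one_iff] at h4
      exact (QuotientGroup.eq_one_iff (N := K.subgroupOf R) _).1 h4
    exact mem_center_iff.2 fun w => Subtype.ext (mem_centralizer_iff.1 (hKL hsK) w w.2)
  · exact (congrArg Subtype.val (mem_center_iff.1 (h1 (show (⟨_, hmL⟩ : L) ∈ _ from hmT)) ⟨v, hv⟩)).symm

end CfsgLib.Cores
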