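import Cfsg.Agent.Lib.LocalEven.CoprimeGeneration
import Cfsg.Agent.Lib.Solvable.Basic

/-!
The order formula of Brauer and Wielandt for a `p × p` group acting coprimely.
-/

namespace CfsgLib.Cores

open Subgroup
open scoped IsMulCommutative

universe u

variable {G : Type u} [Group G] [Finite G] {p : ℕ} [hp : Fact p.Prime]

omit [Finite G] hp in
theorem centralizer_eq_inf_of_gen {x y : G} :
    centralizer ((zpowers x ⊔ zpowers y : Subgroup G) : Set G) =
      centralizer ({x} : Set G) ⊓ centralizer ({y} : Set G) := by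
  refine le_antisymm (le_inf (centralizer_le ?_) (centralizer_le ?_)) fun c hc => ?_
  · rw [Set.singleton_subset_iff]; exact mem_sup_left (mem_zpowers x)
  · rw [Set.singleton_subset_iff]; exact mem_sup_right (mem_zpowers y)
  · have hle : zpowers x ⊔ zpowers y ≤ centralizer ({c} : Set G) :=
      sup_le (zpowers_le.2 (mem_centralizer_singleton_iff.2 (mem_centralizer_singleton_iff.1 hc.1).symm))
        (zpowers_le.2 (mem_centralizer_singleton_iff.2 (mem_centralizer_singleton_iff.1 hc.2).symm))
    exact mem_centralizer_iff.2 fun a ha => mem_centralizer_singleton_iff.1 (hle ha)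

/-- The generators of the lines of `⟨x, y⟩`. -/
def lineGen (x y : G) : Option (Fin p) → G
  | none => x
  | some i => y * x ^ (i : ℕ)

omit [Finite G] in
theorem mem_centralizer_of_two_lines {x y v : G} (hx : x ^ p = 1) {i j : Option (Fin p)} (hij : i ≠ j)
    (hi : v ∈ centralizer ({lineGen x y i} : Set G)) (hj : v ∈ centralizer ({lineGen x y j} : Set G)) :
    v ∈ centralizer ({x} : Set G) ⊓ centralizer ({y} : Set G) := by
  rw [mem_centralizer_singleton_iff] at hi hj
  have hkey : Commute v x := by
    match i, j, hij, hi, hj with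
    | none, _, _, hi, _ => exact hi
    | _, none, _, _, hj => exact hj
    | some a, some b, hab, hi, hj =>
      have hne : (a : ℕ) ≠ b := fun h => hab (congrArg some (Fin.ext h))
      have h1 : Commute v (x ^ (((b : ℕ) : ℤ) - (a : ℕ))) := by
        rw [show x ^ (((b : ℕ) : ℤ) - (a : ℕ)) = (y * x ^ (a : ℕ))⁻¹ * (y * x ^ (b : ℕ)) by
          rw [zpow_sub, zpow_natCast, zpow_natCast, ← (Commute.pow_pow_self x (a : ℕ) (b : ℕ)).inv_left.eq]
          group]
        exact (show Commute v _ from hi).inv_right.mul_right hj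
      have hcop : IsCoprime (((b : ℕ) : ℤ) - (a : ℕ)) (p : ℤ) := by
        refine ((Nat.prime_iff_prime_int.1 hp.out).coprime_iff_not_dvd.2 fun h => hne ?_).symm
        have ha := a.2
        have hb := b.2
        have h2 := Int.eq_zero_of_abs_lt_dvd h (abs_lt.2 ⟨by omega, by omega⟩)
        omega
      obtain ⟨s, t, hst⟩ := hcop
      have h2 : x = (x ^ (((b : ℕ) : ℤ) - (a : ℕ))) ^ s := by
        rw [← zpow_mul, mul_comm]
        calc x = x ^ (s * (((b : ℕ) : ℤ) - (a : ℕ)) + t * p) := by rw [hst, zpow_one]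
          _ = x ^ (s * (((b : ℕ) : ℤ) - (a : ℕ))) := by
            rw [zpow_add, mul_comm t, zpow_mul x (p : ℤ), zpow_natCast, hx, one_zpow, mul_one]
      rw [h2]
      exact h1.zpow_right s
  refine mem_inf.2 ⟨mem_centralizer_singleton_iff.2 hkey, mem_centralizer_singleton_iff.2 ?_⟩
  have key2 : ∀ k : ℕ, v * (y * x ^ k) = y * x ^ k * v → v * y = y * v := fun k hk => by
    have := (show Commute v (y * x ^ k) from hk).mul_right (hkey.pow_right k).inv_right
    rw [mul_inv_cancel_right] at this
    exact this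
  match i, j, hij, hi, hj with
  | some a, _, _, hi, _ => exact key2 a hi
  | none, some b, _, _, hj => exact key2 b hj
  | none, none, hij, _, _ => exact absurd rfl hij

omit [Finite G] in
theorem lineGen_pow {x y : G} (hx : x ^ p = 1) (hy : y ^ p = 1) (hxy : Commute x y) (i : Option (Fin p)) :
    lineGen x y i ^ p = 1 := by
  match i with
  | none => exact hx
  | some a =>
    show (y * x ^ (a : ℕ)) ^ p = 1
    rw [(hxy.symm.pow_right _).mul_pow, hy, ← pow_mul, mul_comm, pow_mul, hx, one_pow, one_mul]

omit [Finite G] hp in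
theorem lineGen_mem {x y : G} {S : Subgroup G} (hx : x ∈ S) (hy : y ∈ S) (i : Option (Fin p)) :
    lineGen x y i ∈ S := by
  match i with
  | none => exact hx
  | some a => exact mul_mem hy (pow_mem hx _)

omit [Finite G] hp in
theorem lineGen_commute {x y : G} (hxy : Commute x y) (i j : Option (Fin p)) :
    Commute (lineGen x y i) (lineGen x y j) := by
  have h1 : ∀ k, Commute x (lineGen (p := p) x y k) := by
    intro k
    match k with
    | none => exact Commute.refl x
    | some a => exact hxy.mul_right (Commute.pow_right (Commute.refl x) _)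
  have h2 : ∀ k, Commute y (lineGen (p := p) x y k) := by
    intro k
    match k with
    | none => exact hxy.symm
    | some a => exact (Commute.refl y).mul_right (hxy.symm.pow_right _)
  match i with
  | none => exact h1 j
  | some a => exact (h2 j).mul_left ((h1 j).pow_left _)

/-- The formula for an abelian operated group. -/
theorem brauerWielandt_comm {x y : G} (hx : x ^ p = 1) (hy : y ^ p = 1) (hxy : Commute x y)
    {V : Subgroup G} [IsMulCommutative V] (hV : (Nat.card V).Coprime p)
    (hxV : x ∈ normalizer (V : Set G)) (hyV : y ∈ normalizer (V : Set G)) :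
    Nat.card V * Nat.card ↥(V ⊓ centralizer ((zpowers x ⊔ zpowers y : Subgroup G) : Set G)) ^ p =
      ∏ i : Option (Fin p), Nat.card ↥(V ⊓ centralizer ({lineGen x y i} : Set G)) := by
  classical
  rw [centralizer_eq_inf_of_gen]
  set C := V ⊓ (centralizer ({x} : Set G) ⊓ centralizer ({y} : Set G)) with hC
  set F : Option (Fin p) → Subgroup G := fun i => V ⊓ centralizer ({lineGen x y i} : Set G) with hF
  have hFV : ∀ i, F i ≤ V := fun i => inf_le_left
  let φ : (∀ i, F i) →* V :=
    { toFun := fun v => ∏ i, (⟨(v i : G), hFV i (v i).2⟩ : V)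
      map_one' := Finset.prod_eq_one fun i _ => rfl
      map_mul' := fun v w => by rw [← Finset.prod_mul_distrib]; rfl }
  have hrange : φ.range = ⊤ := by
    rw [eq_top_iff]
    have key : V ≤ φ.range.map V.subtype := by
      have hsingle : ∀ i, F i ≤ φ.range.map V.subtype := fun i v hv => by
        refine ⟨⟨v, hFV i hv⟩, ⟨Pi.mulSingle i ⟨v, hv⟩, ?_⟩, rfl⟩
        show (∏ j, (⟨((Pi.mulSingle i ⟨v, hv⟩ : ∀ i, F i) j : G), hFV j (Subtype.property _)⟩ : V)) = ⟨v, hFV i hv⟩
        rw [Finset.prod_eq_single i]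
        · simp [Pi.mulSingle_eq_same]
        · intro j _ hj
          simp [Pi.mulSingle_eq_of_ne hj]
        · simp
      refine LocalEven.le_of_line_centralizers hx hy hxy hV hxV hyV (hsingle none) fun i => ?_
      have hmod : y * x ^ i = y * x ^ (i % p) := by rw [← pow_eq_pow_mod i hx]
      rw [hmod]
      exact hsingle (some ⟨i % p, Nat.mod_lt _ hp.out.pos⟩)
    intro v _
    obtain ⟨w, hw, hwv⟩ := key v.2
    rwa [← Subtype.ext (a1 := w) (a2 := v) hwv]
  -- the norm maps
  have hconj : ∀ (i : Option (Fin p)) (k : ℕ) (v : G), v ∈ V → lineGen x y i ^ k * v * (lineGen x y i ^ k)⁻¹ ∈ V :=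
    fun i k v hv => (mem_normalizer_iff.1 (pow_mem (lineGen_mem hxV hyV i) k) v).1 hv
  let N : Option (Fin p) → V →* V := fun j =>
    { toFun := fun v => ∏ k ∈ Finset.range p, (⟨_, hconj j k v v.2⟩ : V)
      map_one' := Finset.prod_eq_one fun k _ => by ext; simp
      map_mul' := fun v w => by
        rw [← Finset.prod_mul_distrib]
        exact Finset.prod_congr rfl fun k _ => by ext; simp [mul_assoc] }
  have hNfix : ∀ (j : Option (Fin p)) (v : V) (g : G), Commute g (lineGen x y j) → Commute g (v : G) →
      Commute g (N j v : G) := by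
    intro j v g hg hgv
    show Commute g ((∏ k ∈ Finset.range p, (⟨_, hconj j k v v.2⟩ : V) : V) : G)
    generalize Finset.range p = s
    induction s using Finset.induction with
    | empty => simp
    | insert a s ha ih =>
      rw [Finset.prod_insert ha, Subgroup.coe_mul]
      exact (((hg.pow_right a).mul_right hgv).mul_right (hg.pow_right a).inv_right).mul_right ih
  have hNself : ∀ (j : Option (Fin p)) (v : V), Commute (lineGen x y j) (N j v : G) := by
    intro j v
    have hshift : ∀ w : V, (⟨_, hconj j 1 w w.2⟩ : V) = ⟨lineGen x y j * w * (lineGen x y j)⁻¹,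
        (mem_normalizer_iff.1 (lineGen_mem hxV hyV j) w).1 w.2⟩ := fun w => by simp [pow_one]
    let c : V →* V :=
      { toFun := fun w => ⟨lineGen x y j * w * (lineGen x y j)⁻¹,
          (mem_normalizer_iff.1 (lineGen_mem hxV hyV j) w).1 w.2⟩
        map_one' := by ext; simp
        map_mul' := fun a b => by ext; simp [mul_assoc] }
    have h1 : c (N j v) = N j v := by
      show c (∏ k ∈ Finset.range p, (⟨_, hconj j k v v.2⟩ : V)) = ∏ k ∈ Finset.range p, (⟨_, hconj j k v v.2⟩ : V)
      rw [map_prod]
      have h2 : ∀ k, c ⟨_, hconj j k v v.2⟩ = (⟨_, hconj j (k + 1) v v.2⟩ : V) := fun k => by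
        ext
        show lineGen x y j * (lineGen x y j ^ k * v * (lineGen x y j ^ k)⁻¹) * (lineGen x y j)⁻¹ =
          lineGen x y j ^ (k + 1) * v * (lineGen x y j ^ (k + 1))⁻¹
        rw [pow_succ']
        group
      simp only [h2]
      obtain ⟨q, hq⟩ : ∃ q, p = q + 1 := ⟨p - 1, by have := hp.out.pos; omega⟩
      have e1 := Finset.prod_range_succ (fun k => (⟨_, hconj j (k + 1) v v.2⟩ : V)) q
      have e2 := Finset.prod_range_succ' (fun k => (⟨_, hconj j k v v.2⟩ : V)) q
      rw [← hq] at e1 e2
      rw [e1, e2]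
      congr 1
      ext
      simp only [← hq, lineGen_pow hx hy hxy j, pow_zero]
    have h3 : lineGen x y j * (N j v : G) * (lineGen x y j)⁻¹ = (N j v : G) := congrArg Subtype.val h1
    exact mul_inv_eq_iff_eq_mul.1 h3
  -- the kernel
  have hker : ∀ v ∈ φ.ker, ∀ j, (v j : G) ∈ C := by
    intro v hv j
    have h0 : ∏ i, N j ⟨(v i : G), hFV i (v i).2⟩ = 1 := by
      rw [← map_prod, show (∏ i, (⟨(v i : G), hFV i (v i).2⟩ : V)) = 1 from hv, map_one]
    rw [← Finset.mul_prod_erase _ _ (Finset.mem_univ j)] at h0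
    have hself : N j ⟨(v j : G), hFV j (v j).2⟩ = ⟨(v j : G), hFV j (v j).2⟩ ^ p := by
      show (∏ k ∈ Finset.range p, _) = _
      rw [Finset.prod_congr rfl (g := fun _ => (⟨(v j : G), hFV j (v j).2⟩ : V)) fun k _ => ?_]
      · rw [Finset.prod_const, Finset.card_range]
      · ext
        have hc : Commute (lineGen x y j) (v j : G) := (mem_centralizer_singleton_iff.1 (v j).2.2).symm
        show lineGen x y j ^ k * (v j : G) * (lineGen x y j ^ k)⁻¹ = (v j : G)
        rw [(hc.pow_left k).eq, mul_inv_cancel_right]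
    set CV := C.subgroupOf V
    have hrest : ∏ i ∈ Finset.univ.erase j, N j ⟨(v i : G), hFV i (v i).2⟩ ∈ CV := by
      refine Subgroup.prod_mem _ fun i hi => ?_
      set w := N j ⟨(v i : G), hFV i (v i).2⟩ with hw
      refine mem_inf.2 ⟨w.2, mem_centralizer_of_two_lines hx (Finset.ne_of_mem_erase hi) ?_ ?_⟩
      · rw [mem_centralizer_singleton_iff]
        exact (hNfix j ⟨(v i : G), hFV i (v i).2⟩ _ (lineGen_commute hxy i j) (mem_centralizer_singleton_iff.1 (v i).2.2).symm).symm
      · rw [mem_centralizer_singleton_iff]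
        exact (hNself j _).symm
    rw [mul_eq_one_iff_eq_inv, hself] at h0
    have h4 : (⟨(v j : G), hFV j (v j).2⟩ : V) ^ p ∈ CV := h0 ▸ inv_mem hrest
    obtain ⟨m, hm⟩ := exists_pow_eq_self_of_coprime (x := (⟨(v j : G), hFV j (v j).2⟩ : V)) (n := p)
      (hV.symm.coprime_dvd_right (orderOf_dvd_natCard _))
    exact (hm ▸ pow_mem h4 m :)
  have hCF : ∀ i, C ≤ F i := fun i c hc => by
    refine mem_inf.2 ⟨hc.1, mem_centralizer_singleton_iff.2 ?_⟩
    have h1 : Commute c x := mem_centralizer_singleton_iff.1 hc.2.1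
    have h2 : Commute c y := mem_centralizer_singleton_iff.1 hc.2.2
    match i with
    | none => exact h1
    | some a => exact h2.mul_right (h1.pow_right _)
  have hCc : IsMulCommutative C := ⟨⟨fun a b => Subtype.ext
    (show (a : G) * b = b * a from congrArg Subtype.val (mul_comm (⟨a, a.2.1⟩ : V) ⟨b, b.2.1⟩))⟩⟩
  let toV : C →* V := inclusion inf_le_left
  let e : φ.ker ≃ (Fin p → C) :=
    { toFun := fun v a => ⟨_, hker v v.2 (some a)⟩
      invFun := fun w => ⟨fun i => ⟨_, hCF i (Option.elim i (∏ a, w a)⁻¹ w).2⟩, by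
        have h5 : ∏ i : Option (Fin p), toV (Option.elim i (∏ a, w a)⁻¹ w) = 1 := by
          rw [← map_prod, Fintype.prod_option]
          simp
        exact h5⟩
      left_inv := fun v => by
        ext i
        match i with
        | none =>
          have h1 : (∏ i, (⟨(v.1 i : G), hFV i (v.1 i).2⟩ : V)) = 1 := v.2
          rw [Fintype.prod_option, mul_eq_one_iff_eq_inv] at h1
          show (((∏ a, (⟨_, hker v v.2 (some a)⟩ : C))⁻¹ : C) : G) = _
          have h2 := congrArg Subtype.val h1
          have h3 : (toV (∏ a, (⟨_, hker v v.2 (some a)⟩ : C))⁻¹ : G) = (v.1 none : G) := by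
            rw [map_inv, map_prod]
            exact h2.symm
          exact h3
        | some a => rfl
      right_inv := fun w => rfl }
  have hcard : Nat.card φ.ker = Nat.card C ^ p := by
    rw [Nat.card_congr e, Nat.card_fun, Nat.card_eq_fintype_card (α := Fin p), Fintype.card_fin]
  have hfin := Subgroup.card_eq_card_quotient_mul_card_subgroup φ.ker
  rw [Nat.card_congr (QuotientGroup.quotientKerEquivRange φ).toEquiv, hrange, Subgroup.card_top, hcard,
    Nat.card_pi] at hfin
  exact hfin.symm

omit [Finite G] hp in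
/-- `|S| = |S^π| |S ⊓ N|`. -/
theorem card_eq_card_map_mk'_mul {N : Subgroup G} [N.Normal] (S : Subgroup G) :
    Nat.card S = Nat.card (S.map (QuotientGroup.mk' N)) * Nat.card ↥(S ⊓ N : Subgroup G) := by
  rw [← relIndex_ker (K := S) (QuotientGroup.mk' N), QuotientGroup.ker_mk', relIndex,
    ← Nat.card_congr (subgroupOfEquivOfLe (inf_le_left : S ⊓ N ≤ S)).toEquiv, inf_subgroupOf_left,
    mul_comm, Subgroup.card_mul_index]

/-- The formula for an operated group of prime power order. -/
theorem brauerWielandt_pGroup {q : ℕ} [Fact q.Prime] (n : ℕ) :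
    ∀ (G : Type u) [Group G] [Finite G] (x y : G), x ^ p = 1 → y ^ p = 1 → Commute x y →
      ∀ Q : Subgroup G, Nat.card Q = n → IsPGroup q Q → (Nat.card Q).Coprime p →
        x ∈ normalizer (Q : Set G) → y ∈ normalizer (Q : Set G) →
        Nat.card Q * Nat.card ↥(Q ⊓ centralizer ((zpowers x ⊔ zpowers y : Subgroup G) : Set G)) ^ p =
          ∏ i : Option (Fin p), Nat.card ↥(Q ⊓ centralizer ({lineGen x y i} : Set G)) := by
  induction n using Nat.strong_induction_on with
  | _ n ih =>
    intro G _ _ x y hx hy hxy Q hn hQ hcop hxQ hyQ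
    by_cases hcomm : IsMulCommutative Q
    · exact brauerWielandt_comm hx hy hxy hcop hxQ hyQ
    have hQ1 : Nontrivial Q := by
      by_contra h
      rw [not_nontrivial_iff_subsingleton] at h
      exact hcomm ⟨⟨fun a b => Subsingleton.elim _ _⟩⟩
    set Z := (center Q).map Q.subtype with hZ
    have hZQ : Z ≤ Q := map_subtype_le _
    have hNZ : normalizer (Q : Set G) ≤ normalizer (Z : Set G) := by
      intro g hg
      refine Solvable.mem_normalizer_of_conj_mem ?_
      rintro _ ⟨z, hz, rfl⟩
      refine ⟨⟨g * z * g⁻¹, (mem_normalizer_iff.1 hg z).1 z.2⟩, mem_center_iff.2 fun w => Subtype.ext ?_, rfl⟩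
      have hw : g⁻¹ * (w : G) * g ∈ Q := (mem_normalizer_iff''.1 hg w).1 w.2
      have h1 : g⁻¹ * (w : G) * g * z = z * (g⁻¹ * w * g) := congrArg Subtype.val (mem_center_iff.1 hz ⟨_, hw⟩)
      calc (w : G) * (g * z * g⁻¹) = g * (g⁻¹ * w * g * z) * g⁻¹ := by group
        _ = g * z * g⁻¹ * w := by rw [h1]; group
    haveI : IsMulCommutative Z := ⟨⟨by
      rintro ⟨_, a, ha, rfl⟩ ⟨_, b, -, rfl⟩
      exact Subtype.ext (congrArg Subtype.val (mem_center_iff.1 ha b)).symm⟩⟩
    have hZ1 : Z ≠ ⊥ := by
      haveI := hQ.center_nontrivial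
      rw [hZ, ne_eq, Subgroup.map_eq_bot_iff_of_injective _ Q.subtype_injective, ← ne_eq,
        ← nontrivial_iff_ne_bot]
      infer_instance
    set M := normalizer (Z : Set G)
    haveI : (Z.subgroupOf M).Normal := normal_in_normalizer
    set π := QuotientGroup.mk' (Z.subgroupOf M)
    have hQM : Q ≤ M := le_normalizer.trans hNZ
    have hxM : x ∈ M := hNZ hxQ
    have hyM : y ∈ M := hNZ hyQ
    set x' : M := ⟨x, hxM⟩
    set y' : M := ⟨y, hyM⟩
    set Q' := Q.subgroupOf M
    have hcopZ : (Nat.card Z).Coprime p := hcop.coprime_dvd_left (card_dvd_of_le hZQ)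
    have hnorm : ∀ z : M, (z : G) ∈ normalizer (Q : Set G) → π z ∈ normalizer ((Q'.map π : Subgroup _) : Set _) :=
      fun z hz => le_normalizer_map π ⟨z, mem_normalizer_iff.2 fun w => mem_normalizer_iff.1 hz (w : G), rfl⟩
    have hcardQ : Nat.card Q = Nat.card (Q'.map π) * Nat.card Z := by
      rw [← Nat.card_congr (subgroupOfEquivOfLe hQM).toEquiv, card_eq_card_map_mk'_mul (N := Z.subgroupOf M) Q',
        (inf_eq_right.2 (comap_mono hZQ) : Q' ⊓ Z.subgroupOf M = Z.subgroupOf M), Nat.card_congr (subgroupOfEquivOfLe (le_normalizer : Z ≤ M)).toEquiv]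
    have hlt : Nat.card (Q'.map π) < n := by
      rw [← hn, hcardQ]
      refine lt_mul_of_one_lt_right Nat.card_pos ?_
      haveI := (nontrivial_iff_ne_bot Z).2 hZ1
      exact Finite.one_lt_card
    have hfix : ∀ A : Subgroup M, IsPGroup p A → A ≤ normalizer ((Q' : Subgroup M) : Set M) →
        Nat.card ↥(Q ⊓ centralizer ((A.map M.subtype : Subgroup G) : Set G)) =
          Nat.card ↥(Q'.map π ⊓ centralizer ((A.map π : Subgroup _) : Set _)) *
            Nat.card ↥(Z ⊓ centralizer ((A.map M.subtype : Subgroup G) : Set G)) := by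
      intro A hA hAQ
      set S := Q' ⊓ centralizer (A : Set M)
      have hcen : centralizer (A : Set M) = (centralizer ((A.map M.subtype : Subgroup G) : Set G)).subgroupOf M := by
        ext c
        simp only [mem_subgroupOf, mem_centralizer_iff]
        constructor
        · rintro h _ ⟨a, ha, rfl⟩
          exact congrArg Subtype.val (h a ha)
        · exact fun h a ha => Subtype.ext (h _ ⟨a, ha, rfl⟩)
      have h1 : S.map π = Q'.map π ⊓ centralizer ((A.map π : Subgroup _) : Set _) := by
        apply le_antisymm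
        · rintro _ ⟨s, hs, rfl⟩
          refine ⟨⟨s, hs.1, rfl⟩, mem_centralizer_iff.2 ?_⟩
          rintro _ ⟨a, ha, rfl⟩
          rw [← map_mul, ← map_mul, mem_centralizer_iff.1 hs.2 a ha]
        · rintro q' ⟨⟨s, hs, rfl⟩, hq⟩
          have hcA : (Nat.card A).Coprime (Nat.card (Z.subgroupOf M)) := by
            obtain ⟨k, hk⟩ := IsPGroup.iff_card.1 hA
            rw [hk, Nat.card_congr (subgroupOfEquivOfLe (le_normalizer : Z ≤ M)).toEquiv]
            exact hcopZ.symm.pow_left k
          haveI : Group.IsNilpotent A := hA.isNilpotent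
          obtain ⟨z, hz, hzs⟩ := Solvable.exists_mul_mem_centralizer A (Z.subgroupOf M)
            (le_top.trans (normalizer_eq_top (H := Z.subgroupOf M)).ge) hcA (Or.inl inferInstance) s fun a ha => by
              rw [← QuotientGroup.eq_one_iff, ← QuotientGroup.mk'_apply (Z.subgroupOf M), map_commutatorElement,
                commutatorElement_eq_one_iff_mul_comm]
              exact mem_centralizer_iff.1 hq _ ⟨a, ha, rfl⟩
          refine ⟨z * s, ⟨mul_mem (comap_mono hZQ hz) hs, hzs⟩, ?_⟩
          rw [map_mul, show π z = 1 from (QuotientGroup.eq_one_iff z).2 hz, one_mul]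
      rw [← h1]
      have h2 := card_eq_card_map_mk'_mul (N := Z.subgroupOf M) S
      have e1 : S = (Q ⊓ centralizer ((A.map M.subtype : Subgroup G) : Set G)).subgroupOf M := by
        show Q' ⊓ _ = _
        rw [hcen]
        rfl
      have e2 : S ⊓ Z.subgroupOf M = (Z ⊓ centralizer ((A.map M.subtype : Subgroup G) : Set G)).subgroupOf M := by
        ext c
        simp only [e1, mem_inf, mem_subgroupOf]
        exact ⟨fun h => ⟨h.2, h.1.2⟩, fun h => ⟨⟨hZQ h.1, h.2⟩, h.1⟩⟩
      rw [e2] at h2
      nth_rw 1 [e1] at h2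
      rw [Nat.card_congr (subgroupOfEquivOfLe (inf_le_left.trans hQM)).toEquiv,
        Nat.card_congr (subgroupOfEquivOfLe (inf_le_left.trans (le_normalizer : Z ≤ M))).toEquiv] at h2
      exact h2
    have hpow : ∀ z : M, (z : G) ^ p = 1 → z ^ p = 1 := fun z hz => Subtype.ext (by simpa using hz)
    have hx' := hpow x' hx
    have hy' := hpow y' hy
    have hxy' : Commute x' y' := Subtype.ext hxy.eq
    have hlg : ∀ i, M.subtype (lineGen x' y' i) = lineGen (p := p) x y i := by
      intro i
      match i with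
      | none => rfl
      | some a => rfl
    have hlgπ : ∀ i, π (lineGen x' y' i) = lineGen (p := p) (π x') (π y') i := by
      intro i
      match i with
      | none => rfl
      | some a =>
        show π (y' * x' ^ (a : ℕ)) = π y' * π x' ^ (a : ℕ)
        rw [map_mul, map_pow]
    have hIH := ih _ hlt (↥M ⧸ Z.subgroupOf M) (π x') (π y') (by rw [← map_pow, hx', map_one])
      (by rw [← map_pow, hy', map_one]) (hxy'.map π) (Q'.map π) rfl
      ((hQ.of_equiv (subgroupOfEquivOfLe hQM).symm).map π) (hcop.coprime_dvd_left ⟨_, hcardQ⟩)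
      (hnorm x' hxQ) (hnorm y' hyQ)
    have hZc := brauerWielandt_comm hx hy hxy hcopZ hxM hyM
    have hQ'n : ∀ z : M, (z : G) ∈ normalizer (Q : Set G) → z ∈ normalizer ((Q' : Subgroup M) : Set M) :=
      fun z hz => mem_normalizer_iff.2 fun w => mem_normalizer_iff.1 hz (w : G)
    have hA := hfix (zpowers x' ⊔ zpowers y') (IsPGroup.to_sup_of_normal_right'
      (LocalEven.zpowers_pow_prime_isPGroup hx') (LocalEven.zpowers_pow_prime_isPGroup hy')
      (zpowers_le.2 (centralizer_le_normalizer _ (mem_centralizer_iff.2 fun w hw => by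
        obtain ⟨i, rfl⟩ := hw
        exact (hxy'.symm.zpow_left i).eq))))
      (sup_le (zpowers_le.2 (hQ'n x' hxQ)) (zpowers_le.2 (hQ'n y' hyQ)))
    rw [Subgroup.map_sup, Subgroup.map_sup, MonoidHom.map_zpowers, MonoidHom.map_zpowers, MonoidHom.map_zpowers,
      MonoidHom.map_zpowers] at hA
    have hL : ∀ i : Option (Fin p), Nat.card ↥(Q ⊓ centralizer ({lineGen x y i} : Set G)) =
        Nat.card ↥(Q'.map π ⊓ centralizer ({lineGen (π x') (π y') i} : Set _)) *
          Nat.card ↥(Z ⊓ centralizer ({lineGen x y i} : Set G)) := by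
      intro i
      have h := hfix (zpowers (lineGen x' y' i)) (LocalEven.zpowers_pow_prime_isPGroup (lineGen_pow hx' hy' hxy' i))
        (zpowers_le.2 (hQ'n _ (by
          rw [show ((lineGen x' y' i : M) : G) = lineGen x y i from hlg i]
          exact lineGen_mem hxQ hyQ i)))
      rw [MonoidHom.map_zpowers, MonoidHom.map_zpowers, centralizer_zpowers'', centralizer_zpowers'', hlg, hlgπ] at h
      exact h
    simp only [hL, Finset.prod_mul_distrib, ← hIH, ← hZc]
    simp only [Subgroup.coe_subtype, x', y'] at hA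
    rw [hcardQ, hA, mul_pow]
    ring
where
  centralizer_zpowers'' {H : Type u} [Group H] (a : H) :
      centralizer (zpowers a : Set H) = centralizer ({a} : Set H) := by
    refine le_antisymm (centralizer_le (by simp)) fun c hc => mem_centralizer_iff.2 ?_
    rintro _ ⟨i, rfl⟩
    exact (Commute.zpow_left (show Commute a c from (mem_centralizer_singleton_iff.1 hc).symm) i).eq

/-- In coprime action, an invariant Sylow subgroup meets each fixed point group in a Sylow subgroup. -/
theorem factorization_card_inf_centralizer {A B K : Subgroup G} (hBA : B ≤ A)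
    (hAB : A ≤ normalizer ((centralizer (B : Set G) : Subgroup G) : Set G))
    (hAK : A ≤ normalizer (K : Set G)) (hcop : (Nat.card A).Coprime (Nat.card K)) (hA : Group.IsSolvable A)
    (q : ℕ) [Fact q.Prime] (Q : Sylow q K)
    (hQ : A ≤ normalizer ((Q : Subgroup K).map K.subtype : Set G)) :
    (Nat.card ↥(K ⊓ centralizer (B : Set G))).factorization q =
      (Nat.card ↥((Q : Subgroup K).map K.subtype ⊓ centralizer (B : Set G))).factorization q := by
  set C := K ⊓ centralizer (B : Set G)
  have hAC : A ≤ normalizer (C : Set G) := Solvable.le_normalizer_inf hAK hAB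
  obtain ⟨R, hR⟩ := Solvable.exists_invariant_sylow A C hAC
    (hcop.coprime_dvd_right (card_dvd_of_le inf_le_left)) (Or.inl hA) q
  obtain ⟨P, hRP, hP⟩ := Solvable.exists_invariant_sylow_ge hAK hcop (Or.inl hA) q
    ((map_subtype_le _).trans inf_le_left) (R.2.map C.subtype) hR
  obtain ⟨c, ⟨hcK, hcA⟩, hc⟩ := Solvable.exists_centralizer_conj_sylow A K hAK hcop (Or.inl hA) P Q hP hQ
  have hle : ((R : Subgroup C).map C.subtype).map (MulAut.conj c).toMonoidHom ≤
      (Q : Subgroup K).map K.subtype ⊓ centralizer (B : Set G) := by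
    rintro _ ⟨r, hr, rfl⟩
    refine mem_inf.2 ⟨hc ▸ Subgroup.smul_mem_pointwise_smul _ (MulAut.conj c) _ (hRP hr), ?_⟩
    show c * r * c⁻¹ ∈ centralizer (B : Set G)
    have h1 : c ∈ centralizer (B : Set G) := centralizer_le (SetLike.coe_subset_coe.2 hBA) hcA
    exact mul_mem (mul_mem h1 ((map_subtype_le _ : _ ≤ C) hr).2) (inv_mem h1)
  have hQC : (Q : Subgroup K).map K.subtype ⊓ centralizer (B : Set G) ≤ C :=
    inf_le_inf_right _ (map_subtype_le _)
  have h1 := card_dvd_of_le hle
  rw [card_map_of_injective (MulAut.conj c).injective, card_map_of_injective C.subtype_injective,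
    R.card_eq_multiplicity] at h1
  exact le_antisymm ((Nat.Prime.pow_dvd_iff_le_factorization Fact.out Nat.card_pos.ne').1 h1)
    ((Nat.factorization_le_iff_dvd Nat.card_pos.ne' Nat.card_pos.ne').2 (card_dvd_of_le hQC) q)

/-- The order formula of Brauer and Wielandt. -/
theorem brauerWielandt {x y : G} (hx : x ^ p = 1) (hy : y ^ p = 1) (hxy : Commute x y)
    {K : Subgroup G} (hK : (Nat.card K).Coprime p) (hxK : x ∈ normalizer (K : Set G))
    (hyK : y ∈ normalizer (K : Set G)) :
    Nat.card K * Nat.card ↥(K ⊓ centralizer ((zpowers x ⊔ zpowers y : Subgroup G) : Set G)) ^ p =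
      ∏ i : Option (Fin p), Nat.card ↥(K ⊓ centralizer ({lineGen x y i} : Set G)) := by
  set A := zpowers x ⊔ zpowers y with hAdef
  have hAK : A ≤ normalizer (K : Set G) := sup_le (zpowers_le.2 hxK) (zpowers_le.2 hyK)
  have hAp : IsPGroup p A := IsPGroup.to_sup_of_normal_right' (LocalEven.zpowers_pow_prime_isPGroup hx)
    (LocalEven.zpowers_pow_prime_isPGroup hy) (zpowers_le.2 (centralizer_le_normalizer _ (mem_centralizer_iff.2
      fun w hw => by obtain ⟨i, rfl⟩ := hw; exact (hxy.symm.zpow_left i).eq)))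
  have hAc : ∀ a ∈ A, ∀ b ∈ A, a * b = b * a := by
    have h1 : A ≤ centralizer (A : Set G) := by
      rw [hAdef, centralizer_eq_inf_of_gen]
      refine sup_le (zpowers_le.2 ?_) (zpowers_le.2 ?_)
      · exact mem_inf.2 ⟨mem_centralizer_singleton_iff.2 rfl, mem_centralizer_singleton_iff.2 hxy.eq⟩
      · exact mem_inf.2 ⟨mem_centralizer_singleton_iff.2 hxy.eq.symm, mem_centralizer_singleton_iff.2 rfl⟩
    exact fun a ha b hb => (mem_centralizer_iff.1 (h1 ha) b hb).symm
  haveI : Group.IsNilpotent A := hAp.isNilpotent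
  have hcop : (Nat.card A).Coprime (Nat.card K) := by
    obtain ⟨k, hk⟩ := IsPGroup.iff_card.1 hAp
    rw [hk]
    exact hK.symm.pow_left k
  refine Nat.eq_of_factorization_eq (mul_ne_zero Nat.card_pos.ne' (pow_ne_zero _ Nat.card_pos.ne'))
    (Finset.prod_ne_zero_iff.2 fun i _ => Nat.card_pos.ne') fun q => ?_
  by_cases hq : q.Prime
  swap
  · rw [Nat.factorization_eq_zero_of_not_prime _ hq, Nat.factorization_eq_zero_of_not_prime _ hq]
  haveI : Fact q.Prime := ⟨hq⟩
  obtain ⟨Q, hQ⟩ := Solvable.exists_invariant_sylow A K hAK hcop (Or.inl inferInstance) q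
  set Q' := (Q : Subgroup K).map K.subtype
  have h := brauerWielandt_pGroup (p := p) (q := q) _ G x y hx hy hxy Q' rfl (Q.2.map _)
    (hK.coprime_dvd_left (card_dvd_of_le (map_subtype_le _))) (hQ (mem_sup_left (mem_zpowers x)))
    (hQ (mem_sup_right (mem_zpowers y)))
  have hnormC : ∀ B ≤ A, A ≤ normalizer ((centralizer (B : Set G) : Subgroup G) : Set G) := fun B hB a ha =>
    Solvable.normalizer_le_normalizer_centralizer B
      (centralizer_le_normalizer _ (mem_centralizer_iff.2 fun b hb => hAc b (hB hb) a ha))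
  have hfA := factorization_card_inf_centralizer le_rfl (hnormC A le_rfl) hAK hcop inferInstance q Q hQ
  have hfL : ∀ i : Option (Fin p), (Nat.card ↥(K ⊓ centralizer ({lineGen x y i} : Set G))).factorization q =
      (Nat.card ↥(Q' ⊓ centralizer ({lineGen x y i} : Set G))).factorization q := by
    intro i
    have hle : zpowers (lineGen x y i) ≤ A :=
      zpowers_le.2 (lineGen_mem (mem_sup_left (mem_zpowers x)) (mem_sup_right (mem_zpowers y)) i)
    have := factorization_card_inf_centralizer hle (hnormC _ hle) hAK hcop inferInstance q Q hQ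
    rwa [brauerWielandt_pGroup.centralizer_zpowers''] at this
  have hfK : (Nat.card K).factorization q = (Nat.card Q').factorization q := by
    rw [card_map_of_injective K.subtype_injective, Q.card_eq_multiplicity, Nat.factorization_pow,
      hq.factorization]
    simp
  have h2 := congrArg (fun m => Nat.factorization m q) h
  simp only [Nat.factorization_mul Nat.card_pos.ne' (pow_ne_zero _ Nat.card_pos.ne'), Nat.factorization_pow,
    Nat.factorization_prod fun i _ => Nat.card_pos.ne', Finsupp.add_apply, Finsupp.smul_apply,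
    Finsupp.finset_sum_apply] at h2 ⊢
  simp only [hfK, hfA, hfL]
  exact h2

end CfsgLib.Cores
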