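import Cfsg.Agent.Lib.Cores.Coprime

/-!
p-components and the p-layer: the p-component over a component `Kbar` of `G / O_{p'}(G)` is the subgroup
generated by the p-elements of the preimage of `Kbar`.
-/

namespace CfsgLib.Cores

open Subgroup Cfsg

variable {G : Type*} [Group G] [Finite G] {p : ℕ} [hp : Fact p.Prime]

omit hp in
/-- A `p`-element of `H ⊔ O` lies in `H` when `H` is subnormal and `O` is a normal `p'`-subgroup. -/
theorem pElem_mem_of_isSubnormal {H O : Subgroup G} [O.Normal] (hO : (Nat.card O).Coprime p)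
    (hH : H.IsSubnormal) {x : G} {k : ℕ} (hk : orderOf x = p ^ k) (hx : x ∈ H ⊔ O) : x ∈ H := by
  induction hH with
  | top => exact mem_top x
  | step A B hle _ hN ih =>
    have hxB : x ∈ B := ih (sup_le_sup_right hle O hx)
    obtain ⟨a, ha, o, ho, hao⟩ := mem_sup_of_normal_right.1 hx
    have hoB : o ∈ B := by
      rw [← inv_mul_cancel_left a o, hao]
      exact mul_mem (inv_mem (hle ha)) hxB
    set π := QuotientGroup.mk' (A.subgroupOf B)
    have h1 : π ⟨x, hxB⟩ = π ⟨o, hoB⟩ := by
      rw [show (⟨x, hxB⟩ : B) = ⟨a, hle ha⟩ * ⟨o, hoB⟩ from Subtype.ext hao.symm, map_mul,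
        show π ⟨a, hle ha⟩ = 1 from (QuotientGroup.eq_one_iff _).2 ha, one_mul]
    have h2 : orderOf (π ⟨x, hxB⟩) ∣ p ^ k := by
      have := orderOf_map_dvd π ⟨x, hxB⟩
      rwa [orderOf_mk, hk] at this
    have h3 : orderOf (π ⟨x, hxB⟩) ∣ Nat.card O := by
      rw [h1]
      refine (orderOf_map_dvd π _).trans ?_
      rw [orderOf_mk]
      exact (orderOf_dvd_natCard O ho).trans (dvd_refl _)
    have h4 : orderOf (π ⟨x, hxB⟩) = 1 :=
      Nat.eq_one_of_dvd_coprimes (Nat.Coprime.pow_right k hO) h3 h2
    rw [orderOf_eq_one_iff] at h4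
    exact (QuotientGroup.eq_one_iff (N := A.subgroupOf B) (⟨x, hxB⟩ : B)).1 h4

theorem isSubnormal_pElemClosure {M : Subgroup G} (hM : M.IsSubnormal) :
    (pElemClosure p M).IsSubnormal :=
  IsSubnormal.step _ _ (pElemClosure_le p M) hM
    ((normal_subgroupOf_iff_le_normalizer (pElemClosure_le p M)).2
      (le_normalizer.trans (normalizer_le_normalizer_pElemClosure p M)))

theorem not_all_pElem_central {X : Type*} [Group X] [Finite X] (hperf : Group.IsPerfect X)
    (hdvd : p ∣ Nat.card X) : ∃ x : X, (∃ k, orderOf x = p ^ k) ∧ x ∉ center X := by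
  by_contra h
  push Not at h
  obtain ⟨P⟩ : Nonempty (Sylow p X) := inferInstance
  have hPc : (P : Subgroup X) ≤ center X := fun x hx => by
    obtain ⟨k, hk⟩ := IsPGroup.iff_orderOf.1 P.2 ⟨x, hx⟩
    rw [orderOf_mk] at hk
    exact h x ⟨k, hk⟩
  have hPn : (P : Subgroup X).Normal := ⟨fun n hn g => by
    rwa [mem_center_iff.1 (hPc hn) g, mul_inv_cancel_right]⟩
  have hcop : Nat.Coprime (Nat.card (P : Subgroup X)) (P : Subgroup X).index := P.card_coprime_index
  obtain ⟨C, hC⟩ := Subgroup.exists_right_complement'_of_coprime hcop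
  have hcomm : commutator X ≤ C := by
    rw [_root_.commutator_def, commutator_le]
    intro a _ b _
    obtain ⟨⟨u, c⟩, hu, -⟩ := hC.existsUnique a
    obtain ⟨⟨v, d⟩, hv, -⟩ := hC.existsUnique b
    dsimp only at hu hv
    have h1 : ∀ z ∈ (P : Subgroup X), ∀ g : X, z * g = g * z :=
      fun z hz g => (mem_center_iff.1 (hPc hz) g).symm
    rw [← hu, ← hv, commutatorElement_def]
    have : (u : X) * c * (v * d) * ((u : X) * c)⁻¹ * ((v : X) * d)⁻¹ = c * d * (c : X)⁻¹ * (d : X)⁻¹ := by
      have e1 : (u : X) * c * (v * d) = (u : X) * v * (c * d) := by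
        rw [mul_assoc (u : X) c, ← mul_assoc (c : X) v d, ← h1 v v.2 c]; group
      have e2 : ∀ g : X, (u : X) * g * (u : X)⁻¹ = g := fun g => by rw [h1 u u.2 g, mul_inv_cancel_right]
      have e3 : ∀ g : X, (v : X) * g * (v : X)⁻¹ = g := fun g => by rw [h1 v v.2 g, mul_inv_cancel_right]
      rw [e1, mul_inv_rev, mul_inv_rev]
      calc (u : X) * v * (c * d) * ((c : X)⁻¹ * (u : X)⁻¹) * ((d : X)⁻¹ * (v : X)⁻¹)
          = ((u : X) * ((v : X) * (c * d * (c : X)⁻¹)) * (u : X)⁻¹) * (d : X)⁻¹ * (v : X)⁻¹ := by group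
        _ = (v : X) * (c * d * (c : X)⁻¹ * (d : X)⁻¹) * (v : X)⁻¹ := by rw [e2]; group
        _ = _ := e3 _
    rw [this]
    exact mul_mem (mul_mem (mul_mem c.2 d.2) (inv_mem c.2)) (inv_mem d.2)
  rw [hperf.commutator_eq_top, top_le_iff] at hcomm
  have hbot : (P : Subgroup X) = ⊥ := by
    have := hC.disjoint.eq_bot
    rwa [hcomm, inf_top_eq] at this
  exact P.ne_bot_of_dvd_card hdvd hbot

/-- When `O_{p'}(G) = 1`, every component has order divisible by `p`. -/
theorem dvd_card_component (hO : pPrimeCore p G = ⊥) {L : Subgroup G} (hL : IsComponent L) :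
    p ∣ Nat.card L := by
  by_contra h
  exact component_ne_bot hL (le_bot_iff.1
    (hO ▸ le_pPrimeCore_of_isSubnormal hL.1 ((coprime_iff_not_dvd hp.out _).2 h)))

theorem pElemClosure_eq_self_of_isQuasisimple {L : Subgroup G} (hq : IsQuasisimple L)
    (hdvd : p ∣ Nat.card L) : pElemClosure p L = L := by
  have hn : ((pElemClosure p L).subgroupOf L).Normal :=
    (normal_subgroupOf_iff_le_normalizer (pElemClosure_le p L)).2
      (le_normalizer.trans (normalizer_le_normalizer_pElemClosure p L))
  rcases normal_eq_top_or_le_center_of_isQuasisimple hq ((pElemClosure p L).subgroupOf L) with h | h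
  · exact le_antisymm (pElemClosure_le p L) (subgroupOf_eq_top.1 h)
  · obtain ⟨x, ⟨k, hk⟩, hx⟩ := not_all_pElem_central hq.1 hdvd
    rw [← orderOf_coe] at hk
    exact absurd (h (show x ∈ (pElemClosure p L).subgroupOf L from mem_pElemClosure x.2 hk)) hx

omit hp in
/-- The preimage in `G` of a subgroup of `G / O_{p'}(G)` contains the kernel. -/
theorem sup_pPrimeCore_eq_comap_map (K : Subgroup G) :
    (K.map (QuotientGroup.mk' (pPrimeCore p G))).comap (QuotientGroup.mk' (pPrimeCore p G)) =
      K ⊔ pPrimeCore p G := by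
  rw [comap_map_eq, QuotientGroup.ker_mk']

/-- The `p`-component over a component of `G / O_{p'}(G)`. -/
def pComponentOf (p : ℕ) (Kbar : Subgroup (G ⧸ pPrimeCore p G)) : Subgroup G :=
  pElemClosure p (Kbar.comap (QuotientGroup.mk' (pPrimeCore p G)))

theorem map_pComponentOf {Kbar : Subgroup (G ⧸ pPrimeCore p G)} (hK : IsComponent Kbar) :
    (pComponentOf p Kbar).map (QuotientGroup.mk' (pPrimeCore p G)) = Kbar := by
  rw [pComponentOf, map_pElemClosure, map_comap_eq_self_of_surjective (QuotientGroup.mk'_surjective _),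
    pElemClosure_eq_self_of_isQuasisimple hK.2 (dvd_card_component (pPrimeCore_quotient_self p) hK)]

theorem pComponentOf_le_of_map_eq {K : Subgroup G} (hK : K.IsSubnormal)
    {Kbar : Subgroup (G ⧸ pPrimeCore p G)}
    (h : K.map (QuotientGroup.mk' (pPrimeCore p G)) = Kbar) : pComponentOf p Kbar ≤ K := by
  rw [pComponentOf, ← h, sup_pPrimeCore_eq_comap_map, pElemClosure, closure_le]
  rintro x ⟨hx, k, hk⟩
  exact pElem_mem_of_isSubnormal (coprime_card_pPrimeCore p) hK hk hx

theorem isSubnormal_pComponentOf {Kbar : Subgroup (G ⧸ pPrimeCore p G)} (hK : IsComponent Kbar) :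
    (pComponentOf p Kbar).IsSubnormal :=
  isSubnormal_pElemClosure (hK.1.comap _)

theorem isPComponent_pComponentOf {Kbar : Subgroup (G ⧸ pPrimeCore p G)} (hK : IsComponent Kbar) :
    IsPComponent p (pComponentOf p Kbar) := by
  refine ⟨isSubnormal_pComponentOf hK, by rw [map_pComponentOf hK]; exact hK, fun H hH hle he => ?_⟩
  rw [map_pComponentOf hK] at he
  exact le_antisymm hle (pComponentOf_le_of_map_eq hH he)

theorem pComponent_eq_pComponentOf {K : Subgroup G} (hK : IsPComponent p K) :
    pComponentOf p (K.map (QuotientGroup.mk' (pPrimeCore p G))) = K :=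
  hK.2.2 _ (isSubnormal_pComponentOf hK.2.1) (pComponentOf_le_of_map_eq hK.1 rfl)
    (map_pComponentOf hK.2.1)

theorem pComponent_eq_of_map_eq {K L : Subgroup G} (hK : IsPComponent p K) (hL : IsPComponent p L)
    (h : K.map (QuotientGroup.mk' (pPrimeCore p G)) = L.map (QuotientGroup.mk' (pPrimeCore p G))) :
    K = L := by
  rw [← pComponent_eq_pComponentOf hK, h, pComponent_eq_pComponentOf hL]

omit hp in
theorem commutator_isSubnormal {K : Subgroup G} (hK : K.IsSubnormal) :
    (⁅K, K⁆ : Subgroup G).IsSubnormal := by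
  have : ((commutator K).map K.subtype).IsSubnormal :=
    (Normal.isSubnormal inferInstance).trans' hK
  rwa [map_subtype_commutator] at this

omit hp in
theorem pComponent_commutator_self {K : Subgroup G} (hK : IsPComponent p K) : ⁅K, K⁆ = K :=
  hK.2.2 _ (commutator_isSubnormal hK.1) (commutator_self_le' K)
    (by rw [map_commutator, component_commutator_self hK.2.1])

theorem dvd_card_pComponent {K : Subgroup G} (hK : IsPComponent p K) : p ∣ Nat.card K :=
  (dvd_card_component (pPrimeCore_quotient_self p) hK.2.1).trans (card_map_dvd _ _)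

theorem pElemClosure_pComponent {K : Subgroup G} (hK : IsPComponent p K) : pElemClosure p K = K := by
  refine le_antisymm (pElemClosure_le p K) ?_
  conv_lhs => rw [← pComponent_eq_pComponentOf hK]
  rw [pComponentOf, sup_pPrimeCore_eq_comap_map, pElemClosure, closure_le]
  rintro x ⟨hx, k, hk⟩
  exact mem_pElemClosure (pElem_mem_of_isSubnormal (coprime_card_pPrimeCore p) hK.1 hk hx) hk

theorem pComponent_le_normalizer_pComponent {K L : Subgroup G} (hK : IsPComponent p K)
    (hL : IsPComponent p L) : L ≤ normalizer (K : Set G) := by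
  rw [← pComponent_eq_pComponentOf hK, pComponentOf]
  refine le_trans ?_ (normalizer_le_normalizer_pElemClosure p _)
  refine le_trans ?_ (le_normalizer_comap _)
  exact map_le_iff_le_comap.1 (component_le_normalizer_component hL.2.1 hK.2.1)

omit hp in
theorem pPrimeCore_pComponent {K : Subgroup G} (hK : IsPComponent p K) :
    (pPrimeCore p K).map K.subtype = pPrimeCore p G ⊓ K :=
  le_antisymm (le_inf (map_subtype_pPrimeCore_le_of_isSubnormal p hK.1) (map_subtype_le _))
    (pPrimeCore_inf_le p K)

omit hp in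
theorem isQuasisimple_quotient_pPrimeCore {K : Subgroup G} (hK : IsPComponent p K) :
    IsQuasisimple (↥K ⧸ pPrimeCore p K) := by
  set π := (QuotientGroup.mk' (pPrimeCore p G)).comp K.subtype with hπ
  have hker : π.ker = pPrimeCore p K := by
    rw [hπ, ← MonoidHom.comap_ker, QuotientGroup.ker_mk',
      ← comap_map_eq_self_of_injective K.subtype_injective (pPrimeCore p K), pPrimeCore_pComponent hK]
    rw [comap_inf]
    exact (inf_eq_left.2 (le_top.trans (subgroupOf_self K).ge)).symm
  have hrange : π.range = K.map (QuotientGroup.mk' (pPrimeCore p G)) := by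
    rw [hπ, MonoidHom.range_comp, range_subtype]
  exact isQuasisimple_of_equiv ((QuotientGroup.quotientMulEquivOfEq hker.symm).trans
    ((QuotientGroup.quotientKerEquivRange π).trans (MulEquiv.subgroupCongr hrange))).symm hK.2.1.2

theorem commutator_pComponents_le {K L : Subgroup G} (hK : IsPComponent p K) (hL : IsPComponent p L)
    (hne : K ≠ L) : ⁅K, L⁆ ≤ (pPrimeCore p K).map K.subtype ⊓ (pPrimeCore p L).map L.subtype := by
  have h1 : ⁅K, L⁆ ≤ K := le_normalizer_iff_commutator_le_left.1 (pComponent_le_normalizer_pComponent hK hL)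
  have h2 : ⁅K, L⁆ ≤ L := le_normalizer_iff_commutator_le_right.1 (pComponent_le_normalizer_pComponent hL hK)
  have h3 : ⁅K, L⁆ ≤ pPrimeCore p G := by
    rw [← QuotientGroup.ker_mk' (pPrimeCore p G), ← Subgroup.map_eq_bot_iff, map_commutator]
    exact commutator_components_eq_bot hK.2.1 hL.2.1 fun h => hne (pComponent_eq_of_map_eq hK hL h)
  rw [pPrimeCore_pComponent hK, pPrimeCore_pComponent hL]
  exact le_inf (le_inf h3 h1) (le_inf h3 h2)

theorem isPComponent_of_isComponent {L : Subgroup G} (hL : IsComponent L)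
    (hnot : ¬ L ≤ pPrimeCore p G) : IsPComponent p L := by
  set π := QuotientGroup.mk' (pPrimeCore p G)
  have hb : IsComponent (L.map π) := isComponent_map_of_surjective hL π (QuotientGroup.mk'_surjective _)
    (by rwa [ne_eq, Subgroup.map_eq_bot_iff, QuotientGroup.ker_mk'])
  have hle := pComponentOf_le_of_map_eq hL.1 (rfl : L.map π = L.map π)
  refine ⟨hL.1, hb, fun H hH hHL he => ?_⟩
  rcases isSubnormal_eq_top_or_le_center_of_isQuasisimple hL.2 (hH.subgroupOf (K := L)) with h | h
  · exact le_antisymm hHL (subgroupOf_eq_top.1 h)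
  · exfalso
    have hcm : ⁅H, H⁆ = ⊥ := by
      rw [← map_subgroupOf_eq_of_le hHL, ← map_commutator, Subgroup.map_eq_bot_iff]
      refine le_trans ?_ bot_le
      rw [← (commutator_top_right_eq_bot_iff_le_center).2 h]
      exact commutator_mono le_rfl le_top
    have h2 : ⁅L.map π, L.map π⁆ = ⊥ := by rw [← he, ← map_commutator, hcm, Subgroup.map_bot]
    rw [component_commutator_self hb] at h2
    exact component_ne_bot hb h2

/-! ### The p-layer -/

omit hp [Finite G] in
theorem pComponent_le_pLayer {K : Subgroup G} (hK : IsPComponent p K) : K ≤ pLayer p G :=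
  le_sSup hK

omit hp [Finite G] in
theorem pLayer_le_iff {H : Subgroup G} :
    pLayer p G ≤ H ↔ ∀ K : Subgroup G, IsPComponent p K → K ≤ H := by
  simp [pLayer, sSup_le_iff]

theorem map_mk'_pLayer :
    (pLayer p G).map (QuotientGroup.mk' (pPrimeCore p G)) = layer (G ⧸ pPrimeCore p G) := by
  apply le_antisymm
  · rw [map_le_iff_le_comap, pLayer_le_iff]
    exact fun K hK => map_le_iff_le_comap.1 (component_le_layer hK.2.1)
  · rw [layer_le_iff]
    intro Kbar hK
    rw [← map_pComponentOf hK]
    exact map_mono (pComponent_le_pLayer (isPComponent_pComponentOf hK))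

theorem commutator_pLayer_self : ⁅pLayer p G, pLayer p G⁆ = pLayer p G := by
  refine le_antisymm (commutator_self_le' _) (pLayer_le_iff.2 fun K hK => ?_)
  rw [← pComponent_commutator_self hK]
  exact commutator_mono (pComponent_le_pLayer hK) (pComponent_le_pLayer hK)

omit hp [Finite G] in
theorem isPComponent_map_equiv {H : Type*} [Group H] (e : G ≃* H) {K : Subgroup G} (hK : IsPComponent p K) :
    IsPComponent p (K.map e.toMonoidHom) := by
  set ebar := QuotientGroup.congr (pPrimeCore p G) (pPrimeCore p H) e (map_pPrimeCore_equiv e)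
  have hcomp : ∀ X : Subgroup G, (X.map e.toMonoidHom).map (QuotientGroup.mk' (pPrimeCore p H)) =
      (X.map (QuotientGroup.mk' (pPrimeCore p G))).map ebar.toMonoidHom := by
    intro X
    rw [map_map, map_map]
    rfl
  refine ⟨hK.1.map e.surjective, by rw [hcomp]; exact isComponent_map_equiv ebar hK.2.1, ?_⟩
  intro J hJ hle he
  have hJ' : (J.comap e.toMonoidHom).map e.toMonoidHom = J := map_comap_eq_self_of_surjective e.surjective J
  rw [← hJ', hcomp, hcomp] at he
  rw [← hJ', hK.2.2 _ (hJ.comap _) ?_ (map_injective ebar.injective he)]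
  exact (comap_mono hle).trans (comap_map_eq_self_of_injective e.injective K).le

omit hp [Finite G] in
theorem map_pLayer_equiv {H : Type*} [Group H] (e : G ≃* H) :
    (pLayer p G).map e.toMonoidHom = pLayer p H := by
  refine le_antisymm ?_ ?_
  · rw [map_le_iff_le_comap, pLayer_le_iff]
    exact fun K hK => map_le_iff_le_comap.1 (le_sSup (isPComponent_map_equiv e hK))
  · refine sSup_le fun K hK => ?_
    have := map_mono (f := e.toMonoidHom) (pComponent_le_pLayer (isPComponent_map_equiv e.symm hK))
    rwa [map_map, show e.toMonoidHom.comp e.symm.toMonoidHom = MonoidHom.id H from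
      MonoidHom.ext fun x => e.apply_symm_apply x, Subgroup.map_id] at this

omit hp [Finite G] in
theorem pLayer_characteristic : (pLayer p G).Characteristic :=
  characteristic_iff_map_eq.2 fun e => map_pLayer_equiv e

omit hp [Finite G] in
theorem pLayer_normal : (pLayer p G).Normal :=
  have := pLayer_characteristic (p := p) (G := G)
  inferInstance

theorem pComponent_subgroupOf_pLayer_normal {K : Subgroup G} (hK : IsPComponent p K) :
    (K.subgroupOf (pLayer p G)).Normal :=
  (normal_subgroupOf_iff_le_normalizer (pComponent_le_pLayer hK)).2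
    (pLayer_le_iff.2 fun _ hL => pComponent_le_normalizer_pComponent hK hL)

theorem pLayer_eq_bot_iff : pLayer p G = ⊥ ↔ layer (G ⧸ pPrimeCore p G) = ⊥ := by
  constructor
  · intro h
    rw [← map_mk'_pLayer, h, Subgroup.map_bot]
  · intro h
    rw [eq_bot_iff, pLayer_le_iff]
    exact fun K hK => absurd hK.2.1 (layer_eq_bot_iff.1 h _)

end CfsgLib.Cores
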