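import Cfsg.Prelude.Def_ClassificationStages
import Cfsg.Agent.Lib.Cores.PComponents
import Cfsg.Agent.Lib.Cores.PConstrained
import Cfsg.Agent.Lib.Cores.Local

/-!
The `p`-layer of a subgroup: monotonicity, images, and the lifting of centralized `p`-components.
-/

namespace CfsgLib.Cores

open Subgroup Cfsg
open scoped commutatorElement

variable {G H : Type*} [Group G] [Group H] [Finite G] {p : ℕ} [hp : Fact p.Prime]

omit hp [Finite G] in
theorem pLayerOf_le (Y : Subgroup G) : pLayerOf p Y ≤ Y := map_subtype_le _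

omit hp [Finite G] in
theorem pLayerOf_top : pLayerOf p (⊤ : Subgroup G) = pLayer p G :=
  map_pLayer_equiv (topEquiv (G := G))

theorem commutator_pLayerOf_self (Y : Subgroup G) : ⁅pLayerOf p Y, pLayerOf p Y⁆ = pLayerOf p Y := by
  rw [pLayerOf, ← map_commutator, commutator_pLayer_self]

theorem pElemClosure_pLayer : pElemClosure p (pLayer p G) = pLayer p G := by
  refine le_antisymm (pElemClosure_le p _) (pLayer_le_iff.2 fun K hK => ?_)
  conv_lhs => rw [← pElemClosure_pComponent hK]
  exact closure_mono fun x hx => ⟨pComponent_le_pLayer hK hx.1, hx.2⟩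

theorem pElemClosure_pLayerOf (Y : Subgroup G) : pElemClosure p (pLayerOf p Y) = pLayerOf p Y := by
  rw [pLayerOf, ← map_pElemClosure, pElemClosure_pLayer]

theorem pLayerOf_map_of_injective [Finite H] (f : G →* H) (hf : Function.Injective f) (Y : Subgroup G) :
    pLayerOf p (Y.map f) = (pLayerOf p Y).map f := by
  rw [pLayerOf, pLayerOf, ← map_pLayer_equiv (Y.equivMapOfInjective f hf), map_map, map_map]
  rfl

/-- A subgroup generated by `p`-elements with image in a `p'`-group is trivial there. -/
theorem map_pElemClosure_eq_bot [Finite H] {M : Subgroup G} (hM : pElemClosure p M = M) (f : G →* H)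
    {O : Subgroup H} (hO : (Nat.card O).Coprime p) (h : M.map f ≤ O) : M.map f = ⊥ := by
  rw [Subgroup.map_eq_bot_iff]
  rw [← hM, pElemClosure, closure_le]
  rintro x ⟨hx, k, hk⟩
  rw [SetLike.mem_coe, MonoidHom.mem_ker, ← orderOf_eq_one_iff]
  refine Nat.eq_one_of_dvd_coprimes (Nat.Coprime.pow_left k hO.symm) ?_
    (Subgroup.orderOf_dvd_natCard O (h ⟨x, hx, rfl⟩))
  exact hk ▸ orderOf_map_dvd f x

/-! ### `p`-components of subnormal subgroups -/

omit hp in
theorem pPrimeCore_of_isSubnormal {N : Subgroup G} (hN : N.IsSubnormal) :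
    pPrimeCore p N = (pPrimeCore p G).subgroupOf N := by
  apply le_antisymm
  · intro x hx
    exact map_subtype_pPrimeCore_le_of_isSubnormal p hN ⟨x, hx, rfl⟩
  · exact pPrimeCore_subgroupOf_le p N

omit hp in
theorem ker_mk'_comp_subtype {N : Subgroup G} (hN : N.IsSubnormal) :
    ((QuotientGroup.mk' (pPrimeCore p G)).comp N.subtype).ker = pPrimeCore p N := by
  rw [← MonoidHom.comap_ker, QuotientGroup.ker_mk', pPrimeCore_of_isSubnormal hN]
  rfl

omit hp in
theorem isPComponent_map_subtype_iff {N : Subgroup G} (hN : N.IsSubnormal) {K : Subgroup N} :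
    IsPComponent p (K.map N.subtype) ↔ IsPComponent p K := by
  set π := QuotientGroup.mk' (pPrimeCore p G)
  set πN := QuotientGroup.mk' (pPrimeCore p N)
  set f := π.comp N.subtype with hf
  have hker : f.ker = pPrimeCore p N := ker_mk'_comp_subtype hN
  let e : (↥N ⧸ pPrimeCore p N) ≃* f.range :=
    (QuotientGroup.quotientMulEquivOfEq hker.symm).trans (QuotientGroup.quotientKerEquivRange f)
  have hr : f.range.IsSubnormal := by
    rw [hf, MonoidHom.range_comp, range_subtype]
    exact hN.map (QuotientGroup.mk'_surjective _)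
  have hcomp : ∀ X : Subgroup N, (X.map N.subtype).map π = ((X.map πN).map e.toMonoidHom).map f.range.subtype := by
    intro X
    rw [map_map, map_map, map_map]
    rfl
  have hinj : ∀ X X' : Subgroup (↥N ⧸ pPrimeCore p N), (X.map e.toMonoidHom).map f.range.subtype =
      (X'.map e.toMonoidHom).map f.range.subtype → X = X' := fun X X' h =>
    map_injective e.injective (map_injective f.range.subtype_injective h)
  have hcomponent : IsComponent ((K.map N.subtype).map π) ↔ IsComponent (K.map πN) := by
    rw [hcomp, ← isComponent_map_subtype_iff hr]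
    constructor
    · intro h
      have h2 := isComponent_map_equiv e.symm h
      rwa [map_map, show e.symm.toMonoidHom.comp e.toMonoidHom = MonoidHom.id _ from
        MonoidHom.ext fun x => e.symm_apply_apply x, Subgroup.map_id] at h2
    · exact isComponent_map_equiv e
  constructor
  · rintro ⟨hs, hc, hmin⟩
    have hKs : K.IsSubnormal := by
      have := hs.subgroupOf (K := N)
      rwa [subgroupOf, comap_map_eq_self_of_injective N.subtype_injective] at this
    refine ⟨hKs, hcomponent.1 hc, fun J hJ hJK he => ?_⟩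
    refine map_injective N.subtype_injective (hmin _ (hJ.trans' hN) (map_mono hJK) ?_)
    show (J.map N.subtype).map π = (K.map N.subtype).map π
    rw [hcomp, hcomp, he]
  · rintro ⟨hs, hc, hmin⟩
    refine ⟨hs.trans' hN, hcomponent.2 hc, fun J hJ hJK he => ?_⟩
    have hJN : J ≤ N := hJK.trans (map_subtype_le K)
    have hmap : (J.subgroupOf N).map N.subtype = J := map_subgroupOf_eq_of_le hJN
    rw [← hmap] at he hJK ⊢
    rw [hcomp, hcomp] at he
    rw [hmin _ (hJ.subgroupOf (K := N)) (fun x hx => ?_) (hinj _ _ he)]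
    obtain ⟨y, hy, hyx⟩ := hJK ⟨x, hx, rfl⟩
    rwa [← N.subtype_injective hyx]

omit hp in
/-- The layer of a subnormal subgroup lies in the layer. -/
theorem pLayerOf_le_pLayer {N : Subgroup G} (hN : N.IsSubnormal) : pLayerOf p N ≤ pLayer p G := by
  rw [pLayerOf, map_le_iff_le_comap, pLayer_le_iff]
  exact fun K hK => map_le_iff_le_comap.1 (pComponent_le_pLayer ((isPComponent_map_subtype_iff hN).2 hK))

omit hp in
theorem pLayer_le_pLayerOf_of_normal {N : Subgroup G} [N.Normal] (h : pLayer p G ≤ N) :
    pLayer p G ≤ pLayerOf p N := by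
  rw [pLayer_le_iff]
  intro K hK
  have hKN : K ≤ N := (pComponent_le_pLayer hK).trans h
  rw [← map_subgroupOf_eq_of_le hKN]
  exact map_mono (pComponent_le_pLayer ((isPComponent_map_subtype_iff (Normal.isSubnormal inferInstance)).1
    (by rwa [map_subgroupOf_eq_of_le hKN])))

theorem pLayerOf_mono_subnormal {N Y : Subgroup G} (hNY : N ≤ Y) (hs : (N.subgroupOf Y).IsSubnormal) :
    pLayerOf p N ≤ pLayerOf p Y := by
  have h := map_mono (f := Y.subtype) (pLayerOf_le_pLayer (p := p) hs)
  rwa [← pLayerOf_map_of_injective _ Y.subtype_injective, map_subgroupOf_eq_of_le hNY] at h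

theorem pLayerOf_mono_normal {N Y : Subgroup G} (hNY : N ≤ Y) (hn : Y ≤ normalizer (N : Set G)) :
    pLayerOf p N ≤ pLayerOf p Y :=
  haveI := (normal_subgroupOf_iff_le_normalizer hNY).2 hn
  pLayerOf_mono_subnormal hNY (Normal.isSubnormal inferInstance)

/-- If the layer of `Y` lies in a subgroup `X` of `Y`, it lies in the layer of `X`. -/
theorem pLayerOf_le_pLayerOf {X Y : Subgroup G} (hXY : X ≤ Y) (h : pLayerOf p Y ≤ X) :
    pLayerOf p Y ≤ pLayerOf p X := by
  haveI : (pLayer p Y).Normal := pLayer_normal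
  have h1 : pLayerOf p Y ≤ pLayerOf p ((pLayer p Y).map Y.subtype) := by
    rw [pLayerOf_map_of_injective _ Y.subtype_injective]
    exact map_mono (pLayer_le_pLayerOf_of_normal le_rfl)
  refine h1.trans (pLayerOf_mono_normal h (hXY.trans ?_))
  intro y hy
  rw [mem_normalizer_iff_map_conj_eq]
  apply le_antisymm
  · rintro _ ⟨_, ⟨x, hx, rfl⟩, rfl⟩
    exact ⟨_, (pLayer_normal (p := p) (G := Y)).conj_mem x hx ⟨y, hy⟩, rfl⟩
  · rintro _ ⟨x, hx, rfl⟩
    refine ⟨y⁻¹ * (x : G) * y, ⟨_, (pLayer_normal (p := p) (G := Y)).conj_mem x hx ⟨y⁻¹, inv_mem hy⟩, ?_⟩, ?_⟩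
    · simp
    · show y * (y⁻¹ * (x : G) * y) * y⁻¹ = (x : G)
      group

/-! ### Images -/

variable [Finite H]

/-- A surjection maps the layer into the layer. -/
theorem map_pLayer_le (f : G →* H) (hf : Function.Surjective f) : (pLayer p G).map f ≤ pLayer p H := by
  rw [map_le_iff_le_comap, pLayer_le_iff]
  intro K hK
  rw [← map_le_iff_le_comap]
  set πG := QuotientGroup.mk' (pPrimeCore p G)
  set πH := QuotientGroup.mk' (pPrimeCore p H)
  let fbar : G ⧸ pPrimeCore p G →* H ⧸ pPrimeCore p H :=
    QuotientGroup.map (pPrimeCore p G) (pPrimeCore p H) f (map_le_iff_le_comap.1 (map_pPrimeCore_le f hf))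
  have hfbar : Function.Surjective fbar := by
    intro q
    obtain ⟨h, rfl⟩ := QuotientGroup.mk'_surjective _ q
    obtain ⟨g, rfl⟩ := hf h
    exact ⟨πG g, rfl⟩
  have heq : (K.map f).map πH = (K.map πG).map fbar := by
    rw [map_map, map_map]
    rfl
  by_cases hbot : (K.map πG).map fbar = ⊥
  · rw [hbot, Subgroup.map_eq_bot_iff, QuotientGroup.ker_mk'] at heq
    rw [map_pElemClosure_eq_bot (pElemClosure_pComponent hK) f (coprime_card_pPrimeCore p) heq]
    exact bot_le
  have hc : IsComponent ((K.map f).map πH) := heq ▸ isComponent_map_of_surjective hK.2.1 fbar hfbar hbot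
  refine le_trans ?_ (pComponent_le_pLayer (isPComponent_pComponentOf hc))
  conv_lhs => rw [← pElemClosure_pComponent hK, map_pElemClosure]
  rw [pComponentOf]
  exact closure_mono fun x hx => ⟨le_comap_map _ _ hx.1, hx.2⟩

theorem map_pLayerOf_le (f : G →* H) (Y : Subgroup G) : (pLayerOf p Y).map f ≤ pLayerOf p (Y.map f) := by
  have h := map_mono (f := (Y.map f).subtype) (map_pLayer_le (p := p) (f.subgroupMap Y) (f.subgroupMap_surjective Y))
  rw [map_map] at h
  rw [pLayerOf, pLayerOf, map_map]
  exact h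

omit hp in
theorem comap_pPrimeCore_le (f : G →* H) (hf : Function.Surjective f) (hk : (Nat.card f.ker).Coprime p) :
    (pPrimeCore p H).comap f ≤ pPrimeCore p G := by
  refine le_pPrimeCore ?_
  have h1 := Subgroup.card_mul_index (f.ker.subgroupOf ((pPrimeCore p H).comap f))
  rw [Nat.card_congr (subgroupOfEquivOfLe (MonoidHom.ker_le_comap f (pPrimeCore p H))).toEquiv] at h1
  rw [← h1]
  refine Nat.Coprime.mul_left hk ?_
  rw [← relIndex, relIndex_ker, map_comap_eq_self_of_surjective hf]
  exact coprime_card_pPrimeCore p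

/-- A surjection with `p'`-kernel maps the layer onto the layer. -/
theorem map_pLayer_eq (f : G →* H) (hf : Function.Surjective f) (hk : (Nat.card f.ker).Coprime p) :
    (pLayer p G).map f = pLayer p H := by
  refine le_antisymm (map_pLayer_le f hf) (pLayer_le_iff.2 fun J hJ => ?_)
  set πG := QuotientGroup.mk' (pPrimeCore p G)
  set πH := QuotientGroup.mk' (pPrimeCore p H)
  have hle : pPrimeCore p G ≤ (pPrimeCore p H).comap f := map_le_iff_le_comap.1 (map_pPrimeCore_le f hf)
  have heqO : (pPrimeCore p H).comap f = pPrimeCore p G := le_antisymm (comap_pPrimeCore_le f hf hk) hle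
  let e : (G ⧸ pPrimeCore p G) ≃* (H ⧸ pPrimeCore p H) :=
    (QuotientGroup.quotientMulEquivOfEq (show pPrimeCore p G = (πH.comp f).ker by
      rw [← MonoidHom.comap_ker, QuotientGroup.ker_mk', heqO])).trans
      (QuotientGroup.quotientKerEquivOfSurjective _ ((QuotientGroup.mk'_surjective _).comp hf))
  set Kbar := (J.map πH).map e.symm.toMonoidHom with hKbar
  have hK : IsComponent Kbar := isComponent_map_equiv e.symm hJ.2.1
  have hK' := isPComponent_pComponentOf (G := G) hK
  have himg : ((pComponentOf p Kbar).map f).map πH = J.map πH := by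
    have h1 : ((pComponentOf p Kbar).map f).map πH = ((pComponentOf p Kbar).map πG).map e.toMonoidHom := by
      rw [map_map, map_map]
      rfl
    rw [h1, map_pComponentOf hK, hKbar, map_map,
      show e.toMonoidHom.comp e.symm.toMonoidHom = MonoidHom.id _ from
        MonoidHom.ext fun x => e.apply_symm_apply x, Subgroup.map_id]
  rw [← hJ.2.2 (J ⊓ (pComponentOf p Kbar).map f) (hJ.1.inf (hK'.1.map hf)) inf_le_left ?_]
  · exact inf_le_right.trans (map_mono (pComponent_le_pLayer hK'))
  · refine le_antisymm (map_mono inf_le_left) ?_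
    -- `p`-elements of `J` lie in the image
    conv_lhs => rw [← pElemClosure_pComponent hJ]
    refine map_mono ((closure_le _).2 ?_)
    rintro x ⟨hx, k, hk'⟩
    refine ⟨hx, pElem_mem_of_isSubnormal (coprime_card_pPrimeCore p) (hK'.1.map hf) hk' ?_⟩
    rw [← sup_pPrimeCore_eq_comap_map, himg]
    exact ⟨x, hx, rfl⟩

/-! ### Components against subnormal subgroups -/

theorem pComponent_le_or_commutator_le {K S : Subgroup G} (hK : IsPComponent p K) (hS : S.IsSubnormal) :
    K ≤ S ∨ ⁅K, S⁆ ≤ pPrimeCore p G := by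
  rcases component_le_or_commutator_eq_bot hK.2.1 (hS.map (QuotientGroup.mk'_surjective (pPrimeCore p G)))
    with h | h
  · refine Or.inl ?_
    conv_lhs => rw [← pElemClosure_pComponent hK]
    rw [pElemClosure, closure_le]
    rintro x ⟨hx, k, hk⟩
    refine pElem_mem_of_isSubnormal (coprime_card_pPrimeCore p) hS hk ?_
    rw [← sup_pPrimeCore_eq_comap_map]
    exact h ⟨x, hx, rfl⟩
  · refine Or.inr ?_
    rwa [← map_commutator, Subgroup.map_eq_bot_iff, QuotientGroup.ker_mk'] at h

/-- The layer centralizes `O_p`. -/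
theorem pLayer_le_centralizer_pCore : pLayer p G ≤ centralizer (pCore p G : Set G) := by
  refine pLayer_le_iff.2 fun K hK => ?_
  rw [← commutator_eq_bot_iff_le_centralizer, eq_bot_iff, ← pCore_inf_pPrimeCore (G := G) p]
  refine le_inf ?_ ?_
  · exact le_normalizer_iff_commutator_le_right.1 (le_top.trans_eq (normalizer_eq_top_iff.2 inferInstance).symm)
  · rcases pComponent_le_or_commutator_le hK (Normal.isSubnormal inferInstance : (pCore p G).IsSubnormal) with h | h
    · exfalso
      have hb := hK.2.1
      have hmap : K.map (QuotientGroup.mk' (pPrimeCore p G)) ≤ pCore p (G ⧸ pPrimeCore p G) :=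
        (map_mono h).trans (map_pCore_le _ (QuotientGroup.mk'_surjective _))
      exact component_not_le_of_isSolvable hb
        (haveI := (isPGroup_pCore (G := G ⧸ pPrimeCore p G) p).isNilpotent; inferInstance) hmap
    · exact h

/-- The layer centralizes a normal `p`-subgroup. -/
theorem pLayerOf_le_centralizer {P Y : Subgroup G} (hP : IsPGroup p P) (hPY : P ≤ Y)
    (hn : Y ≤ normalizer (P : Set G)) : pLayerOf p Y ≤ centralizer (P : Set G) := by
  haveI := (normal_subgroupOf_iff_le_normalizer hPY).2 hn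
  have h1 : P.subgroupOf Y ≤ pCore p Y := le_pCore (hP.of_equiv (subgroupOfEquivOfLe hPY).symm)
  rintro _ ⟨x, hx, rfl⟩
  rw [mem_centralizer_iff]
  intro y hy
  exact congrArg Subtype.val (mem_centralizer_iff.1 (pLayer_le_centralizer_pCore hx) ⟨y, hPY hy⟩
    (h1 (show (⟨y, hPY hy⟩ : Y) ∈ P.subgroupOf Y from hy)))

/-- A `p`-component centralized modulo the core by a `p`-subgroup `Q` lies in the layer of `C(Q)` times the core. -/
theorem pComponent_le_sup_core {Q M : Subgroup G} (hQ : IsPGroup p Q) (hM : IsPComponent p M)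
    (hc : ⁅M, Q⁆ ≤ pPrimeCore p G) :
    M ≤ pLayerOf p (centralizer (Q : Set G)) ⊔ pPrimeCore p G := by
  set π := QuotientGroup.mk' (pPrimeCore p G)
  set C := centralizer (Q : Set G)
  have hC : C.map π = centralizer ((Q.map π : Subgroup _) : Set (G ⧸ pPrimeCore p G)) :=
    map_mk'_centralizer_of_coprime hQ (coprime_card_pPrimeCore p)
  have hMC : M.map π ≤ C.map π := by
    rw [hC, ← commutator_eq_bot_iff_le_centralizer, ← map_commutator, Subgroup.map_eq_bot_iff,
      QuotientGroup.ker_mk']
    exact hc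
  have hcomp : IsPComponent p ((M.map π).subgroupOf (C.map π)) := by
    have h0 : pPrimeCore p (G ⧸ pPrimeCore p G) = ⊥ := pPrimeCore_quotient_self p
    refine isPComponent_of_isComponent (isComponent_subgroupOf hM.2.1 hMC) fun hle => ?_
    have h2 : Nat.card (M.map π) ∣ Nat.card (pPrimeCore p ↥(C.map π)) := by
      rw [← Nat.card_congr (subgroupOfEquivOfLe hMC).toEquiv]
      exact card_dvd_of_le hle
    exact (coprime_iff_not_dvd hp.out _).1 ((coprime_card_pPrimeCore p).coprime_dvd_left h2)
      (dvd_card_component h0 hM.2.1)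
  have hle : M.map π ≤ (pLayerOf p C).map π := by
    have h2 := map_mono (f := (C.map π).subtype) (pComponent_le_pLayer hcomp)
    rw [map_subgroupOf_eq_of_le hMC, ← map_pLayer_eq (π.subgroupMap C) (π.subgroupMap_surjective C) ?_,
      map_map] at h2
    · rw [pLayerOf, map_map]
      exact h2
    · have hk : ((π.subgroupMap C).ker).map C.subtype ≤ pPrimeCore p G := by
        rintro _ ⟨x, hx, rfl⟩
        exact (QuotientGroup.eq_one_iff _).1 (congrArg Subtype.val hx)
      have := card_dvd_of_le hk
      rw [card_map_of_injective C.subtype_injective] at this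
      exact (coprime_card_pPrimeCore p).coprime_dvd_left this
  rw [← sup_pPrimeCore_eq_comap_map]
  exact map_le_iff_le_comap.1 hle

omit hp [Finite G] in
theorem map_centralizer_subgroupOf {Q Y : Subgroup G} (hQY : Q ≤ Y) :
    (centralizer ((Q.subgroupOf Y : Subgroup Y) : Set Y)).map Y.subtype = Y ⊓ centralizer (Q : Set G) := by
  ext x
  simp only [mem_map, mem_inf, mem_centralizer_iff]
  constructor
  · rintro ⟨y, hy, rfl⟩
    exact ⟨y.2, fun q hq => congrArg Subtype.val (hy ⟨q, hQY hq⟩ hq)⟩
  · rintro ⟨hx, hc⟩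
    exact ⟨⟨x, hx⟩, fun q hq => Subtype.ext (hc q hq), rfl⟩

/-- The same, relative to a subgroup `Y`. -/
theorem pComponentOf_le_sup_core {Q Y : Subgroup G} (hQ : IsPGroup p Q) (hQY : Q ≤ Y) {M : Subgroup Y}
    (hM : IsPComponent p M) (hc : ⁅M, Q.subgroupOf Y⁆ ≤ pPrimeCore p Y) :
    M.map Y.subtype ≤ pLayerOf p (Y ⊓ centralizer (Q : Set G)) ⊔ (pPrimeCore p Y).map Y.subtype := by
  have h := map_mono (f := Y.subtype)
    (pComponent_le_sup_core (hQ.of_equiv (subgroupOfEquivOfLe hQY).symm) hM hc)
  rw [Subgroup.map_sup, ← pLayerOf_map_of_injective _ Y.subtype_injective] at h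
  rwa [map_centralizer_subgroupOf hQY] at h

end CfsgLib.Cores
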