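import Cfsg.Agent.Lib.Cores.LBalance
import Cfsg.Agent.Lib.Techniques.BLayer.Congr
import Cfsg.Agent.S0205

/-!
Components of the centralizer of an involution inside the layer: such a component lies in a component fixed by
the involution or is the diagonal of two components interchanged by it.
-/

namespace CfsgLib.CompCent

open Subgroup Cfsg CfsgLib.Cores
open scoped commutatorElement Pointwise

universe u

variable {H : Type u} [Group H] [Finite H]

theorem component_not_le_oddCore {L : Subgroup H} (hL : IsComponent L) : ¬ L ≤ oddCore H :=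
  component_not_le_of_isSolvable hL (Cfsg.Agent.S0205.result odd_card_oddCore)

theorem component_le_pLayer {L : Subgroup H} (hL : IsComponent L) : L ≤ pLayer 2 H :=
  pComponent_le_pLayer (isPComponent_of_isComponent hL (component_not_le_oddCore hL))

/-- If the 2-layer centralizes the core, the 2-components are components. -/
theorem pLayer_le_layer_of_commutator_eq_bot (h : ⁅pLayer 2 H, oddCore H⁆ = ⊥) : pLayer 2 H ≤ layer H := by
  refine pLayer_le_iff.2 fun K hK => component_le_layer ⟨hK.1, ?_⟩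
  refine Local.isQuasisimple_of_central_quotient (Subgroup.isPerfect_iff.2 (pComponent_commutator_self hK))
    (pPrimeCore 2 K) ?_ (isQuasisimple_quotient_pPrimeCore hK)
  intro z hz
  have hz' : (z : H) ∈ oddCore H := by
    have := (pPrimeCore_pComponent hK).le ⟨z, hz, rfl⟩
    exact this.1
  refine mem_center_iff.2 fun g => Subtype.ext ?_
  exact (commutator_eq_bot_iff_le_centralizer.1 h (pComponent_le_pLayer hK g.2) (z : H) hz').symm

variable {t : H}

theorem conj_conj (ht : t * t = 1) (x : H) : t * (t * x * t⁻¹) * t⁻¹ = x := by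
  rw [show t * (t * x * t⁻¹) * t⁻¹ = (t * t) * x * (t * t)⁻¹ by group, ht, one_mul, inv_one, mul_one]

theorem map_conj_map_conj (ht : t * t = 1) (D : Subgroup H) :
    (D.map (MulAut.conj t).toMonoidHom).map (MulAut.conj t).toMonoidHom = D := by
  ext x
  simp only [Subgroup.mem_map, MulEquiv.coe_toMonoidHom, MulAut.conj_apply]
  constructor
  · rintro ⟨_, ⟨y, hy, rfl⟩, rfl⟩
    rwa [conj_conj ht]
  · exact fun hx => ⟨_, ⟨x, hx, rfl⟩, conj_conj ht x⟩

theorem isComponent_conj' {D : Subgroup H} (hD : IsComponent D) (g : H) :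
    IsComponent (D.map (MulAut.conj g).toMonoidHom) :=
  isComponent_map_equiv _ hD

theorem mem_conj {D : Subgroup H} {d : H} (hd : d ∈ D) : t * d * t⁻¹ ∈ D.map (MulAut.conj t).toMonoidHom :=
  ⟨d, hd, rfl⟩

theorem fixed_of_mem_centralizer {x : H} (hx : x ∈ centralizer ({t} : Set H)) : t * x * t⁻¹ = x := by
  rw [← mem_centralizer_singleton_iff.1 hx, mul_inv_cancel_right]

theorem mem_centralizer_of_fixed {x : H} (hx : t * x * t⁻¹ = x) : x ∈ centralizer ({t} : Set H) :=
  mem_centralizer_singleton_iff.2 (by conv_lhs => rw [← hx]; rw [inv_mul_cancel_right])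

theorem sSup_components_isSubnormal {S : Set (Subgroup H)} (hS : ∀ D ∈ S, IsComponent D) :
    (sSup S).IsSubnormal := by
  have hle : sSup S ≤ layer H := sSup_le fun D hD => component_le_layer (hS D hD)
  have hn : ((sSup S).subgroupOf (layer H)).Normal := by
    refine (normal_subgroupOf_iff_le_normalizer hle).2 fun g hg => ?_
    rw [mem_normalizer_iff_map_conj_eq, sSup_eq_iSup, Subgroup.map_iSup]
    refine iSup_congr fun D => ?_
    rw [Subgroup.map_iSup]
    refine iSup_congr fun hD => ?_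
    exact mem_normalizer_iff_map_conj_eq.1 (layer_le_normalizer_component (hS D hD) hg)
  have := hn.isSubnormal.trans' (layer_normal (G := H)).isSubnormal
  rwa [map_subgroupOf_eq_of_le hle] at this

/-- If `M` and `N` commute and are invariant under `t`, commutators of fixed elements of `M N` split. -/
theorem commutator_split (ht : t * t = 1) {M N : Subgroup H} (hMN : M ≤ centralizer (N : Set H))
    (hM : M.map (MulAut.conj t).toMonoidHom = M) (hN : N.map (MulAut.conj t).toMonoidHom = N) {x y : H}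
    (hx : x ∈ M ⊔ N) (hxt : x ∈ centralizer ({t} : Set H)) (hy : y ∈ M ⊔ N) (hyt : y ∈ centralizer ({t} : Set H)) :
    ⁅x, y⁆ ∈ (M ⊓ centralizer ({t} : Set H)) ⊔ (N ⊓ centralizer ({t} : Set H)) := by
  have hcomm : ∀ m ∈ M, ∀ n ∈ N, m * n = n * m := fun m hm n hn => (hMN hm n hn).symm
  have hset := Subgroup.coe_mul_of_left_le_normalizer_right M N (hMN.trans (centralizer_le_normalizer _))
  obtain ⟨m, hm, n, hn, rfl⟩ := (hset.le (SetLike.mem_coe.2 hx) : x ∈ (M : Set H) * (N : Set H))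
  obtain ⟨m', hm', n', hn', rfl⟩ := (hset.le (SetLike.mem_coe.2 hy) : y ∈ (M : Set H) * (N : Set H))
  simp only [SetLike.mem_coe] at hm hn hm' hn'
  have key : ∀ m ∈ M, ∀ n ∈ N, m * n ∈ centralizer ({t} : Set H) → ∃ z, z ∈ M ∧ z ∈ N ∧
      t * m * t⁻¹ = m * z ∧ t * n * t⁻¹ = z⁻¹ * n := fun m hm n hn h => by
    have hz : m⁻¹ * (t * m * t⁻¹) ∈ M := mul_mem (inv_mem hm) (hM.le (mem_conj hm))
    have e : t * m * t⁻¹ * (t * n * t⁻¹) = m * n :=
      (by group : t * m * t⁻¹ * (t * n * t⁻¹) = t * (m * n) * t⁻¹).trans (fixed_of_mem_centralizer h)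
    have e' : m⁻¹ * (t * m * t⁻¹) = n * (t * n * t⁻¹)⁻¹ := by
      rw [eq_mul_inv_iff_mul_eq, mul_assoc, e, inv_mul_cancel_left]
    refine ⟨_, hz, e' ▸ mul_mem hn (inv_mem (hN.le (mem_conj hn))), (mul_inv_cancel_left m _).symm, ?_⟩
    rw [e']; group
  obtain ⟨z, hzM, hzN, hmz, hnz⟩ := key m hm n hn hxt
  obtain ⟨z', hzM', hzN', hmz', hnz'⟩ := key m' hm' n' hn' hyt
  have e : ⁅m * n, m' * n'⁆ = ⁅m, m'⁆ * ⁅n, n'⁆ := by
    simp only [commutatorElement_def, mul_inv_rev]
    have c1 := hcomm m' hm' n hn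
    have c2 : n⁻¹ * m⁻¹ = m⁻¹ * n⁻¹ := (hcomm _ (inv_mem hm) _ (inv_mem hn)).symm
    have c3 : n'⁻¹ * m'⁻¹ = m'⁻¹ * n'⁻¹ := (hcomm _ (inv_mem hm') _ (inv_mem hn')).symm
    have c4 : ∀ a ∈ N, ∀ b ∈ M, a * b = b * a := fun a ha b hb => (hcomm b hb a ha).symm
    calc m * n * (m' * n') * (n⁻¹ * m⁻¹) * (n'⁻¹ * m'⁻¹)
        = m * (n * m') * n' * (n⁻¹ * m⁻¹) * (n'⁻¹ * m'⁻¹) := by group
      _ = m * (m' * n) * n' * (m⁻¹ * n⁻¹) * (m'⁻¹ * n'⁻¹) := by rw [c1, c2, c3]
      _ = m * m' * ((n * n') * m⁻¹) * n⁻¹ * (m'⁻¹ * n'⁻¹) := by group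
      _ = m * m' * (m⁻¹ * (n * n')) * n⁻¹ * (m'⁻¹ * n'⁻¹) := by
        rw [c4 _ (mul_mem hn hn') _ (inv_mem hm)]
      _ = m * m' * m⁻¹ * ((n * n' * n⁻¹) * m'⁻¹) * n'⁻¹ := by group
      _ = m * m' * m⁻¹ * (m'⁻¹ * (n * n' * n⁻¹)) * n'⁻¹ := by
        rw [c4 _ (mul_mem (mul_mem hn hn') (inv_mem hn)) _ (inv_mem hm')]
      _ = _ := by group
  have hzc : ∀ w ∈ M, ∀ v, v ∈ N → v * w = w * v := fun w hw v hv => (hcomm w hw v hv).symm
  rw [e]
  refine Subgroup.mul_mem_sup ⟨?_, mem_centralizer_of_fixed ?_⟩ ⟨?_, mem_centralizer_of_fixed ?_⟩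
  · exact commutator_self_le' M (commutator_mem_commutator hm hm')
  · have : t * ⁅m, m'⁆ * t⁻¹ = ⁅m * z, m' * z'⁆ := by rw [← hmz, ← hmz', commutatorElement_def, commutatorElement_def]; group
    rw [this, commutatorElement_def, commutatorElement_def]
    simp only [mul_inv_rev]
    calc m * z * (m' * z') * (z⁻¹ * m⁻¹) * (z'⁻¹ * m'⁻¹)
        = m * (z * (m' * z')) * z⁻¹ * m⁻¹ * z'⁻¹ * m'⁻¹ := by group
      _ = m * ((m' * z') * z) * z⁻¹ * m⁻¹ * z'⁻¹ * m'⁻¹ := by rw [hzc _ (mul_mem hm' hzM') _ hzN]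
      _ = m * m' * (z' * m⁻¹) * z'⁻¹ * m'⁻¹ := by group
      _ = m * m' * (m⁻¹ * z') * z'⁻¹ * m'⁻¹ := by rw [hzc _ (inv_mem hm) _ hzN']
      _ = _ := by group
  · exact commutator_self_le' N (commutator_mem_commutator hn hn')
  · have : t * ⁅n, n'⁆ * t⁻¹ = ⁅z⁻¹ * n, z'⁻¹ * n'⁆ := by rw [← hnz, ← hnz', commutatorElement_def, commutatorElement_def]; group
    rw [this, commutatorElement_def, commutatorElement_def]
    simp only [mul_inv_rev, inv_inv]
    have hzc' : ∀ v ∈ N, ∀ w, w ∈ M → w * v = v * w := fun v hv w hw => hcomm w hw v hv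
    calc z⁻¹ * n * (z'⁻¹ * n') * (n⁻¹ * z) * (n'⁻¹ * z')
        = z⁻¹ * (n * z'⁻¹ * n' * n⁻¹) * (z * n'⁻¹) * z' := by group
      _ = z⁻¹ * (n * z'⁻¹ * n' * n⁻¹) * (n'⁻¹ * z) * z' := by rw [hzc' _ (inv_mem hn') _ hzM]
      _ = z⁻¹ * ((n * z'⁻¹ * n' * n⁻¹ * n'⁻¹) * z) * z' := by group
      _ = z⁻¹ * (z * (n * z'⁻¹ * n' * n⁻¹ * n'⁻¹)) * z' := by
        rw [hzc' _ (mul_mem (mul_mem (mul_mem (mul_mem hn (inv_mem hzN')) hn') (inv_mem hn)) (inv_mem hn')) _ hzM]
      _ = n * z'⁻¹ * ((n' * n⁻¹ * n'⁻¹) * z') := by group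
      _ = n * z'⁻¹ * (z' * (n' * n⁻¹ * n'⁻¹)) := by
        rw [hzc' _ (mul_mem (mul_mem hn' (inv_mem hn)) (inv_mem hn')) _ hzM']
      _ = _ := by group

/-- A component of `C_H(t)` inside the layer lies in the product over one orbit of components. -/
theorem exists_component_orbit (ht : t * t = 1) {L : Subgroup H} (hLt : L ≤ centralizer ({t} : Set H))
    (hL : IsComponent (L.subgroupOf (centralizer ({t} : Set H)))) (hLl : L ≤ layer H) :
    ∃ D : Subgroup H, IsComponent D ∧ L ≤ D ⊔ D.map (MulAut.conj t).toMonoidHom := by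
  set C := centralizer ({t} : Set H)
  have hLperf : ⁅L, L⁆ = L := commutator_self_of_isQuasisimple ((isQuasisimple_subgroupOf_iff hLt).1 hL.2)
  set c : Subgroup H → Subgroup H := fun D => D.map (MulAut.conj t).toMonoidHom
  have hcc : ∀ D, c (c D) = D := map_conj_map_conj ht
  suffices hmain : ∀ n : ℕ, ∀ S : Set (Subgroup H), S.ncard = n → (∀ D ∈ S, IsComponent D ∧ c D ∈ S) →
      L ≤ sSup S → ∃ D, IsComponent D ∧ L ≤ D ⊔ c D by
    exact hmain _ {D | IsComponent D} rfl (fun D hD => ⟨hD, isComponent_conj' hD t⟩) hLl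
  intro n
  induction n using Nat.strong_induction_on with
  | _ n ih =>
  intro S hn hS hLS
  have hLne : L ≠ ⊥ := fun h => component_ne_bot hL (by rw [h, bot_subgroupOf])
  obtain rfl | ⟨D, hD⟩ := S.eq_empty_or_nonempty
  · exact absurd (le_bot_iff.1 (sSup_empty (α := Subgroup H) ▸ hLS)) hLne
  set T := S \ {D, c D}
  set M := sSup ({D, c D} : Set (Subgroup H)) with hM
  set N := sSup T with hN
  have hpair : ∀ X ∈ ({D, c D} : Set (Subgroup H)), IsComponent X := by
    rintro X (rfl | rfl)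
    · exact (hS _ hD).1
    · exact isComponent_conj' (hS _ hD).1 t
  have hT : ∀ X ∈ T, IsComponent X ∧ c X ∈ T := by
    rintro X ⟨hX, hX'⟩
    refine ⟨(hS X hX).1, (hS X hX).2, fun h => hX' ?_⟩
    rcases h with h | h
    · exact Or.inr (by rw [← h, hcc]; rfl)
    · exact Or.inl (by rw [← hcc X, (h : c X = c D), hcc])
  have hMN : M ≤ centralizer (N : Set H) := by
    refine sSup_le fun X hX => ?_
    refine le_centralizer_iff.1 (sSup_le fun Y hY => ?_)
    exact commutator_eq_bot_iff_le_centralizer.1 (commutator_components_eq_bot (hT Y hY).1 (hpair X hX)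
      fun e => hY.2 (e ▸ hX))
  have hcM : c M = M := by
    rw [hM, sSup_pair]
    show map _ _ = _
    rw [Subgroup.map_sup]
    show c D ⊔ c (c D) = _
    rw [hcc, sup_comm]
  have hcN : c N = N := by
    refine le_antisymm ?_ (sSup_le fun X hX => ?_)
    · refine map_le_iff_le_comap.2 (sSup_le fun X hX => ?_)
      exact map_le_iff_le_comap.1 (le_sSup (hT X hX).2)
    · rw [← hcc X]
      exact map_mono (le_sSup (hT X hX).2)
  have hLMN : L ≤ M ⊔ N := hLS.trans (sSup_le fun X hX => by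
    by_cases h : X ∈ ({D, c D} : Set (Subgroup H))
    · exact le_sup_of_le_left (le_sSup h)
    · exact le_sup_of_le_right (le_sSup ⟨hX, h⟩))
  have side : ∀ P : Subgroup H, P.IsSubnormal → L ≤ P ⊓ C ∨ ⁅L, P ⊓ C⁆ = ⊥ := by
    intro P hP
    have hP' : ((P ⊓ C).subgroupOf C).IsSubnormal := by
      rw [inf_subgroupOf_right]; exact hP.subgroupOf
    rcases component_le_or_commutator_eq_bot hL hP' with h | h
    · exact Or.inl fun x hx => h (show (⟨x, hLt hx⟩ : C) ∈ L.subgroupOf C from hx)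
    · have h2 := congrArg (Subgroup.map C.subtype) h
      rw [map_commutator, Subgroup.map_bot, map_subgroupOf_eq_of_le hLt, map_subgroupOf_eq_of_le inf_le_right] at h2
      exact Or.inr h2
  rcases side N (sSup_components_isSubnormal fun X hX => (hT X hX).1) with h | hNc
  · refine ih T.ncard ?_ T rfl hT (h.trans inf_le_left)
    rw [← hn]
    exact Set.ncard_lt_ncard ⟨Set.diff_subset, fun h' => (h' hD).2 (Or.inl rfl)⟩ (Set.toFinite _)
  rcases side M (sSup_components_isSubnormal hpair) with h | hMc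
  · exact ⟨D, (hS D hD).1, by rw [hM, sSup_pair] at h; exact h.trans inf_le_left⟩
  exfalso
  have hle : L ≤ (M ⊓ C) ⊔ (N ⊓ C) := by
    conv_lhs => rw [← hLperf]
    exact commutator_le.2 fun x hx y hy =>
      commutator_split ht hMN hcM hcN (hLMN hx) (hLt hx) (hLMN hy) (hLt hy)
  apply hLne
  rw [← hLperf, commutator_eq_bot_iff_le_centralizer]
  exact le_centralizer_iff.1 (hle.trans (sup_le
    (le_centralizer_iff.1 (commutator_eq_bot_iff_le_centralizer.1 hMc))
    (le_centralizer_iff.1 (commutator_eq_bot_iff_le_centralizer.1 hNc))))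

/-- An involution normalizing a component acts trivially or generates it by commutators. -/
theorem eq_commutator_or_centralizes {D : Subgroup H} (hD : IsComponent D)
    (hDt : D.map (MulAut.conj t).toMonoidHom = D) :
    D = ⁅D, zpowers t⁆ ∨ D ≤ centralizer ({t} : Set H) := by
  have hn : zpowers t ≤ normalizer (D : Set H) := zpowers_le.2 (mem_normalizer_iff_map_conj_eq.2 hDt)
  have hle : ⁅D, zpowers t⁆ ≤ D := le_normalizer_iff_commutator_le_left.1 hn
  have hnD : (⁅D, zpowers t⁆.subgroupOf D).Normal := by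
    rw [normal_subgroupOf_iff_le_normalizer hle]
    exact normalizer_commutator_ge_left D (zpowers t)
  rcases normal_eq_top_or_le_center_of_isQuasisimple hD.2 (hN := hnD) with h | h
  · exact Or.inl (le_antisymm (subgroupOf_eq_top.1 h) hle)
  · right
    have hc : ⁅⁅D, zpowers t⁆, D⁆ = ⊥ := by
      refine commutator_eq_bot_iff_le_centralizer.2 fun x hx y hy => ?_
      have := mem_center_iff.1 (h (show (⟨x, hle hx⟩ : D) ∈ ⁅D, zpowers t⁆.subgroupOf D from hx)) ⟨y, hy⟩
      exact congrArg Subtype.val this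
    have := commutator_eq_bot_of_perfect (component_commutator_self hD) hc
    rw [commutator_eq_bot_iff_le_centralizer] at this
    exact this.trans (centralizer_le (Set.singleton_subset_iff.2 (mem_zpowers t)))

/-- The diagonal map of two interchanged components. -/
theorem exists_diagonal (ht : t * t = 1) {D : Subgroup H} (hD : IsComponent D)
    (hne : D.map (MulAut.conj t).toMonoidHom ≠ D) :
    ∃ φ : D →* H, (∀ d : D, φ d = (d : H) * (t * (d : H) * t⁻¹)) ∧
      φ.range ≤ (D ⊔ D.map (MulAut.conj t).toMonoidHom) ⊓ centralizer ({t} : Set H) ∧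
      ⁅(D ⊔ D.map (MulAut.conj t).toMonoidHom) ⊓ centralizer ({t} : Set H),
        (D ⊔ D.map (MulAut.conj t).toMonoidHom) ⊓ centralizer ({t} : Set H)⁆ ≤ φ.range := by
  set D' := D.map (MulAut.conj t).toMonoidHom with hD'
  have hD'c : IsComponent D' := isComponent_conj' hD t
  have hcD : D ≤ centralizer (D' : Set H) :=
    commutator_eq_bot_iff_le_centralizer.1 (commutator_components_eq_bot hD hD'c (Ne.symm hne))
  have hcomm : ∀ d ∈ D, ∀ e ∈ D', d * e = e * d := fun d hd e he => (hcD hd e he).symm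
  let φ : D →* H :=
    { toFun := fun d => (d : H) * (t * (d : H) * t⁻¹)
      map_one' := by simp
      map_mul' := fun a b => by
        show (a : H) * b * (t * ((a : H) * b) * t⁻¹) = _
        calc (a : H) * b * (t * ((a : H) * b) * t⁻¹) = a * ((b : H) * (t * a * t⁻¹)) * (t * b * t⁻¹) := by group
          _ = a * ((t * a * t⁻¹) * (b : H)) * (t * b * t⁻¹) := by rw [hcomm _ b.2 _ (mem_conj a.2)]
          _ = _ := by group }
  refine ⟨φ, fun d => rfl, ?_, ?_⟩
  · rintro _ ⟨d, rfl⟩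
    refine ⟨mul_mem (mem_sup_left d.2) (mem_sup_right (mem_conj d.2)), mem_centralizer_of_fixed ?_⟩
    show t * ((d : H) * (t * d * t⁻¹)) * t⁻¹ = (d : H) * (t * d * t⁻¹)
    calc t * ((d : H) * (t * d * t⁻¹)) * t⁻¹ = (t * d * t⁻¹) * (t * (t * d * t⁻¹) * t⁻¹) := by group
      _ = (t * d * t⁻¹) * d := by rw [conj_conj ht]
      _ = _ := (hcomm _ d.2 _ (mem_conj d.2)).symm
  have hsplit : ∀ x ∈ (D ⊔ D') ⊓ centralizer ({t} : Set H), ∃ d : D, ∃ z, z ∈ D ∧ z ∈ D' ∧ x = φ d * z := by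
    intro x hx
    obtain ⟨hx, hxt⟩ := mem_inf.1 hx
    obtain ⟨d, hd, e, he, rfl⟩ := ((Subgroup.coe_mul_of_left_le_normalizer_right D D'
      (hcD.trans (centralizer_le_normalizer _))).le (SetLike.mem_coe.2 hx) : x ∈ (D : Set H) * (D' : Set H))
    simp only [SetLike.mem_coe] at hd he
    refine ⟨⟨d, hd⟩, (t * d * t⁻¹)⁻¹ * e, ?_, mul_mem (inv_mem (mem_conj hd)) he, ?_⟩
    · have e1 : t * d * t⁻¹ * (t * e * t⁻¹) = d * e :=
        (by group : t * d * t⁻¹ * (t * e * t⁻¹) = t * (d * e) * t⁻¹).trans (fixed_of_mem_centralizer hxt)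
      have hte : t * e * t⁻¹ ∈ D := by
        obtain ⟨w, hw, rfl⟩ := he
        show t * (t * w * t⁻¹) * t⁻¹ ∈ D
        rwa [conj_conj ht]
      have e2 : (t * d * t⁻¹)⁻¹ * e = d⁻¹ * (t * e * t⁻¹) := by
        rw [inv_mul_eq_iff_eq_mul, ← mul_assoc, ← hcomm _ (inv_mem hd) _ (mem_conj hd), mul_assoc, e1,
          inv_mul_cancel_left]
      rw [e2]; exact mul_mem (inv_mem hd) hte
    · show d * e = d * (t * d * t⁻¹) * ((t * d * t⁻¹)⁻¹ * e)
      group
  rw [commutator_le]
  intro x hx y hy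
  obtain ⟨a, z, hz, hz', rfl⟩ := hsplit x hx
  obtain ⟨b, w, hw, hw', rfl⟩ := hsplit y hy
  have cz : ∀ v, v ∈ D → v ∈ D' → ∀ g ∈ D ⊔ D', v * g = g * v := by
    intro v hv hv' g hg
    have : D ⊔ D' ≤ centralizer ({v} : Set H) := sup_le
      (fun d hd => mem_centralizer_singleton_iff.2 (hcomm d hd v hv'))
      (fun e he => mem_centralizer_singleton_iff.2 (hcomm v hv e he).symm)
    exact (mem_centralizer_singleton_iff.1 (this hg)).symm
  refine ⟨⁅a, b⁆, ?_⟩
  rw [map_commutatorElement]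
  have ha : φ a ∈ D ⊔ D' := mul_mem (mem_sup_left a.2) (mem_sup_right (mem_conj a.2))
  have hb : φ b ∈ D ⊔ D' := mul_mem (mem_sup_left b.2) (mem_sup_right (mem_conj b.2))
  simp only [commutatorElement_def, mul_inv_rev]
  symm
  calc φ a * z * (φ b * w) * (z⁻¹ * (φ a)⁻¹) * (w⁻¹ * (φ b)⁻¹)
      = φ a * (z * (φ b * w)) * z⁻¹ * (φ a)⁻¹ * w⁻¹ * (φ b)⁻¹ := by group
    _ = φ a * ((φ b * w) * z) * z⁻¹ * (φ a)⁻¹ * w⁻¹ * (φ b)⁻¹ := by
      rw [cz z hz hz' _ (mul_mem hb (mem_sup_left hw))]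
    _ = φ a * φ b * (w * (φ a)⁻¹) * w⁻¹ * (φ b)⁻¹ := by group
    _ = φ a * φ b * ((φ a)⁻¹ * w) * w⁻¹ * (φ b)⁻¹ := by rw [cz w hw hw' _ (inv_mem ha)]
    _ = _ := by group

/-- A component of `C_H(t)` inside two interchanged components is their diagonal and the layer there. -/
theorem pair_component (ht : t * t = 1) {L D : Subgroup H} (hD : IsComponent D)
    (hne : D.map (MulAut.conj t).toMonoidHom ≠ D) (hLt : L ≤ centralizer ({t} : Set H))
    (hL : IsComponent (L.subgroupOf (centralizer ({t} : Set H))))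
    (hLD : L ≤ D ⊔ D.map (MulAut.conj t).toMonoidHom) :
    ∃ φ : D →* H, (∀ d : D, φ d = (d : H) * (t * (d : H) * t⁻¹)) ∧ φ.range = L ∧
      L = (layer ↥((D ⊔ D.map (MulAut.conj t).toMonoidHom) ⊓ centralizer ({t} : Set H))).map
        ((D ⊔ D.map (MulAut.conj t).toMonoidHom) ⊓ centralizer ({t} : Set H)).subtype := by
  obtain ⟨φ, hφ, hrange, hcomm⟩ := exists_diagonal ht hD hne
  set C := centralizer ({t} : Set H)
  set P := (D ⊔ D.map (MulAut.conj t).toMonoidHom) ⊓ C with hP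
  have hLq := (isQuasisimple_subgroupOf_iff hLt).1 hL.2
  have hLperf := commutator_self_of_isQuasisimple hLq
  have hLP : L ≤ P := le_inf hLD hLt
  have hLQ : L ≤ φ.range := hLperf.ge.trans ((commutator_mono hLP hLP).trans hcomm)
  have hLne : L ≠ ⊥ := fun h => component_ne_bot hL (by rw [h, bot_subgroupOf])
  haveI : Nontrivial φ.range := (nontrivial_iff_ne_bot _).2 fun h => hLne (le_bot_iff.1 (h ▸ hLQ))
  have hQq : IsQuasisimple φ.range :=
    Techniques.BLayer.isQuasisimple_of_surjective hD.2 φ.rangeRestrict φ.rangeRestrict_surjective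
  have hQC : φ.range ≤ C := hrange.trans inf_le_right
  have hLQs : (L.subgroupOf φ.range).IsSubnormal := hL.1.comap (Subgroup.inclusion hQC)
  have hQL : φ.range = L := by
    rcases isSubnormal_eq_top_or_le_center_of_isQuasisimple hQq hLQs with h | h
    · exact le_antisymm (subgroupOf_eq_top.1 h) hLQ
    · exfalso
      apply hLne
      rw [← hLperf, commutator_eq_bot_iff_le_centralizer]
      intro x hx y hy
      exact congrArg Subtype.val (mem_center_iff.1 (h (show (⟨x, hLQ hx⟩ : φ.range) ∈ L.subgroupOf φ.range from hx)) ⟨y, hLQ hy⟩)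
  refine ⟨φ, hφ, hQL, le_antisymm ?_ ?_⟩
  · have hc : IsComponent (L.subgroupOf P) :=
      ⟨hL.1.comap (Subgroup.inclusion (inf_le_right : P ≤ C)), (isQuasisimple_subgroupOf_iff hLP).2 hLq⟩
    conv_lhs => rw [← map_subgroupOf_eq_of_le hLP]
    exact map_mono (component_le_layer hc)
  · rw [← CfsgLib.Cores.commutator_layer_self, map_commutator, ← hQL]
    exact (commutator_mono (map_subtype_le _) (map_subtype_le _)).trans hcomm

end CfsgLib.CompCent
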