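import Cfsg.Agent.Lib.Cores.PConstrained
import Cfsg.Prelude.Def_Balance

/-!
The extended 2-layer.
-/

namespace CfsgLib.Cores

open Subgroup Cfsg

variable {G : Type*} [Group G]

/-- `O(C_G(T))` as a subgroup of `G`. -/
abbrev coreCentralizer (p : ℕ) (T : Subgroup G) : Subgroup G :=
  (pPrimeCore p ↥(centralizer (T : Set G))).map (centralizer (T : Set G)).subtype

theorem map_centralizer_equiv {H : Type*} [Group H] (e : G ≃* H) (T : Subgroup G) :
    (centralizer (T : Set G)).map e.toMonoidHom = centralizer ((T.map e.toMonoidHom : Subgroup H) : Set H) := by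
  ext h
  constructor
  · rintro ⟨c, hc, rfl⟩
    rw [mem_centralizer_iff]
    rintro _ ⟨t, ht, rfl⟩
    rw [← map_mul, ← map_mul, mem_centralizer_iff.1 hc t ht]
  · intro hh
    refine ⟨e.symm h, mem_centralizer_iff.2 fun t ht => e.injective ?_, e.apply_symm_apply h⟩
    rw [map_mul, map_mul, e.apply_symm_apply]
    exact mem_centralizer_iff.1 hh (e t) ⟨t, ht, rfl⟩

theorem map_coreCentralizer_equiv {H : Type*} [Group H] (p : ℕ) (e : G ≃* H) (T : Subgroup G) :
    (coreCentralizer p T).map e.toMonoidHom = coreCentralizer p (T.map e.toMonoidHom) := by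
  set C := centralizer (T : Set G)
  let e' : ↥C ≃* ↥(centralizer ((T.map e.toMonoidHom : Subgroup H) : Set H)) :=
    (e.subgroupMap C).trans (MulEquiv.subgroupCongr (map_centralizer_equiv e T))
  rw [coreCentralizer, coreCentralizer, ← map_pPrimeCore_equiv e', map_map, map_map]
  rfl

/-- The subgroup `L_{2'}(G) O(G)`. -/
abbrev extBase (G : Type*) [Group G] : Subgroup G := pLayer 2 G ⊔ oddCore G

/-- The subgroup `L_{2'}(G) O_{2',2}(G)`. -/
abbrev extTop (G : Type*) [Group G] : Subgroup G := pLayer 2 G ⊔ pPrimePCore 2 G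

variable [Finite G]

theorem extBase_normal : (extBase G).Normal :=
  have := pLayer_normal (p := 2) (G := G)
  Subgroup.sup_normal _ _

theorem extTop_normal : (extTop G).Normal :=
  have := pLayer_normal (p := 2) (G := G)
  have := pPrimePCore_normal (p := 2) (G := G)
  Subgroup.sup_normal _ _

theorem relIndex_extBase_dvd : ∃ n, (extBase G).relIndex (extTop G) ∣ 2 ^ n := by
  have hWn := extBase_normal (G := G)
  obtain ⟨n, hn⟩ := card_pCore_eq_pow (G := G ⧸ pPrimeCore 2 G) 2
  refine ⟨n, ?_⟩
  have h1 : extTop G = pPrimePCore 2 G ⊔ extBase G := by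
    refine le_antisymm (sup_le (le_sup_of_le_right le_sup_left) le_sup_left) ?_
    exact sup_le le_sup_right (sup_le le_sup_left (pPrimeCore_le_pPrimePCore.trans le_sup_right))
  rw [h1, relIndex_sup_right, ← hn]
  refine (relIndex_dvd_of_le_left _ (le_sup_right : oddCore G ≤ extBase G)).trans (dvd_of_eq ?_)
  have h2 := relIndex_comap (⊥ : Subgroup (G ⧸ pPrimeCore 2 G)) (QuotientGroup.mk' (pPrimeCore 2 G)) (pPrimePCore 2 G)
  rwa [MonoidHom.comap_bot, QuotientGroup.ker_mk', map_mk'_pPrimePCore, relIndex_bot_left] at h2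

theorem map_sylow_sup_extBase (T : Sylow 2 ↥(extTop G)) :
    extBase G ⊔ (T : Subgroup ↥(extTop G)).map (extTop G).subtype = extTop G := by
  have hWM : extBase G ≤ extTop G := sup_le le_sup_left (pPrimeCore_le_pPrimePCore.trans le_sup_right)
  refine le_antisymm (sup_le hWM (map_subtype_le _)) ?_
  rw [← relIndex_eq_one]
  obtain ⟨n, hn⟩ := relIndex_extBase_dvd (G := G)
  refine Nat.eq_one_of_dvd_coprimes (a := 2 ^ n) (b := (T : Subgroup ↥(extTop G)).index) ?_ ?_ ?_
  · exact Nat.Coprime.pow_left n ((Nat.prime_two.coprime_iff_not_dvd).2 T.not_dvd_index)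
  · exact (relIndex_dvd_of_le_left _ le_sup_left).trans hn
  · rw [relIndex]
    refine index_dvd_of_le fun x hx => ?_
    exact mem_sup_right ⟨x, hx, rfl⟩

theorem coreCentralizer_le_of_conj (T T' : Sylow 2 ↥(extTop G)) :
    coreCentralizer 2 ((T' : Subgroup ↥(extTop G)).map (extTop G).subtype) ≤
      extBase G ⊔ coreCentralizer 2 ((T : Subgroup ↥(extTop G)).map (extTop G).subtype) := by
  obtain ⟨m, rfl⟩ := MulAction.exists_smul_eq ↥(extTop G) T T'
  set T₀ := (T : Subgroup ↥(extTop G)).map (extTop G).subtype with hT₀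
  have hmap : ((m • T : Sylow 2 ↥(extTop G)) : Subgroup ↥(extTop G)).map (extTop G).subtype =
      T₀.map (MulAut.conj (m : G)).toMonoidHom := by
    rw [hT₀]
    show ((T : Subgroup ↥(extTop G)).map (MulAut.conj m).toMonoidHom).map (extTop G).subtype = _
    rw [map_map, map_map]
    rfl
  rw [hmap, ← map_coreCentralizer_equiv 2 (MulAut.conj (m : G))]
  have hm : (m : G) ∈ ((extBase G ⊔ T₀ : Subgroup G) : Set G) := by
    rw [hT₀, map_sylow_sup_extBase T]; exact m.2
  have hWn := extBase_normal (G := G)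
  rw [normal_mul] at hm
  obtain ⟨w, hw, t, ht, hwt⟩ := Set.mem_mul.1 hm
  rintro _ ⟨d, hd, rfl⟩
  have htd : t * d * t⁻¹ = d := by
    have hdC : d ∈ centralizer (T₀ : Set G) := map_subtype_le _ hd
    rw [mem_centralizer_iff.1 hdC t ht, mul_inv_cancel_right]
  show (m : G) * d * (m : G)⁻¹ ∈ _
  rw [← hwt, show w * t * d * (w * t)⁻¹ = w * (t * d * t⁻¹) * w⁻¹ by group, htd]
  exact mul_mem (mul_mem (mem_sup_left hw) (mem_sup_right hd)) (inv_mem (mem_sup_left hw))

theorem extendedTwoLayer_eq (T : Sylow 2 ↥(extTop G)) :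
    extendedTwoLayer G = extBase G ⊔ coreCentralizer 2 ((T : Subgroup ↥(extTop G)).map (extTop G).subtype) := by
  refine le_antisymm (sup_le le_sup_left (iSup_le fun T' => coreCentralizer_le_of_conj T T')) ?_
  exact sup_le_sup_left
    (le_iSup (fun T' : Sylow 2 ↥(extTop G) => coreCentralizer 2 ((T' : Subgroup ↥(extTop G)).map (extTop G).subtype)) T) _

theorem extendedTwoLayer_normal : (extendedTwoLayer G).Normal := by
  have hWn := extBase_normal (G := G)
  have hMn := extTop_normal (G := G)
  obtain ⟨T⟩ : Nonempty (Sylow 2 ↥(extTop G)) := inferInstance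
  refine ⟨fun x hx g => ?_⟩
  have h : (extendedTwoLayer G).map (MulAut.conj g).toMonoidHom ≤ extendedTwoLayer G := by
    conv_lhs => rw [extendedTwoLayer_eq T]
    rw [Subgroup.map_sup, map_coreCentralizer_equiv 2 (MulAut.conj g)]
    refine sup_le ?_ ?_
    · refine le_trans ?_ (le_sup_left : extBase G ≤ extendedTwoLayer G)
      rintro _ ⟨y, hy, rfl⟩
      exact hWn.conj_mem y hy g
    · have heq : (((MulAut.conjNormal g : MulAut ↥(extTop G)) • T : Sylow 2 ↥(extTop G)) : Subgroup ↥(extTop G)).map (extTop G).subtype =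
          ((T : Subgroup ↥(extTop G)).map (extTop G).subtype).map (MulAut.conj g).toMonoidHom := by
        show ((T : Subgroup ↥(extTop G)).map (MulAut.conjNormal g : MulAut ↥(extTop G)).toMonoidHom).map (extTop G).subtype = _
        rw [map_map, map_map]
        rfl
      rw [← heq]
      exact le_trans
        (le_iSup (fun T' : Sylow 2 ↥(extTop G) => coreCentralizer 2 ((T' : Subgroup ↥(extTop G)).map (extTop G).subtype)) ((MulAut.conjNormal g : MulAut ↥(extTop G)) • T))
        le_sup_right
  exact h ⟨x, hx, rfl⟩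

end CfsgLib.Cores
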