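import Cfsg.Agent.Lib.Cores.LayerOf
import Cfsg.Agent.Lib.Cores.ExtLayer
import Cfsg.Agent.Lib.Invol.ZStarFinal

/-!
A `2`-element of the layer of the centralizer of a Sylow `2`-subgroup of a component centralizes that component
(Glauberman's argument, via weak closure and the Z*-theorem).
-/

namespace CfsgLib.LBalance

open Subgroup Cfsg CfsgLib.Cores
open scoped commutatorElement

variable {G : Type*} [Group G] [Finite G]

/-- `T` is a maximal `2`-subgroup of `X`. -/
def Max2 (X T : Subgroup G) : Prop :=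
  T ≤ X ∧ IsPGroup 2 T ∧ ∀ T' : Subgroup G, T' ≤ X → IsPGroup 2 T' → T ≤ T' → T' = T

theorem exists_max2 {X T : Subgroup G} (hT : T ≤ X) (hp : IsPGroup 2 T) : ∃ T', Max2 X T' ∧ T ≤ T' := by
  obtain ⟨T', hle, ⟨hX, hp'⟩, hmax⟩ := Finite.exists_le_maximal
    (p := fun A : Subgroup G => A ≤ X ∧ IsPGroup 2 A) (a := T) ⟨hT, hp⟩
  exact ⟨T', ⟨hX, hp', fun A h1 h2 h3 => le_antisymm (hmax ⟨h1, h2⟩ h3) h3⟩, hle⟩

theorem Max2.exists_sylow {X T : Subgroup G} (h : Max2 X T) :
    ∃ P : Sylow 2 X, (P : Subgroup X) = T.subgroupOf X := by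
  refine ⟨⟨T.subgroupOf X, h.2.1.of_equiv (subgroupOfEquivOfLe h.1).symm, fun {Q} hQ hle => ?_⟩, rfl⟩
  have h1 := h.2.2 (Q.map X.subtype) (map_subtype_le Q) (hQ.map _) fun x hx => ⟨⟨x, h.1 hx⟩, hle hx, rfl⟩
  conv_rhs => rw [← h1]
  exact (comap_map_eq_self_of_injective X.subtype_injective Q).symm

theorem Max2.conj {X T T' : Subgroup G} (h : Max2 X T) (h' : Max2 X T') :
    ∃ x ∈ X, T.map (MulAut.conj x).toMonoidHom = T' := by
  obtain ⟨P, hP⟩ := h.exists_sylow
  obtain ⟨P', hP'⟩ := h'.exists_sylow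
  obtain ⟨x, hx⟩ := MulAction.exists_smul_eq X P P'
  refine ⟨x, x.2, ?_⟩
  have h2 : (P : Subgroup X).map (MulAut.conj x).toMonoidHom = P' := congrArg Sylow.toSubgroup hx
  rw [hP, hP'] at h2
  conv_lhs => rw [← map_subgroupOf_eq_of_le h.1]
  conv_rhs => rw [← map_subgroupOf_eq_of_le h'.1, ← h2]
  rw [map_map, map_map]
  rfl

theorem card_map_conj (T : Subgroup G) (x : G) : Nat.card ↥(T.map (MulAut.conj x).toMonoidHom) = Nat.card T :=
  (Nat.card_congr (equivMapOfInjective T _ (MulAut.conj x).injective).toEquiv).symm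

theorem Max2.card_eq {X T T' : Subgroup G} (h : Max2 X T) (h' : Max2 X T') : Nat.card T = Nat.card T' := by
  obtain ⟨x, -, hx⟩ := h.conj h'
  rw [← hx, card_map_conj]

theorem Max2.card_le {X T P : Subgroup G} (h : Max2 X T) (hP : P ≤ X) (hp : IsPGroup 2 P) :
    Nat.card P ≤ Nat.card T := by
  obtain ⟨T', hT', hle⟩ := exists_max2 hP hp
  exact (card_le_of_le hle).trans (h.card_eq hT').ge

theorem max2_of_card {X T T' : Subgroup G} (h : Max2 X T) (hX : T' ≤ X) (hp : IsPGroup 2 T')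
    (hc : Nat.card T ≤ Nat.card T') : Max2 X T' :=
  ⟨hX, hp, fun A h1 h2 h3 => (eq_of_le_of_card_ge h3 ((h.card_le h1 h2).trans hc)).symm⟩

theorem Max2.inf_normal {X N T : Subgroup G} (h : Max2 X T) (hNX : N ≤ X) (hn : X ≤ normalizer (N : Set G)) :
    Max2 N (T ⊓ N) := by
  refine ⟨inf_le_right, h.2.1.to_le inf_le_left, fun A hA hAp hle => ?_⟩
  obtain ⟨T', hT', hAT'⟩ := exists_max2 (hA.trans hNX) hAp
  obtain ⟨x, hx, hxT⟩ := h.conj hT'
  refine (eq_of_le_of_card_ge hle ?_).symm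
  refine (card_le_of_le (le_inf hAT' hA)).trans ?_
  rw [← hxT, ← card_map_conj (T ⊓ N) x]
  refine card_le_of_le ?_
  rintro _ ⟨⟨t, ht, rfl⟩, hN⟩
  exact ⟨t, ⟨ht, (mem_normalizer_iff.1 (hn hx) t).2 hN⟩, rfl⟩

theorem lt_inf_normalizer {P Q : Subgroup G} (hP : IsPGroup 2 P) (h : Q < P) :
    Q < P ⊓ normalizer (Q : Set G) := by
  refine lt_of_le_of_ne (le_inf h.le le_normalizer) fun he => ?_
  have : Group.IsNilpotent P := hP.isNilpotent
  have hlt : Q.subgroupOf P < normalizer ((Q.subgroupOf P : Subgroup P) : Set P) := by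
    refine Group.normalizerCondition_of_isNilpotent _ (lt_top_iff_ne_top.2 ?_)
    rw [Ne, subgroupOf_eq_top]
    exact h.not_ge
  refine hlt.not_ge fun x hx => ?_
  rw [mem_subgroupOf, he]
  refine ⟨x.2, CfsgLib.Solvable.mem_normalizer_of_conj_mem fun y hy => ?_⟩
  exact (mem_normalizer_iff.1 hx ⟨y, h.le hy⟩).1 hy

/-- A perfect subgroup of the layer generated by `2`-elements and centralizing a Sylow `2`-subgroup of the normal
subgroup `S` centralizes `S` modulo the core. -/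
theorem commutator_le_core_of_centralizes_sylow {W P S : Subgroup G} [S.Normal] (hW : W ≤ pLayer 2 G)
    (hperf : ⁅W, W⁆ = W) (hgen : pElemClosure 2 W = W) (hP : Max2 S P) (hc : W ≤ centralizer (P : Set G)) :
    ⁅W, S⁆ ≤ oddCore G := by
  set π := QuotientGroup.mk' (oddCore G)
  set Q := G ⧸ oddCore G
  set S' := S.map π with hS'
  haveI : S'.Normal := Subgroup.Normal.map inferInstance π (QuotientGroup.mk'_surjective _)
  -- the components commuting with `S'`
  set B : Subgroup Q := ⨆ L : {L : Subgroup Q // IsComponent L ∧ ⁅L, S'⁆ = ⊥}, (L : Subgroup Q) with hB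
  haveI hBn : B.Normal := by
    refine ⟨fun x hx g => ?_⟩
    have hle : B.map (MulAut.conj g).toMonoidHom ≤ B := by
      rw [hB, Subgroup.map_iSup]
      refine iSup_le fun L => le_iSup_of_le ⟨(L : Subgroup Q).map (MulAut.conj g).toMonoidHom, isComponent_map_equiv _ L.2.1, ?_⟩ le_rfl
      have hSg : S'.map (MulAut.conj g).toMonoidHom = S' :=
        map_conj_eq_self_iff'.2 ((normalizer_eq_top_iff.2 inferInstance).ge (mem_top g))
      have h := congrArg (Subgroup.map (MulAut.conj g).toMonoidHom) L.2.2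
      rwa [map_commutator, hSg, Subgroup.map_bot] at h
    exact hle ⟨x, hx, rfl⟩
  have hBS : ⁅B, S'⁆ = ⊥ := by
    rw [commutator_eq_bot_iff_le_centralizer]
    exact iSup_le fun L => commutator_eq_bot_iff_le_centralizer.1 L.2.2
  set q := (QuotientGroup.mk' B).comp π with hq
  have hWS : W.map q ≤ S.map q := by
    have h1 : W.map π ≤ layer Q := by
      rw [← map_mk'_pLayer]
      exact map_mono hW
    have h2 : layer Q ≤ B ⊔ S' := layer_le_iff.2 fun L hL => by
      rcases component_le_or_commutator_eq_bot hL (Normal.isSubnormal inferInstance : S'.IsSubnormal) with h | h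
      · exact h.trans le_sup_right
      · exact le_trans (le_iSup (fun L : {L : Subgroup Q // IsComponent L ∧ ⁅L, S'⁆ = ⊥} => (L : Subgroup Q))
          ⟨L, hL, h⟩) le_sup_left
    have h3 := map_mono (f := QuotientGroup.mk' B) (h1.trans h2)
    rw [Subgroup.map_sup, map_map, hS', map_map,
      (Subgroup.map_eq_bot_iff B).2 (QuotientGroup.ker_mk' B).ge, bot_sup_eq] at h3
    exact h3
  -- the image of `P` is a Sylow subgroup of the image of `S`
  obtain ⟨P₀, hP₀⟩ := hP.exists_sylow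
  let P₁ := P₀.mapSurjective (f := q.subgroupMap S) (q.subgroupMap_surjective S)
  have hP₁ : ∀ y, y ∈ (P₁ : Subgroup (S.map q)) ↔ (y : Q ⧸ B) ∈ P.map q := by
    intro y
    show y ∈ (P₀ : Subgroup S).map (q.subgroupMap S) ↔ _
    rw [hP₀]
    constructor
    · rintro ⟨x, hx, rfl⟩
      exact ⟨x, hx, rfl⟩
    · rintro ⟨x, hx, hxy⟩
      exact ⟨⟨x, hP.1 hx⟩, hx, Subtype.ext hxy⟩
  have hcent : W.map q ≤ centralizer ((P.map q : Subgroup _) : Set (Q ⧸ B)) := by
    rintro _ ⟨w, hw, rfl⟩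
    rw [mem_centralizer_iff]
    rintro _ ⟨x, hx, rfl⟩
    rw [← map_mul, ← map_mul, mem_centralizer_iff.1 (hc hw) x hx]
  have hWP : W.map q ≤ P.map q := by
    conv_lhs => rw [← hgen, map_pElemClosure]
    rw [pElemClosure, closure_le]
    rintro x ⟨hx, k, hk⟩
    have hxS : x ∈ S.map q := hWS hx
    set y : S.map q := ⟨x, hxS⟩
    have hy : IsPGroup 2 (zpowers y) := IsPGroup.of_card (n := k) (by
      rw [Nat.card_zpowers, ← hk, orderOf_mk])
    have hcy : (P₁ : Subgroup (S.map q)) ≤ centralizer (zpowers y : Set (S.map q)) := by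
      intro v hv
      rw [mem_centralizer_iff]
      rintro _ ⟨i, rfl⟩
      refine ((show Commute y v from Subtype.ext ?_).zpow_left i).eq
      exact (mem_centralizer_iff.1 (hcent hx) v ((hP₁ v).1 hv)).symm
    have heq := P₁.3 (hy.to_sup_of_normal_left' P₁.2 (hcy.trans (centralizer_le_normalizer _))) le_sup_right
    have hyP : y ∈ (P₁ : Subgroup (S.map q)) := heq ▸ mem_sup_left (mem_zpowers y)
    exact (hP₁ y).1 hyP
  have hWbot : W.map q = ⊥ := by
    rw [← hperf, map_commutator, eq_bot_iff]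
    have hab : ∀ a ∈ W.map q, ∀ b ∈ W.map q, a * b = b * a := fun a ha b hb =>
      mem_centralizer_iff.1 (hcent hb) a (hWP ha)
    rw [commutator_le]
    intro a ha b hb
    rw [mem_bot, commutatorElement_eq_one_iff_mul_comm]
    exact hab a ha b hb
  have hWB : W.map π ≤ B := by
    rwa [hq, ← map_map, Subgroup.map_eq_bot_iff, QuotientGroup.ker_mk'] at hWbot
  rw [← QuotientGroup.ker_mk' (oddCore G), ← Subgroup.map_eq_bot_iff, map_commutator, eq_bot_iff, ← hBS]
  exact commutator_mono hWB le_rfl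
where
  map_conj_eq_self_iff' {H : Type _} [Group H] {L : Subgroup H} {g : H} :
      L.map (MulAut.conj g).toMonoidHom = L ↔ g ∈ normalizer (L : Set H) :=
    (mem_normalizer_iff_map_conj_eq (g := g) (H := L)).symm

/-- A `2`-element `u` of `L_{2'}(C(S))`, `S` a Sylow `2`-subgroup of the component `K`, centralizes `K`. -/
theorem mem_centralizer_of_mem_layer {K S : Subgroup G} (hK : IsComponent K)
    (hZK : K ⊓ centralizer (K : Set G) = ⊥) (heven : 2 ∣ Nat.card K)
    (hanti : ∀ R S : Subgroup G, R ≠ ⊥ → R ≤ S → IsPGroup 2 S →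
      pLayerOf 2 (centralizer (S : Set G)) ≤ pLayerOf 2 (centralizer (R : Set G)))
    (hNR : ∀ R : Subgroup G, R ≤ K → R ≠ ⊥ → normalizer (R : Set G) ≤ normalizer (K : Set G))
    (hS : Max2 K S) {u : G} (hu : u ∈ pLayerOf 2 (centralizer (S : Set G))) {k : ℕ} (huk : orderOf u = 2 ^ k) :
    u ∈ centralizer (K : Set G) := by
  by_contra huK
  have huS : u ∈ centralizer (S : Set G) := pLayerOf_le _ hu
  have hSbot : S ≠ ⊥ := by
    intro h
    obtain ⟨x, hx⟩ := exists_prime_orderOf_dvd_card' (G := K) 2 heven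
    have h1 := hS.2.2 (zpowers (x : G)) (zpowers_le.2 x.2)
      (IsPGroup.of_card (n := 1) (by rw [Nat.card_zpowers, orderOf_coe, hx, pow_one])) (h ▸ bot_le)
    rw [h, zpowers_eq_bot] at h1
    rw [← orderOf_coe, h1, orderOf_one] at hx
    norm_num at hx
  have huN : u ∈ normalizer (K : Set G) := hNR S hS.1 hSbot (centralizer_le_normalizer _ huS)
  set H := K ⊔ zpowers u with hH
  have hHN : H ≤ normalizer (K : Set G) := sup_le le_normalizer (zpowers_le.2 huN)
  have huH : u ∈ H := mem_sup_right (mem_zpowers u)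
  have hdec : ∀ h ∈ H, ∃ a ∈ K, ∃ i : ℤ, h = a * u ^ i := by
    intro h hh
    obtain ⟨a, ha, b, ⟨i, rfl⟩, hab⟩ := Solvable.exists_mul_of_mem_sup
      (zpowers_le.2 huN : zpowers u ≤ normalizer (K : Set G)) hh
    exact ⟨a, ha, i, hab⟩
  have hp1 : IsPGroup 2 (zpowers u) := IsPGroup.of_card (n := k) (by rw [Nat.card_zpowers, huk])
  -- a Sylow subgroup of `H` in which `u` is central
  set T₀ := S ⊔ zpowers u with hT₀
  have hSu : zpowers u ≤ centralizer (S : Set G) := zpowers_le.2 huS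
  have hT₀p : IsPGroup 2 T₀ := hS.2.1.to_sup_of_normal_left' hp1 (hSu.trans (centralizer_le_normalizer _))
  have hT₀c : T₀ ≤ centralizer {u} := sup_le
    (fun s hs => mem_centralizer_singleton_iff.2 (mem_centralizer_iff.1 huS s hs))
    (zpowers_le.2 (mem_centralizer_singleton_iff.2 rfl))
  have hT₀max : Max2 H T₀ := by
    refine ⟨sup_le (hS.1.trans le_sup_left) le_sup_right, hT₀p, fun A hA hAp hle => ?_⟩
    refine le_antisymm (fun x hx => ?_) hle
    obtain ⟨a, ha, i, rfl⟩ := hdec x (hA hx)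
    have hui : u ^ i ∈ A := hle (mem_sup_right (zpow_mem (mem_zpowers u) i))
    have haA : a ∈ A := by simpa using A.mul_mem hx (A.inv_mem hui)
    have haS : a ∈ S :=
      (hS.2.2 (A ⊓ K) inf_le_right (hAp.to_le inf_le_left) (le_inf (le_sup_left.trans hle) hS.1)).le ⟨haA, ha⟩
    exact mul_mem (mem_sup_left haS) (mem_sup_right (zpow_mem (mem_zpowers u) i))
  have hT₀K : T₀ ⊓ K = S :=
    hS.2.2 _ inf_le_right (hT₀p.to_le inf_le_left) (le_inf le_sup_left hS.1)
  have hT₀X : Max2 (H ⊓ centralizer {u}) T₀ :=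
    ⟨le_inf hT₀max.1 hT₀c, hT₀p, fun A h1 h2 h3 => hT₀max.2.2 A (h1.trans inf_le_left) h2 h3⟩
  -- Sylow subgroups of `H` with `u` central
  have hgood : ∀ T : Subgroup G, Max2 H T → T ≤ centralizer {u} →
      u ∈ pLayerOf 2 (centralizer ((T ⊓ K : Subgroup G) : Set G)) := by
    intro T hT hTc
    have hTX : Max2 (H ⊓ centralizer {u}) T :=
      ⟨le_inf hT.1 hTc, hT.2.1, fun A h1 h2 h3 => hT.2.2 A (h1.trans inf_le_left) h2 h3⟩
    obtain ⟨c, hc, hcT⟩ := hT₀X.conj hTX
    set φ := (MulAut.conj c).toMonoidHom with hφ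
    have hKc : K.map φ = K := mem_normalizer_iff_map_conj_eq.1 (hHN hc.1)
    have h1 : T ⊓ K = S.map φ := by
      rw [← hT₀K, Subgroup.map_inf _ _ _ (MulAut.conj c).injective, hcT, hKc]
    have h2 : centralizer ((S.map φ : Subgroup G) : Set G) = (centralizer (S : Set G)).map φ :=
      (map_centralizer_equiv (MulAut.conj c) S).symm
    rw [h1, h2, pLayerOf_map_of_injective _ (MulAut.conj c).injective]
    refine ⟨u, hu, ?_⟩
    show c * u * c⁻¹ = u
    rw [mem_centralizer_singleton_iff.1 hc.2, mul_inv_cancel_right]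
  -- the action of `N(R)` near `u`
  have hfix : ∀ Q T : Subgroup G, Q ≤ H → IsPGroup 2 Q → u ∈ Q → Max2 H T → T ≤ centralizer {u} → Q ≤ T →
      Max2 (H ⊓ normalizer ((Q ⊓ K : Subgroup G) : Set G)) (T ⊓ normalizer ((Q ⊓ K : Subgroup G) : Set G)) →
      ∀ y ∈ H, y ∈ normalizer (Q : Set G) → y * u = u * y := by
    intro Q T hQH hQ huQ hT hTc hQT hmax y hyH hyQ
    obtain ⟨a, ha, i, rfl⟩ := hdec y hyH
    have hui : u ^ i ∈ normalizer (Q : Set G) := zpow_mem (le_normalizer huQ) i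
    have haQ : a ∈ normalizer (Q : Set G) := by
      simpa using (normalizer (Q : Set G)).mul_mem hyQ (inv_mem hui)
    suffices hau : a * u * a⁻¹ * u⁻¹ = 1 by
      have h : a * u = u * a := mul_inv_eq_iff_eq_mul.1 (mul_inv_eq_one.1 hau)
      exact ((show Commute a u from h).mul_left ((Commute.refl u).zpow_left i)).eq
    set R := Q ⊓ K with hR
    have hmem : a * u * a⁻¹ * u⁻¹ ∈ R := by
      refine ⟨Q.mul_mem ((mem_normalizer_iff.1 haQ u).1 huQ) (Q.inv_mem huQ), ?_⟩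
      rw [show a * u * a⁻¹ * u⁻¹ = a * (u * a⁻¹ * u⁻¹) by group]
      exact K.mul_mem ha ((mem_normalizer_iff.1 huN a⁻¹).1 (K.inv_mem ha))
    rcases eq_or_ne R ⊥ with hbot | hbot
    · rw [hbot, mem_bot] at hmem
      exact hmem
    have hRK : R ≤ K := inf_le_right
    have haR : a ∈ normalizer (R : Set G) :=
      Solvable.mem_normalizer_of_conj_mem fun x hx => by
        rw [hR, mem_inf] at hx ⊢
        exact ⟨(mem_normalizer_iff.1 haQ x).1 hx.1, K.mul_mem (K.mul_mem ha hx.2) (K.inv_mem ha)⟩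
    set Y := normalizer (R : Set G) with hY
    -- the layer of `C(T ∩ K)` inside `N(R)`
    set W := pLayerOf 2 (centralizer ((T ⊓ K : Subgroup G) : Set G)) with hW
    have hWY : W ≤ pLayerOf 2 Y := (hanti R (T ⊓ K) hbot (inf_le_inf_right K hQT) (hT.2.1.to_le inf_le_left)).trans
      (pLayerOf_mono_normal (centralizer_le_normalizer _) (Solvable.normalizer_le_normalizer_centralizer R))
    haveI hSn : ((K ⊓ Y).subgroupOf Y).Normal := by
      refine (normal_subgroupOf_iff_le_normalizer inf_le_right).2 (Solvable.le_normalizer_inf ?_ le_normalizer)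
      exact hNR R hRK hbot
    have hP : Max2 (K ⊓ Y) (T ⊓ K ⊓ Y) := by
      have h1 := hmax.inf_normal (N := K ⊓ Y) (inf_le_inf le_sup_left le_rfl)
        (Solvable.le_normalizer_inf (inf_le_left.trans hHN) (inf_le_right.trans le_normalizer))
      rwa [show T ⊓ Y ⊓ (K ⊓ Y) = T ⊓ K ⊓ Y by rw [inf_inf_inf_comm, inf_idem]] at h1
    have hsub : ∀ A : Subgroup G, A ≤ Y → ((A.subgroupOf Y).map Y.subtype) = A := fun A hA =>
      map_subgroupOf_eq_of_le hA
    have hPY : Max2 ((K ⊓ Y).subgroupOf Y) ((T ⊓ K ⊓ Y).subgroupOf Y) := by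
      refine ⟨comap_mono hP.1, hP.2.1.of_equiv (subgroupOfEquivOfLe inf_le_right).symm, fun A h1 h2 h3 => ?_⟩
      refine map_injective Y.subtype_injective ?_
      rw [hsub _ inf_le_right]
      refine hP.2.2 _ ((map_mono h1).trans (hsub _ inf_le_right).le) (h2.map _) ?_
      rw [← hsub (T ⊓ K ⊓ Y) inf_le_right]
      exact map_mono h3
    have hWYle : W ≤ Y := hWY.trans (pLayerOf_le Y)
    have hcore := commutator_le_core_of_centralizes_sylow (W := W.subgroupOf Y) (fun x hx => by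
        obtain ⟨z, hz, hzx⟩ := hWY hx
        rwa [← Y.subtype_injective hzx]) (map_injective Y.subtype_injective (by
          rw [map_commutator, hsub W hWYle]
          exact commutator_pLayerOf_self _)) (map_injective Y.subtype_injective (by
          rw [map_pElemClosure, hsub W hWYle]
          exact pElemClosure_pLayerOf _)) hPY (fun x hx => mem_centralizer_iff.2 fun v hv => Subtype.ext
            (mem_centralizer_iff.1 (pLayerOf_le _ hx) (v : G) hv.1))
    have huY : u ∈ Y := hWYle (hgood T hT hTc)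
    have hcm := hcore (commutator_mem_commutator (g₁ := ⟨u, huY⟩) (g₂ := ⟨a, haR⟩) (hgood T hT hTc) ⟨ha, haR⟩)
    -- a `2`-element in the core
    have hodd : (orderOf (a * u * a⁻¹ * u⁻¹)).Coprime 2 := by
      have h1 := Subgroup.orderOf_dvd_natCard _ ((oddCore ↥Y).inv_mem hcm)
      rw [← orderOf_coe] at h1
      rw [show ((⁅(⟨u, huY⟩ : Y), ⟨a, haR⟩⁆⁻¹ : Y) : G) = a * u * a⁻¹ * u⁻¹ by
        simp [commutatorElement_def, mul_assoc]] at h1
      exact (coprime_card_pPrimeCore 2).coprime_dvd_left h1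
    obtain ⟨j, hj⟩ := IsPGroup.iff_orderOf.1 hQ ⟨_, hmem.1⟩
    rw [orderOf_mk] at hj
    rw [← orderOf_eq_one_iff]
    exact Nat.eq_one_of_dvd_coprimes (Nat.Coprime.pow_right j hodd) dvd_rfl hj.dvd
  -- `u` is central in every Sylow subgroup containing it
  have hcentral : ∀ T : Subgroup G, Max2 H T → u ∈ T → T ≤ centralizer {u} := by
    by_contra hcon
    push Not at hcon
    obtain ⟨T₁₀, hT₁₀, huT₁₀, hT₁₀c⟩ := hcon
    obtain ⟨⟨T, T₁⟩, ⟨hT, hTc, hT₁, huT₁, hT₁c⟩, hmaxpair⟩ := Set.exists_max_image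
      {P : Subgroup G × Subgroup G | Max2 H P.1 ∧ P.1 ≤ centralizer {u} ∧ Max2 H P.2 ∧ u ∈ P.2 ∧
        ¬ P.2 ≤ centralizer {u}} (fun P => Nat.card ↥(P.1 ⊓ P.2)) (Set.toFinite _)
      ⟨(T₀, T₁₀), hT₀max, hT₀c, hT₁₀, huT₁₀, hT₁₀c⟩
    set Q := T ⊓ T₁ with hQdef
    have hmx : ∀ T' T'' : Subgroup G, Max2 H T' → T' ≤ centralizer {u} → Max2 H T'' → u ∈ T'' → Q < T' ⊓ T'' →
        T'' ≤ centralizer {u} := by
      intro T' T'' h1 h2 h3 h4 h5
      by_contra h6
      have := hmaxpair (T', T'') ⟨h1, h2, h3, h4, h6⟩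
      exact (Set.Finite.card_lt_card (Set.toFinite _) (SetLike.coe_ssubset_coe.2 h5)).not_ge this
    have huT : u ∈ T := by
      have h1 := hT.2.2 (T ⊔ zpowers u) (sup_le hT.1 (zpowers_le.2 huH)) (hT.2.1.to_sup_of_normal_left' hp1
        (zpowers_le.2 (centralizer_le_normalizer _ (mem_centralizer_iff.2 fun t ht =>
          mem_centralizer_singleton_iff.1 (hTc ht))))) le_sup_left
      exact h1.le (mem_sup_right (mem_zpowers u))
    have huQ : u ∈ Q := ⟨huT, huT₁⟩
    have hQT : Q < T := lt_of_le_of_ne inf_le_left fun h =>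
      hT₁c ((hT.2.2 T₁ hT₁.1 hT₁.2.1 (h ▸ inf_le_right)).le.trans hTc)
    have hQT₁ : Q < T₁ := lt_of_le_of_ne inf_le_right fun h => hT₁c (h ▸ inf_le_left.trans hTc)
    set Y := normalizer ((Q ⊓ K : Subgroup G) : Set G) with hY
    have hNQY : H ⊓ normalizer (Q : Set G) ≤ Y := fun y hy => Solvable.mem_normalizer_of_conj_mem fun x hx =>
      ⟨(mem_normalizer_iff.1 hy.2 x).1 hx.1, (mem_normalizer_iff.1 (hHN hy.1) x).1 hx.2⟩
    have hV₀ : Q < T ⊓ Y := lt_of_lt_of_le (lt_inf_normalizer hT.2.1 hQT)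
      (le_inf inf_le_left ((inf_le_inf_right _ hT.1).trans hNQY))
    obtain ⟨V, hV, hV₀V⟩ := exists_max2 (X := H ⊓ Y ⊓ centralizer {u}) (T := T ⊓ Y)
      (le_inf (inf_le_inf_right _ hT.1) (inf_le_left.trans hTc)) (hT.2.1.to_le inf_le_left)
    obtain ⟨T₂, hT₂, hVT₂⟩ := exists_max2 (X := H ⊓ centralizer {u}) (T := V)
      (hV.1.trans (le_inf (inf_le_left.trans inf_le_left) inf_le_right)) hV.2.1
    have hT₂H : Max2 H T₂ :=
      max2_of_card hT (hT₂.1.trans inf_le_left) hT₂.2.1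
        (hT₂.card_le (le_inf hT.1 hTc) hT.2.1)
    have hT₂c : T₂ ≤ centralizer {u} := hT₂.1.trans inf_le_right
    have hVmax : Max2 (H ⊓ Y) V := by
      refine ⟨hV.1.trans inf_le_left, hV.2.1, fun A hA hAp hVA => hV.2.2 A (le_inf hA ?_) hAp hVA⟩
      obtain ⟨T₃, hT₃, hAT₃⟩ := exists_max2 (hA.trans inf_le_left) hAp
      have hQ3 : Q < T₂ ⊓ T₃ := lt_of_lt_of_le (hV₀.trans_le hV₀V) (le_inf hVT₂ (hVA.trans hAT₃))
      exact hAT₃.trans (hmx T₂ T₃ hT₂H hT₂c hT₃ ((hV₀.trans_le (hV₀V.trans (hVA.trans hAT₃))).le huQ) hQ3)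
    have hVeq : T₂ ⊓ Y = V := hVmax.2.2 _ (inf_le_inf_right _ hT₂H.1) (hT₂.2.1.to_le inf_le_left)
      (le_inf hVT₂ (hV.1.trans (inf_le_left.trans inf_le_right)))
    have hNfix : ∀ y ∈ H, y ∈ normalizer (Q : Set G) → y * u = u * y :=
      hfix Q T₂ (inf_le_left.trans hT.1) (hT.2.1.to_le inf_le_left) huQ hT₂H hT₂c
        ((hV₀.trans_le (hV₀V.trans hVT₂)).le) (hVeq.symm ▸ hVmax)
    set Q' := T₁ ⊓ normalizer (Q : Set G) with hQ'
    have hQQ' : Q < Q' := lt_inf_normalizer hT₁.2.1 hQT₁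
    have hQ'c : Q' ≤ centralizer {u} := fun y hy =>
      mem_centralizer_singleton_iff.2 (hNfix y (hT₁.1 hy.1) hy.2)
    obtain ⟨T₄, hT₄, hQ'T₄⟩ := exists_max2 (X := H ⊓ centralizer {u}) (T := Q')
      (le_inf (inf_le_left.trans hT₁.1) hQ'c) (hT₁.2.1.to_le inf_le_left)
    have hT₄H : Max2 H T₄ :=
      max2_of_card hT (hT₄.1.trans inf_le_left) hT₄.2.1 (hT₄.card_le (le_inf hT.1 hTc) hT.2.1)
    exact hT₁c (hmx T₄ T₁ hT₄H (hT₄.1.trans inf_le_right) hT₁ huT₁
      (lt_of_lt_of_le hQQ' (le_inf hQ'T₄ inf_le_left)))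
  -- two conjugates of `u` in one Sylow subgroup are equal
  have hweak : ∀ g ∈ H, ∀ T : Subgroup G, Max2 H T → u ∈ T → g * u * g⁻¹ ∈ T → g * u * g⁻¹ = u := by
    intro g hg T hT huT hu'T
    set u' := g * u * g⁻¹ with hu'
    set T' := T.map (MulAut.conj g⁻¹).toMonoidHom with hT'
    have hT'H : T' ≤ H := by
      rintro _ ⟨t, ht, rfl⟩
      exact H.mul_mem (H.mul_mem (H.inv_mem hg) (hT.1 ht)) (H.inv_mem (H.inv_mem hg))
    have hT'max : Max2 H T' := max2_of_card hT hT'H (hT.2.1.map _) (card_map_conj T _).ge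
    have huT' : u ∈ T' := ⟨u', hu'T, by simp [hu', mul_assoc]⟩
    have hTc : T ≤ centralizer {u} := hcentral T hT huT
    have hTc' : T ≤ centralizer {u'} := by
      intro t ht
      have h1 : g⁻¹ * t * g⁻¹⁻¹ * u = u * (g⁻¹ * t * g⁻¹⁻¹) :=
        mem_centralizer_singleton_iff.1 (hcentral T' hT'max huT' ⟨t, ht, rfl⟩)
      rw [mem_centralizer_singleton_iff]
      calc t * u' = g * (g⁻¹ * t * g⁻¹⁻¹ * u) * g⁻¹ := by rw [hu']; group
        _ = u' * t := by rw [h1, hu']; group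
    set T'' := T.map (MulAut.conj g).toMonoidHom with hT''
    have hX : Max2 (H ⊓ centralizer {u'}) T :=
      ⟨le_inf hT.1 hTc', hT.2.1, fun A h1 h2 h3 => hT.2.2 A (h1.trans inf_le_left) h2 h3⟩
    have hX'' : Max2 (H ⊓ centralizer {u'}) T'' := by
      refine max2_of_card hX ?_ (hT.2.1.map _) (card_map_conj T _).ge
      rintro _ ⟨t, ht, rfl⟩
      refine ⟨H.mul_mem (H.mul_mem hg (hT.1 ht)) (H.inv_mem hg), ?_⟩
      show g * t * g⁻¹ ∈ centralizer {u'}
      rw [mem_centralizer_singleton_iff, hu', show g * t * g⁻¹ * (g * u * g⁻¹) = g * (t * u) * g⁻¹ by group,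
        mem_centralizer_singleton_iff.1 (hTc ht)]
      group
    obtain ⟨c, hc, hcT⟩ := hX''.conj hX
    have hn : c * g ∈ normalizer (T : Set G) := by
      rw [mem_normalizer_iff_map_conj_eq]
      refine Eq.trans ?_ hcT
      rw [hT'', map_map]
      congr 1
      ext y
      simp [mul_assoc]
    have hmax : Max2 (H ⊓ normalizer ((T ⊓ K : Subgroup G) : Set G))
        (T ⊓ normalizer ((T ⊓ K : Subgroup G) : Set G)) := by
      have hle : T ≤ normalizer ((T ⊓ K : Subgroup G) : Set G) :=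
        Solvable.le_normalizer_inf le_normalizer (hT.1.trans hHN)
      rw [inf_eq_left.2 hle]
      exact ⟨le_inf hT.1 hle, hT.2.1, fun A h1 h2 h3 => hT.2.2 A (h1.trans inf_le_left) h2 h3⟩
    have hfixed := hfix T T hT.1 hT.2.1 huT hT hTc le_rfl hmax (c * g) (H.mul_mem hc.1 hg) hn
    have h2 : c * u' * c⁻¹ = u := by
      rw [hu', show c * (g * u * g⁻¹) * c⁻¹ = c * g * u * (c * g)⁻¹ by group, hfixed, mul_inv_cancel_right]
    rwa [mem_centralizer_singleton_iff.1 hc.2, mul_inv_cancel_right] at h2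
  -- a power `z` of `u` acting as an involution
  obtain ⟨j, hzK, hz2K⟩ : ∃ j : ℕ, u ^ 2 ^ j ∉ centralizer (K : Set G) ∧ (u ^ 2 ^ j) ^ 2 ∈ centralizer (K : Set G) := by
    have hex : ∃ m : ℕ, u ^ 2 ^ m ∈ centralizer (K : Set G) :=
      ⟨k, by rw [← huk, pow_orderOf_eq_one]; exact one_mem _⟩
    classical
    rcases Nat.eq_zero_or_pos (Nat.find hex) with h | h
    · exact absurd (by simpa [h] using Nat.find_spec hex) huK
    · refine ⟨Nat.find hex - 1, Nat.find_min hex (by omega), ?_⟩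
      rw [← pow_mul, ← pow_succ, show Nat.find hex - 1 + 1 = Nat.find hex by omega]
      exact Nat.find_spec hex
  set z := u ^ 2 ^ j with hz
  have hzH : z ∈ H := pow_mem huH _
  haveI hCn : ((centralizer (K : Set G)).subgroupOf H).Normal :=
    ⟨fun x hx h => (mem_normalizer_iff.1 (Solvable.normalizer_le_normalizer_centralizer K (hHN h.2)) (x : G)).1 hx⟩
  set π := QuotientGroup.mk' ((centralizer (K : Set G)).subgroupOf H)
  have hπ : ∀ x : H, π x = 1 ↔ (x : G) ∈ centralizer (K : Set G) := fun x => QuotientGroup.eq_one_iff x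
  have hiso : IsIsolatedInvolution (π ⟨z, hzH⟩) := by
    refine ⟨orderOf_eq_prime ?_ fun h => hzK ((hπ _).1 h), fun q hq => ?_⟩
    · rw [← map_pow]
      exact (hπ _).2 hz2K
    obtain ⟨⟨g, hg⟩, rfl⟩ := QuotientGroup.mk'_surjective _ q
    rw [← map_inv, ← map_mul, ← map_mul] at hq ⊢
    set z' := g * z * g⁻¹ with hz'
    have hcomm : z * z' = z' * z := by
      obtain ⟨a, ha, i, rfl⟩ := hdec g hg
      have hz'' : z' = (a * z * a⁻¹ * z⁻¹) * z := by
        rw [hz', hz, inv_mul_cancel_right, mul_inv_rev, show a * u ^ i * u ^ 2 ^ j * ((u ^ i)⁻¹ * a⁻¹)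
          = a * (u ^ i * u ^ 2 ^ j * (u ^ i)⁻¹) * a⁻¹ by group,
          (((Commute.refl u).zpow_left i).pow_right _).eq, mul_inv_cancel_right]
      set κ := a * z * a⁻¹ * z⁻¹ with hκ
      have hzN : z ∈ normalizer (K : Set G) := hHN hzH
      have hκK : κ ∈ K := by
        rw [hκ, show a * z * a⁻¹ * z⁻¹ = a * (z * a⁻¹ * z⁻¹) by group]
        exact K.mul_mem ha ((mem_normalizer_iff.1 hzN _).1 (K.inv_mem ha))
      have h1 : z * z' * z⁻¹ * z'⁻¹ ∈ centralizer (K : Set G) := by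
        have h2 := (hπ (⟨z, hzH⟩ * (⟨_, hg⟩ * ⟨z, hzH⟩ * ⟨_, hg⟩⁻¹) * ⟨z, hzH⟩⁻¹ *
          (⟨_, hg⟩ * ⟨z, hzH⟩ * ⟨_, hg⟩⁻¹)⁻¹ : H)).1 (by
            rw [map_mul, map_mul, map_inv, map_inv, map_mul, hq.eq, mul_inv_cancel_right, mul_inv_cancel])
        exact h2
      have h3 : z * z' * z⁻¹ * z'⁻¹ = z * κ * z⁻¹ * κ⁻¹ := by rw [hz'']; group
      have h4 : z * κ * z⁻¹ * κ⁻¹ = 1 := by
        rw [← mem_bot, ← hZK]
        exact ⟨K.mul_mem ((mem_normalizer_iff.1 hzN κ).1 hκK) (K.inv_mem hκK), h3 ▸ h1⟩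
      rw [← h3] at h4
      exact mul_inv_eq_iff_eq_mul.1 (mul_inv_eq_one.1 h4)
    suffices hzz : z' = z by
      exact congrArg π (Subtype.ext hzz)
    have hz'H : z' ∈ H := H.mul_mem (H.mul_mem hg hzH) (H.inv_mem hg)
    have hpz : IsPGroup 2 (zpowers z) := hp1.to_le (zpowers_le.2 (pow_mem (mem_zpowers u) _))
    have hpz' : IsPGroup 2 (zpowers z') := by
      have := hpz.map (MulAut.conj g).toMonoidHom
      rwa [MonoidHom.map_zpowers] at this
    have hsup : IsPGroup 2 ↥(zpowers z ⊔ zpowers z') := by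
      refine hpz.to_sup_of_normal_left' hpz' ?_
      refine (zpowers_le.2 ?_).trans (centralizer_le_normalizer _)
      rw [mem_centralizer_iff]
      rintro _ ⟨i, rfl⟩
      exact ((show Commute z z' from hcomm).zpow_left i).eq
    have hsupX : zpowers z ⊔ zpowers z' ≤ H ⊓ centralizer {z} := sup_le
      (zpowers_le.2 ⟨hzH, mem_centralizer_singleton_iff.2 rfl⟩)
      (zpowers_le.2 ⟨hz'H, mem_centralizer_singleton_iff.2 hcomm.symm⟩)
    obtain ⟨T₅, hT₅, hle5⟩ := exists_max2 hsupX hsup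
    have hT₀z : Max2 (H ⊓ centralizer {z}) T₀ := by
      refine ⟨le_inf hT₀max.1 fun t ht => ?_, hT₀p, fun A h1 h2 h3 => hT₀max.2.2 A (h1.trans inf_le_left) h2 h3⟩
      rw [mem_centralizer_singleton_iff]
      exact ((show Commute t u from mem_centralizer_singleton_iff.1 (hT₀c ht)).pow_right _).eq
    obtain ⟨c, hc, hcT⟩ := hT₅.conj hT₀z
    have hcz : c * z * c⁻¹ = z := by rw [mem_centralizer_singleton_iff.1 hc.2, mul_inv_cancel_right]
    have hz''T : c * z' * c⁻¹ ∈ T₀ := hcT ▸ ⟨z', hle5 (mem_sup_right (mem_zpowers z')), rfl⟩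
    suffices hs : c * z' * c⁻¹ = z by
      rw [← hcz] at hs
      exact mul_left_cancel (mul_right_cancel hs)
    set g' := c * g with hg'
    set z'' := c * z' * c⁻¹ with hz''
    have hz''eq : z'' = g' * z * g'⁻¹ := by rw [hz'', hz', hg']; group
    set u' := g' * u * g'⁻¹ with hu'
    have hu'pow : u' ^ 2 ^ j = z'' := by rw [hu', conj_pow, hz''eq]
    have hg'H : g' ∈ H := H.mul_mem hc.1 hg
    have hpu' : IsPGroup 2 (zpowers u') := by
      have := hp1.map (MulAut.conj g').toMonoidHom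
      rwa [MonoidHom.map_zpowers] at this
    have huX : zpowers u ≤ H ⊓ centralizer {z''} := zpowers_le.2
      ⟨huH, mem_centralizer_singleton_iff.2 (mem_centralizer_singleton_iff.1 (hT₀c hz''T)).symm⟩
    have hu'X : zpowers u' ≤ H ⊓ centralizer {z''} := zpowers_le.2
      ⟨H.mul_mem (H.mul_mem hg'H huH) (H.inv_mem hg'H), mem_centralizer_singleton_iff.2 (by
        rw [← hu'pow]; exact ((Commute.refl u').pow_right _).eq)⟩
    obtain ⟨T₆, hT₆, hle6⟩ := exists_max2 huX hp1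
    obtain ⟨T₇, hT₇, hle7⟩ := exists_max2 hu'X hpu'
    obtain ⟨d, hd, hdT⟩ := hT₇.conj hT₆
    have hmem6 : d * u' * d⁻¹ ∈ T₆ := hdT ▸ ⟨u', hle7 (mem_zpowers u'), rfl⟩
    obtain ⟨T₈, hT₈, hle8⟩ := exists_max2 (hT₆.1.trans inf_le_left) hT₆.2.1
    have hgg : d * g' * u * (d * g')⁻¹ = u := by
      refine hweak (d * g') (H.mul_mem hd.1 hg'H) T₈ hT₈ (hle8 (hle6 (mem_zpowers u))) ?_
      rw [show d * g' * u * (d * g')⁻¹ = d * u' * d⁻¹ by rw [hu']; group]
      exact hle8 hmem6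
    have hdz : d * z'' * d⁻¹ = z := by
      rw [hz''eq, show d * (g' * z * g'⁻¹) * d⁻¹ = (d * g') * z * (d * g')⁻¹ by group, hz, ← conj_pow, hgg]
    rwa [mem_centralizer_singleton_iff.1 hd.2, mul_inv_cancel_right] at hdz
  -- apply the Z*-theorem
  have hO : oddCore (H ⧸ (centralizer (K : Set G)).subgroupOf H) = ⊥ := by
    rw [eq_bot_iff]
    intro q hq
    obtain ⟨x, rfl⟩ := QuotientGroup.mk'_surjective _ q
    rw [mem_bot, hπ]
    -- the part of the core inside `K`
    set N := ((oddCore (H ⧸ (centralizer (K : Set G)).subgroupOf H)).comap π).map H.subtype ⊓ K with hN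
    have hNn : (N.subgroupOf K).Normal := by
      refine (normal_subgroupOf_iff_le_normalizer inf_le_right).2 (Solvable.le_normalizer_inf ?_ le_normalizer)
      refine (le_sup_left : K ≤ H).trans fun h hh => Solvable.mem_normalizer_of_conj_mem ?_
      rintro _ ⟨y, hy, rfl⟩
      refine ⟨⟨h, hh⟩ * y * ⟨h, hh⟩⁻¹, ?_, rfl⟩
      exact (inferInstance : ((oddCore (H ⧸ (centralizer (K : Set G)).subgroupOf H)).comap π).Normal).conj_mem y hy _
    have hNbot : N = ⊥ := by
      rcases normal_eq_top_or_le_center_of_isQuasisimple hK.2 (N.subgroupOf K) with h | h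
      · exfalso
        have hKN : K ≤ N := subgroupOf_eq_top.1 h
        set f := π.comp (inclusion (le_sup_left : K ≤ H)) with hf
        have hinj : Function.Injective f := by
          rw [injective_iff_map_eq_one]
          intro y hy
          have h1 : (y : G) ∈ K ⊓ centralizer (K : Set G) := ⟨y.2, (hπ _).1 hy⟩
          rw [hZK, mem_bot] at h1
          exact Subtype.ext h1
        have h2 : Nat.card K ∣ Nat.card (oddCore (H ⧸ (centralizer (K : Set G)).subgroupOf H)) := by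
          rw [Nat.card_congr (MonoidHom.ofInjective hinj).toEquiv]
          refine card_dvd_of_le ?_
          rintro _ ⟨y, rfl⟩
          obtain ⟨w, hw, hwy⟩ := (hKN y.2).1
          rw [hf, MonoidHom.comp_apply, show inclusion (le_sup_left : K ≤ H) y = w from Subtype.ext hwy.symm]
          exact hw
        exact (coprime_iff_not_dvd Nat.prime_two _).1 (coprime_card_pPrimeCore 2) (heven.trans h2)
      · rw [eq_bot_iff, ← hZK]
        exact fun y hy => ⟨hy.2, mem_centralizer_iff.2 fun v hv =>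
          congrArg Subtype.val (mem_center_iff.1 (h (show (⟨y, hy.2⟩ : K) ∈ N.subgroupOf K from hy)) ⟨v, hv⟩)⟩
    rw [mem_centralizer_iff]
    intro v hv
    have hm : (x : G) * v * (x : G)⁻¹ * v⁻¹ ∈ N := by
      refine ⟨⟨x * ⟨v, mem_sup_left hv⟩ * x⁻¹ * ⟨v, mem_sup_left hv⟩⁻¹, ?_, rfl⟩,
        K.mul_mem ((mem_normalizer_iff.1 (hHN x.2) v).1 hv) (K.inv_mem hv)⟩
      show π _ ∈ oddCore _
      rw [map_mul, map_mul, map_mul, map_inv, map_inv, mul_assoc, mul_assoc]
      refine Subgroup.mul_mem _ hq ?_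
      rw [← mul_assoc]
      exact (inferInstance : (oddCore (H ⧸ (centralizer (K : Set G)).subgroupOf H)).Normal).conj_mem _
        (Subgroup.inv_mem _ hq) _
    rw [hNbot, mem_bot] at hm
    exact (mul_inv_eq_iff_eq_mul.1 (mul_inv_eq_one.1 hm)).symm
  have hzc := CfsgLib.Invol.zstar_center hiso hO
  refine hzK (mem_centralizer_iff.2 fun v hv => ?_)
  have h1 : z * v * z⁻¹ * v⁻¹ = 1 := by
    rw [← mem_bot, ← hZK]
    refine ⟨K.mul_mem ((mem_normalizer_iff.1 (hHN hzH) v).1 hv) (K.inv_mem hv), ?_⟩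
    have h2 := (hπ (⟨z, hzH⟩ * ⟨v, mem_sup_left hv⟩ * ⟨z, hzH⟩⁻¹ * ⟨v, mem_sup_left hv⟩⁻¹)).1 (by
      rw [map_mul, map_mul, map_mul, map_inv, map_inv,
        ← mem_center_iff.1 hzc (π ⟨v, mem_sup_left hv⟩), mul_inv_cancel_right, mul_inv_cancel])
    exact h2
  exact (mul_inv_eq_iff_eq_mul.1 (mul_inv_eq_one.1 h1)).symm

end CfsgLib.LBalance
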