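import Cfsg.Agent.Lib.Cores.LayerAction
import Cfsg.Agent.Lib.Cores.LBalanceFusion
import Cfsg.Agent.Lib.Local.PComp

/-!
L-balance for the prime `2`: `L_{2'}(C_X(T)) ≤ L_{2'}(X)` for every `2`-subgroup `T` of a finite group `X`.
-/

namespace CfsgLib.LBalance

open Subgroup Cfsg CfsgLib.Cores
open scoped commutatorElement

universe u

variable {G : Type u} [Group G] [Finite G]

/-- The inductive hypothesis: L-balance inside every proper subgroup. -/
def ProperBalanced (G : Type u) [Group G] : Prop :=
  ∀ Y : Subgroup G, Y ≠ ⊤ → ∀ Q : Subgroup G, Q ≤ Y → IsPGroup 2 Q →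
    pLayerOf 2 (Y ⊓ centralizer (Q : Set G)) ≤ pLayerOf 2 Y

/-- L-balance for `G`. -/
def LayerBalanced (G : Type u) [Group G] : Prop :=
  ∀ T : Subgroup G, IsPGroup 2 T → pLayerOf 2 (centralizer (T : Set G)) ≤ pLayer 2 G

/-- `L(C(S)) ≤ L(C(R))` for `1 ≠ R ≤ S`. -/
theorem antitone (hIH : ProperBalanced G) (hN : ∀ R : Subgroup G, IsPGroup 2 R → R ≠ ⊥ → normalizer (R : Set G) ≠ ⊤) :
    ∀ R S : Subgroup G, R ≠ ⊥ → R ≤ S → IsPGroup 2 S →
      pLayerOf 2 (centralizer (S : Set G)) ≤ pLayerOf 2 (centralizer (R : Set G)) := by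
  intro R
  induction hm : Nat.card G - Nat.card R using Nat.strong_induction_on generalizing R with
  | _ m ih =>
  subst hm
  intro S hR hRS hS
  rcases eq_or_lt_of_le hRS with rfl | hlt
  · exact le_rfl
  set Q := S ⊓ normalizer (R : Set G) with hQ
  have hRQ : R < Q := lt_inf_normalizer hS hlt
  have hQbot : Q ≠ ⊥ := fun h => hR (le_bot_iff.1 (h ▸ hRQ.le))
  have hcard : Nat.card R < Nat.card Q := Set.Finite.card_lt_card (Set.toFinite _) (SetLike.coe_ssubset_coe.2 hRQ)
  have hQG := card_le_card_group Q
  refine (ih _ (by omega) Q rfl S hQbot inf_le_left hS).trans ?_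
  have hRp : IsPGroup 2 R := hS.to_le hRS
  set Y := normalizer (R : Set G) with hY
  have hCY : centralizer (Q : Set G) ≤ Y :=
    (centralizer_le (SetLike.coe_subset_coe.2 hRQ.le)).trans (centralizer_le_normalizer _)
  have h1 := hIH Y (hN R hRp hR) Q inf_le_right (hS.to_le inf_le_left)
  rw [inf_eq_right.2 hCY] at h1
  refine h1.trans (pLayerOf_le_pLayerOf (centralizer_le_normalizer _) ?_)
  exact pLayerOf_le_centralizer hRp le_normalizer le_rfl

/-- A subgroup generated by `2`-elements inside `X` times an odd order group lies in `X`. -/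
theorem le_of_le_sup_odd {X M O : Subgroup G} (hgen : pElemClosure 2 M = M)
    (hO : (Nat.card O).Coprime 2) (hON : O ≤ normalizer (X : Set G)) (hle : M ≤ X ⊔ O) : M ≤ X := by
  set N := normalizer (X : Set G)
  set π := QuotientGroup.mk' (X.subgroupOf N)
  have hMN : M ≤ N := hle.trans (sup_le le_normalizer hON)
  have hgen' : pElemClosure 2 (M.subgroupOf N) = M.subgroupOf N := map_injective N.subtype_injective (by
    rw [map_pElemClosure, map_subgroupOf_eq_of_le hMN, hgen])
  have hO' : (Nat.card ↥((O.subgroupOf N).map π)).Coprime 2 := by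
    refine Nat.Coprime.coprime_dvd_left (card_map_dvd _ _) ?_
    rwa [Nat.card_congr (subgroupOfEquivOfLe hON).toEquiv]
  have h := map_pElemClosure_eq_bot hgen' π hO' ?_
  · rw [Subgroup.map_eq_bot_iff, QuotientGroup.ker_mk'] at h
    exact fun x hx => h (show (⟨x, hMN hx⟩ : N) ∈ M.subgroupOf N from hx)
  · rintro _ ⟨⟨x, hxN⟩, hx, rfl⟩
    obtain ⟨a, ha, b, hb, rfl⟩ := Solvable.exists_mul_of_mem_sup hON (hle hx)
    refine ⟨⟨b, hON hb⟩, hb, ?_⟩
    refine (QuotientGroup.eq (s := X.subgroupOf N)).2 ?_
    show b⁻¹ * (a * b) ∈ X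
    have := (mem_normalizer_iff.1 (Subgroup.inv_mem _ (hON hb)) a).1 ha
    simpa [mul_assoc] using this

/-- The subgroup inducing inner automorphisms on `K`. -/
def innerPart (K : Subgroup G) : Subgroup G := K ⊔ centralizer (K : Set G)

omit [Finite G] in
theorem innerPart_le_normalizer (K : Subgroup G) : innerPart K ≤ normalizer (K : Set G) :=
  sup_le le_normalizer (centralizer_le_normalizer _)

theorem normalizer_le_normalizer_innerPart (K : Subgroup G) :
    normalizer (K : Set G) ≤ normalizer ((innerPart K : Subgroup G) : Set G) := by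
  intro g hg
  rw [innerPart, mem_normalizer_iff_map_conj_eq, Subgroup.map_sup, mem_normalizer_iff_map_conj_eq.1 hg,
    mem_normalizer_iff_map_conj_eq.1 (Solvable.normalizer_le_normalizer_centralizer K hg)]

/-- L-balance when `O(G) = 1 = O_2(G)`. -/
theorem layerBalanced_reduced (hO : oddCore G = ⊥) (hP : pCore 2 G = ⊥) (hIH : ProperBalanced G) :
    LayerBalanced G := by
  intro T hT
  rcases eq_or_ne T ⊥ with rfl | hTbot
  · have : centralizer ((⊥ : Subgroup G) : Set G) = ⊤ := by ext x; simp [mem_centralizer_iff]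
    rw [this, pLayerOf_top]
  have hN : ∀ R : Subgroup G, IsPGroup 2 R → R ≠ ⊥ → normalizer (R : Set G) ≠ ⊤ := fun R hR hR1 h => by
    haveI := normalizer_eq_top_iff.1 h
    exact hR1 (le_bot_iff.1 (hP ▸ le_pCore hR))
  have hanti := antitone hIH hN
  -- components
  have hZ : layerCenter G = ⊥ := le_bot_iff.1 (hP ▸ layerCenter_le_pCore hO)
  have hZK : ∀ K : Subgroup G, IsComponent K → K ⊓ centralizer (K : Set G) = ⊥ := fun K hK => by
    rw [eq_bot_iff, ← hZ]
    exact fun z hz => mem_layerCenter_of_commute hK hz.1 fun l hl => (mem_centralizer_iff.1 hz.2 l hl).symm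
  have hKcomm : ∀ K K' : Subgroup G, IsComponent K → IsComponent K' → K ≠ K' → K' ≤ centralizer (K : Set G) :=
    fun K K' hK hK' hne => commutator_eq_bot_iff_le_centralizer.1 (commutator_components_eq_bot hK' hK hne.symm)
  have hNR : ∀ K : Subgroup G, IsComponent K → ∀ R : Subgroup G, R ≤ K → R ≠ ⊥ →
      normalizer (R : Set G) ≤ normalizer (K : Set G) := by
    intro K hK R hRK hR g hg
    rw [← map_conj_eq_self_iff]
    by_contra hne
    obtain ⟨r, hr, hr1⟩ : ∃ r ∈ R, r ≠ 1 := by
      by_contra h
      push Not at h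
      exact hR ((eq_bot_iff_forall R).2 h)
    have h1 : g * r * g⁻¹ ∈ K.map (MulAut.conj g).toMonoidHom := ⟨r, hRK hr, rfl⟩
    have h2 : g * r * g⁻¹ ∈ K := hRK ((mem_normalizer_iff.1 hg r).1 hr)
    have h3 : g * r * g⁻¹ ∈ K ⊓ centralizer (K : Set G) :=
      ⟨h2, hKcomm K _ hK (isComponent_conj hK g) (Ne.symm hne) h1⟩
    rw [hZK K hK, mem_bot] at h3
    exact hr1 (conj_eq_one_iff.1 h3)
  -- the layer of a `2`-local fixes every component
  have hfix : ∀ Q : Subgroup G, IsPGroup 2 Q → ∀ K : Subgroup G, IsComponent K →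
      pLayerOf 2 (normalizer (Q : Set G)) ≤ normalizer (K : Set G) := by
    intro Q hQ K hK
    refine le_trans ?_ (comap_layer_normalizer_le_normalizer_component (p := 2) hO hQ hK)
    refine map_mono ?_
    rw [← map_mk'_pLayer]
    exact le_comap_map _ _
  have hfixC : ∀ Q : Subgroup G, IsPGroup 2 Q → ∀ K : Subgroup G, IsComponent K →
      pLayerOf 2 (centralizer (Q : Set G)) ≤ normalizer (K : Set G) := fun Q hQ K hK =>
    (pLayerOf_mono_normal (centralizer_le_normalizer _) (Solvable.normalizer_le_normalizer_centralizer Q)).trans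
      (hfix Q hQ K hK)
  -- the layer of `C(R)`, `R` inside a component, acts on it by inner automorphisms
  have hinner : ∀ K : Subgroup G, IsComponent K → ∀ R : Subgroup G, R ≤ K → IsPGroup 2 R → R ≠ ⊥ →
      pLayerOf 2 (centralizer (R : Set G)) ≤ innerPart K := by
    intro K hK R
    induction hm : Nat.card G - Nat.card R using Nat.strong_induction_on generalizing R with
    | _ m ih =>
    subst hm
    intro hRK hRp hR
    by_cases hmax : Max2 K R
    · rw [← pElemClosure_pLayerOf (centralizer (R : Set G)), pElemClosure, closure_le]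
      rintro u ⟨hu, k, hk⟩
      exact mem_sup_right (mem_centralizer_of_mem_layer hK (hZK K hK) (dvd_card_component hO hK) hanti (hNR K hK)
        hmax hu hk)
    obtain ⟨S, hS, hRS⟩ := exists_max2 hRK hRp
    have hlt : R < S := lt_of_le_of_ne hRS fun h => hmax (h ▸ hS)
    set Q := S ⊓ normalizer (R : Set G) with hQ
    have hRQ : R < Q := lt_inf_normalizer hS.2.1 hlt
    have hQp : IsPGroup 2 Q := hS.2.1.to_le inf_le_left
    have hQbot : Q ≠ ⊥ := fun h => hR (le_bot_iff.1 (h ▸ hRQ.le))
    have hcard : Nat.card R < Nat.card Q := Set.Finite.card_lt_card (Set.toFinite _) (SetLike.coe_ssubset_coe.2 hRQ)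
    have hQG := card_le_card_group Q
    have hQX := ih _ (by omega) Q rfl (inf_le_left.trans hS.1) hQp hQbot
    set Y := normalizer (R : Set G) with hY
    refine (pLayerOf_mono_normal (centralizer_le_normalizer _) (Solvable.normalizer_le_normalizer_centralizer R)).trans ?_
    rw [pLayerOf, map_le_iff_le_comap, pLayer_le_iff]
    intro M hM
    rw [← map_le_iff_le_comap]
    haveI : ((K ⊓ Y).subgroupOf Y).Normal := (normal_subgroupOf_iff_le_normalizer inf_le_right).2
      (Solvable.le_normalizer_inf (hNR K hK R hRK hR) le_normalizer)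
    rcases pComponent_le_or_commutator_le hM (Normal.isSubnormal inferInstance : ((K ⊓ Y).subgroupOf Y).IsSubnormal)
      with h | h
    · refine (map_mono h).trans ?_
      rw [map_subgroupOf_eq_of_le inf_le_right]
      exact inf_le_left.trans le_sup_left
    have hQY : Q ≤ Y := inf_le_right
    have h2 := pComponentOf_le_sup_core hQp hQY hM ((commutator_mono le_rfl
      (comap_mono (le_inf (inf_le_left.trans hS.1) hQY))).trans h)
    rw [inf_eq_right.2 ((centralizer_le (SetLike.coe_subset_coe.2 hRQ.le)).trans (centralizer_le_normalizer _))] at h2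
    refine le_of_le_sup_odd (by rw [← map_pElemClosure, pElemClosure_pComponent hM]) (card_map_pPrimeCore_coprime _)
      ((map_subtype_le _).trans ((hNR K hK R hRK hR).trans (normalizer_le_normalizer_innerPart K)))
      (h2.trans (sup_le_sup_right hQX _))
  -- elements inducing inner automorphisms on every component lie in the layer
  have hCE : centralizer (layer G : Set G) = ⊥ := by
    have hF : fittingSubgroup G = ⊥ := fittingSubgroup_eq_bot_iff_pCore.2 fun q hq => by
      rcases eq_or_ne q 2 with rfl | hq2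
      · exact hP
      haveI : Fact q.Prime := ⟨hq⟩
      rw [eq_bot_iff, ← hO]
      refine le_pPrimeCore ?_
      obtain ⟨k, hk⟩ := IsPGroup.iff_card.1 (isPGroup_pCore (G := G) q)
      rw [hk]
      exact Nat.Coprime.pow_left k ((Nat.coprime_primes hq Nat.prime_two).2 hq2)
    have hgf : generalizedFittingSubgroup G = layer G := by rw [generalizedFittingSubgroup, hF, sup_bot_eq]
    have h1 := centralizer_generalizedFittingSubgroup_le (G := G)
    rw [hgf] at h1
    rw [eq_bot_iff, ← hZ, layerCenter, map_center_eq_inf_centralizer]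
    exact le_inf h1 le_rfl
  have hall : ∀ g : G, (∀ K : Subgroup G, IsComponent K → g ∈ innerPart K) → g ∈ layer G := by
    intro g hg
    have hEX : ∀ K : Subgroup G, IsComponent K → layer G ≤ innerPart K := fun K hK => layer_le_iff.2 fun L hL => by
      rcases eq_or_ne K L with rfl | h
      · exact le_sup_left
      · exact (hKcomm K L hK hL h).trans le_sup_right
    classical
    have hstep : ∀ s : Finset (Subgroup G), (∀ K ∈ s, IsComponent K) →
        ∃ e ∈ layer G, ∀ K ∈ s, e⁻¹ * g ∈ centralizer (K : Set G) := by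
      intro s
      induction s using Finset.induction with
      | empty => exact fun _ => ⟨1, one_mem _, by simp⟩
      | insert K s hKs ih =>
        intro hcomp
        obtain ⟨e, he, hes⟩ := ih fun L hL => hcomp L (Finset.mem_insert_of_mem hL)
        have hK := hcomp K (Finset.mem_insert_self K s)
        obtain ⟨a, ha, c, hc, hac⟩ := Solvable.exists_mul_of_mem_sup (centralizer_le_normalizer (K : Set G))
          ((innerPart K).mul_mem ((innerPart K).inv_mem (hEX K hK he)) (hg K hK))
        refine ⟨e * a, mul_mem he (component_le_layer hK ha), fun L hL => ?_⟩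
        rw [show (e * a)⁻¹ * g = a⁻¹ * (e⁻¹ * g) by group]
        rcases Finset.mem_insert.1 hL with rfl | hL'
        · rwa [hac, inv_mul_cancel_left]
        · refine Subgroup.mul_mem _ (Subgroup.inv_mem _ ?_) (hes L hL')
          exact hKcomm L K (hcomp L hL) hK (fun h => hKs (h ▸ hL')) ha
    have := Fintype.ofFinite (Subgroup G)
    obtain ⟨e, he, hes⟩ := hstep (Finset.univ.filter fun K : Subgroup G => IsComponent K)
      fun K hK => (Finset.mem_filter.1 hK).2
    have h1 : e⁻¹ * g ∈ centralizer (layer G : Set G) := by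
      rw [mem_centralizer_iff]
      intro x hx
      have hle : layer G ≤ centralizer {e⁻¹ * g} := layer_le_iff.2 fun K hK => fun y hy => by
        rw [mem_centralizer_singleton_iff]
        exact mem_centralizer_iff.1 (hes K (Finset.mem_filter.2 ⟨Finset.mem_univ K, hK⟩)) y hy
      exact mem_centralizer_singleton_iff.1 (hle hx)
    rw [hCE, mem_bot, inv_mul_eq_one] at h1
    exact h1 ▸ he
  -- components of `L(C(T))`
  have hlayer : pLayer 2 G = layer G := by
    apply le_antisymm
    · haveI : (layer G).Normal := layer_normal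
      refine pLayer_le_iff.2 fun L hL => ?_
      rcases pComponent_le_or_commutator_le hL (Normal.isSubnormal inferInstance : (layer G).IsSubnormal) with h | h
      · exact h
      · exfalso
        rw [show pPrimeCore 2 G = ⊥ from hO] at h
        have h2 : L ≤ centralizer (layer G : Set G) := commutator_eq_bot_iff_le_centralizer.1 (le_bot_iff.1 h)
        rw [hCE, le_bot_iff] at h2
        exact component_ne_bot hL.2.1 (by rw [h2, Subgroup.map_bot])
    · refine layer_le_iff.2 fun L hL => pComponent_le_pLayer (isPComponent_of_isComponent hL ?_)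
      rw [show pPrimeCore 2 G = ⊥ from hO]
      exact fun h => component_ne_bot hL (le_bot_iff.1 h)
  rw [hlayer]
  set Y := centralizer (T : Set G) with hY
  rw [pLayerOf, map_le_iff_le_comap, pLayer_le_iff]
  intro M hM
  rw [← map_le_iff_le_comap]
  haveI : (layer G).Normal := layer_normal
  rcases pComponent_le_or_commutator_le hM
    (Normal.isSubnormal inferInstance : ((layer G).subgroupOf Y).IsSubnormal) with h | hMc
  · exact (map_mono h).trans ((map_mono le_rfl).trans (map_comap_le _ _))
  refine fun g hg => hall g fun K hK => ?_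
  -- a nontrivial fixed `2`-element of the orbit product of `K`
  set W := orbitProd T K with hW
  obtain ⟨r, hrW, hrT, hr⟩ : ∃ r ∈ W, r ∈ centralizer (T : Set G) ∧ orderOf r = 2 := by
    have hTW : T ≤ normalizer (W : Set G) := by
      refine CfsgLib.Solvable.le_normalizer_of_conj_mem fun t ht x hx => ?_
      have hle : W.map (MulAut.conj t).toMonoidHom ≤ W := by
        rw [hW, orbitProd, hZ, sup_bot_eq, Subgroup.map_iSup]
        refine iSup_le fun s => le_iSup_of_le ⟨t * s, T.mul_mem ht s.2⟩ ?_
        rw [map_conj_mul]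
      exact hle ⟨x, hx, rfl⟩
    obtain ⟨y, hyW, hyZ, hyN, j, hj⟩ := exists_orbit_pElem (p := 2) hO hT hK
    rw [hZ, sup_bot_eq] at hyN
    rw [hZ, mem_bot] at hyZ
    by_cases hmeet : T ⊓ W = ⊥
    · have hyc : y ∈ centralizer (T : Set G) := by
        rw [mem_centralizer_iff]
        intro t ht
        have : y * t * y⁻¹ * t⁻¹ ∈ T ⊓ W := by
          refine ⟨T.mul_mem ((mem_normalizer_iff.1 hyN t).1 ht) (T.inv_mem ht), ?_⟩
          rw [show y * t * y⁻¹ * t⁻¹ = y * (t * y⁻¹ * t⁻¹) by group]
          exact W.mul_mem hyW ((mem_normalizer_iff.1 (hTW ht) _).1 (W.inv_mem hyW))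
        rw [hmeet, mem_bot] at this
        exact (mul_inv_eq_iff_eq_mul.1 (mul_inv_eq_one.1 this)).symm
      rcases Nat.eq_zero_or_pos j with rfl | hj0
      · exact absurd (orderOf_eq_one_iff.1 (by rw [hj, pow_zero])) hyZ
      · refine ⟨y ^ 2 ^ (j - 1), W.pow_mem hyW _, Subgroup.pow_mem _ hyc _, ?_⟩
        rw [orderOf_pow' y (by positivity), hj, Nat.gcd_eq_right (pow_dvd_pow 2 (Nat.sub_le j 1)),
          Nat.pow_div (Nat.sub_le j 1) two_pos, show j - (j - 1) = 1 by omega, pow_one]
    · have hn : ((T ⊓ W).subgroupOf T).Normal :=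
        (normal_subgroupOf_iff_le_normalizer inf_le_left).2 (Solvable.le_normalizer_inf le_normalizer hTW)
      have hne : (T ⊓ W).subgroupOf T ≠ ⊥ := by
        rw [Ne, subgroupOf_eq_bot, disjoint_iff, inf_eq_left.2 inf_le_left]
        exact hmeet
      obtain ⟨Z, hZle, hZc, -, hZcard⟩ := CfsgLib.PGroup.exists_card_eq_le_center hT ((T ⊓ W).subgroupOf T) hne
      obtain ⟨z, hz⟩ := exists_prime_orderOf_dvd_card' (G := Z) 2 (by rw [hZcard])
      refine ⟨((z : T) : G), (hZle z.2).2, mem_centralizer_iff.2 fun t ht => ?_, by rw [orderOf_coe, orderOf_coe, hz]⟩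
      exact congrArg Subtype.val (mem_center_iff.1 (hZc z.2) ⟨t, ht⟩)
  -- its projection on `K`
  have hWE : W ≤ layer G := orbitProd_le_layer hK
  obtain ⟨a, ha, c, hc, hac⟩ := Solvable.exists_mul_of_mem_sup (centralizer_le_normalizer (K : Set G))
    (show r ∈ K ⊔ centralizer (K : Set G) from (layer_le_iff.2 fun L hL => by
      rcases eq_or_ne K L with rfl | h
      · exact le_sup_left
      · exact (hKcomm K L hK hL h).trans le_sup_right) (hWE hrW))
  have huniq : ∀ a' ∈ K, ∀ c' ∈ centralizer (K : Set G), a' * c' = a * c → a' = a := by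
    intro a' ha' c' hc' he
    have h1 : a⁻¹ * a' = c * c'⁻¹ := by
      rw [eq_mul_inv_iff_mul_eq, mul_assoc, he, inv_mul_cancel_left]
    have h2 : a⁻¹ * a' ∈ K ⊓ centralizer (K : Set G) :=
      ⟨K.mul_mem (K.inv_mem ha) ha', h1 ▸ Subgroup.mul_mem _ hc (Subgroup.inv_mem _ hc')⟩
    rw [hZK K hK, mem_bot, inv_mul_eq_one] at h2
    exact h2.symm
  have hac' : a * c = c * a := mem_centralizer_iff.1 hc a ha
  have ha2 : a ^ 2 = 1 := by
    have h1 : a ^ 2 ∈ K ⊓ centralizer (K : Set G) := by
      refine ⟨K.pow_mem ha 2, ?_⟩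
      have : a ^ 2 = (c ^ 2)⁻¹ := eq_inv_of_mul_eq_one_left (by
        rw [← (show Commute a c from hac').mul_pow, ← hac, ← hr, pow_orderOf_eq_one])
      rw [this]
      exact Subgroup.inv_mem _ (Subgroup.pow_mem _ hc 2)
    rw [hZK K hK, mem_bot] at h1
    exact h1
  have ha1 : a ≠ 1 := by
    intro ha0
    -- then `r` commutes with the whole orbit product
    have hrK : r ∈ centralizer (K : Set G) := by rw [hac, ha0, one_mul]; exact hc
    have hWr : W ≤ centralizer {r} := by
      rw [hW, orbitProd, hZ, sup_bot_eq]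
      refine iSup_le fun s => ?_
      rintro _ ⟨x, hx, rfl⟩
      rw [mem_centralizer_singleton_iff]
      show (s : G) * x * (s : G)⁻¹ * r = r * ((s : G) * x * (s : G)⁻¹)
      have hsr : (s : G)⁻¹ * r = r * (s : G)⁻¹ := mem_centralizer_iff.1 hrT _ (T.inv_mem s.2)
      have hxr : x * r = r * x := mem_centralizer_iff.1 hrK x hx
      have hsr' : (s : G) * r = r * s := mem_centralizer_iff.1 hrT _ s.2
      calc (s : G) * x * (s : G)⁻¹ * r = (s : G) * (x * r) * (s : G)⁻¹ := by rw [mul_assoc _ _ r, hsr]; group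
        _ = ((s : G) * r) * x * (s : G)⁻¹ := by rw [hxr]; group
        _ = r * ((s : G) * x * (s : G)⁻¹) := by rw [hsr']; group
    have h1 : r ∈ layerCenter G := by
      rw [layerCenter, map_center_eq_inf_centralizer]
      refine ⟨hWE hrW, mem_centralizer_iff.2 fun e he => ?_⟩
      have hle : layer G ≤ centralizer {r} := layer_le_iff.2 fun L hL => by
        by_cases h : ∃ s : T, K.map (MulAut.conj (s : G)).toMonoidHom = L
        · obtain ⟨s, rfl⟩ := h
          exact le_trans (le_trans (le_iSup (fun s : T => K.map (MulAut.conj (s : G)).toMonoidHom) s) le_sup_left) hWr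
        · push Not at h
          intro y hy
          rw [mem_centralizer_singleton_iff]
          have hle2 : W ≤ centralizer {y} := by
            rw [hW, orbitProd, hZ, sup_bot_eq]
            refine iSup_le fun s x hx => mem_centralizer_singleton_iff.2 ?_
            exact (mem_centralizer_iff.1 (hKcomm _ L (isComponent_conj hK _) hL (h s) hy) x hx)
          exact (mem_centralizer_singleton_iff.1 (hle2 hrW)).symm
      exact mem_centralizer_singleton_iff.1 (hle he)
    rw [hZ, mem_bot] at h1
    rw [h1, orderOf_one] at hr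
    norm_num at hr
  have hr2 : IsPGroup 2 (zpowers r) := IsPGroup.of_card (n := 1) (by rw [Nat.card_zpowers, hr, pow_one])
  -- `L(C(r))` centralizes the projection
  have hrLa : pLayerOf 2 (centralizer (zpowers r : Set G)) ≤ centralizer {a} := by
    intro m hm
    have hmN : m ∈ normalizer (K : Set G) := hfixC _ hr2 K hK hm
    have hmr : m * r * m⁻¹ = r := by
      rw [← mem_centralizer_iff.1 (pLayerOf_le _ hm) r (mem_zpowers r), mul_inv_cancel_right]
    have h1 : m * a * m⁻¹ = a := huniq _ ((mem_normalizer_iff.1 hmN a).1 ha) (m * c * m⁻¹)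
      ((mem_normalizer_iff.1 (Solvable.normalizer_le_normalizer_centralizer K hmN) c).1 hc)
      (by rw [← hac, ← hmr, hac]; group)
    exact mem_centralizer_singleton_iff.2 (mul_inv_eq_iff_eq_mul.1 h1)
  set Q₂ := zpowers a ⊔ zpowers r with hQ₂
  have har : a * r = r * a := by rw [hac, ← mul_assoc, mul_assoc a c a, ← hac', ← mul_assoc]
  have hQ₂p : IsPGroup 2 Q₂ := by
    refine (IsPGroup.of_card (n := 1) (by rw [Nat.card_zpowers, orderOf_eq_prime ha2 ha1, pow_one]) :
      IsPGroup 2 (zpowers a)).to_sup_of_normal_left' hr2 ?_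
    refine (zpowers_le.2 ?_).trans (centralizer_le_normalizer _)
    rw [mem_centralizer_iff]
    rintro _ ⟨i, rfl⟩
    exact ((show Commute a r from har).zpow_left i).eq
  have hLr : pLayerOf 2 (centralizer (zpowers r : Set G)) ≤ innerPart K := by
    refine (pLayerOf_le_pLayerOf (X := centralizer (Q₂ : Set G))
      (centralizer_le (SetLike.coe_subset_coe.2 le_sup_right)) ?_).trans
      ((hanti _ Q₂ (fun h => ha1 (zpowers_eq_bot.1 h)) le_sup_left hQ₂p).trans
        (hinner K hK _ (zpowers_le.2 ha) (hQ₂p.to_le le_sup_left) fun h => ha1 (zpowers_eq_bot.1 h)))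
    intro m hm
    have h1 : Q₂ ≤ centralizer {m} := sup_le
      (zpowers_le.2 (mem_centralizer_singleton_iff.2 (mem_centralizer_singleton_iff.1 (hrLa hm)).symm))
      (zpowers_le.2 (mem_centralizer_singleton_iff.2 (mem_centralizer_iff.1 (pLayerOf_le _ hm) r (mem_zpowers r))))
    exact mem_centralizer_iff.2 fun q hq => mem_centralizer_singleton_iff.1 (h1 hq)
  have hrY : zpowers r ≤ Y := zpowers_le.2 hrT
  have hTr : IsPGroup 2 ↥(T ⊔ zpowers r) :=
    hT.to_sup_of_normal_left' hr2 (hrY.trans (centralizer_le_normalizer _))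
  have hcover := pComponentOf_le_sup_core hr2 hrY hM ((commutator_mono le_rfl
    (comap_mono (zpowers_le.2 (hWE hrW) : zpowers r ≤ layer G))).trans hMc)
  have hYr : Y ⊓ centralizer (zpowers r : Set G) = centralizer ((T ⊔ zpowers r : Subgroup G) : Set G) := by
    apply le_antisymm
    · intro x hx
      rw [mem_centralizer_iff]
      have hle : T ⊔ zpowers r ≤ centralizer {x} := sup_le
        (fun t ht => mem_centralizer_singleton_iff.2 (mem_centralizer_iff.1 hx.1 t ht))
        (fun t ht => mem_centralizer_singleton_iff.2 (mem_centralizer_iff.1 hx.2 t ht))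
      exact fun t ht => mem_centralizer_singleton_iff.1 (hle ht)
    · exact le_inf (centralizer_le (SetLike.coe_subset_coe.2 le_sup_left))
        (centralizer_le (SetLike.coe_subset_coe.2 le_sup_right))
  rw [hYr] at hcover
  set LQ := pLayerOf 2 (centralizer ((T ⊔ zpowers r : Subgroup G) : Set G)) with hLQ
  have hLQX : LQ ≤ innerPart K := (hanti _ _ (fun h => by
    rw [zpowers_eq_bot] at h
    rw [h, orderOf_one] at hr
    norm_num at hr) le_sup_right hTr).trans hLr
  have hMN : M.map Y.subtype ≤ normalizer (K : Set G) :=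
    (map_mono (pComponent_le_pLayer hM)).trans (hfixC T hT K hK)
  set O := (pPrimeCore 2 Y).map Y.subtype with hOdef
  have hLQO : LQ ≤ normalizer (O : Set G) := by
    refine (pLayerOf_le _).trans (le_trans ?_ (fun y hy => mem_normalizer_pPrimeCore_map (p := 2) (H := Y) (le_normalizer hy)))
    exact centralizer_le (SetLike.coe_subset_coe.2 le_sup_left)
  refine le_of_le_sup_odd (X := innerPart K) (O := O ⊓ normalizer (K : Set G))
    (by rw [← map_pElemClosure, pElemClosure_pComponent hM])
    ((card_map_pPrimeCore_coprime Y).coprime_dvd_left (card_dvd_of_le inf_le_left))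
    (inf_le_right.trans (normalizer_le_normalizer_innerPart K)) (fun x hx => ?_) hg
  obtain ⟨o, ho, l, hl, rfl⟩ := Solvable.exists_mul_of_mem_sup hLQO
    (sup_comm LQ O ▸ hcover hx : x ∈ O ⊔ LQ)
  refine Subgroup.mul_mem _ (mem_sup_right ⟨ho, ?_⟩) (mem_sup_left (hLQX hl))
  simpa using (normalizer (K : Set G)).mul_mem (hMN hx) ((normalizer (K : Set G)).inv_mem
    (innerPart_le_normalizer K (hLQX hl)))

/-- A perfect subgroup inside a normal subgroup times a solvable one lies in the normal subgroup. -/
theorem le_of_perfect_of_le_sup {L C T : Subgroup G} [C.Normal] (hperf : ⁅L, L⁆ = L) (hT : IsPGroup 2 T)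
    (h : L ≤ C ⊔ T) : L ≤ C := by
  set π := QuotientGroup.mk' C
  have h1 : L.map π ≤ T.map π := by
    refine (map_mono h).trans ?_
    rw [Subgroup.map_sup, (Subgroup.map_eq_bot_iff C).2 (QuotientGroup.ker_mk' C).ge, bot_sup_eq]
  haveI := ((hT.map π).to_le h1).isNilpotent
  by_contra hne
  have hbot : L.map π ≠ ⊥ := by rwa [Ne, Subgroup.map_eq_bot_iff, QuotientGroup.ker_mk']
  have h2 := CfsgLib.Solvable.commutator_self_lt (H := L.map π) inferInstance hbot
  rw [← map_commutator, hperf] at h2
  exact lt_irrefl _ h2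

/-- Dividing by a central subgroup of order two keeps the core trivial. -/
theorem oddCore_quotient_central {X : Type u} [Group X] [Finite X] (hO : oddCore X = ⊥) {Z : Subgroup X} [Z.Normal]
    (hZc : Z ≤ center X) (hZ2 : Nat.card Z = 2) : oddCore (X ⧸ Z) = ⊥ := by
  set π := QuotientGroup.mk' Z
  set N := (oddCore (X ⧸ Z)).comap π with hN
  have hZN : Z ≤ N := (QuotientGroup.ker_mk' Z).ge.trans (MonoidHom.ker_le_comap π _)
  have hNle : N ≤ Z := by
    have hidx : Z.relIndex N = Nat.card (oddCore (X ⧸ Z)) := by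
      have h5 : π.ker.relIndex N = Nat.card (N.map π) := relIndex_ker N π
      rwa [QuotientGroup.ker_mk', hN, map_comap_eq_self_of_surjective (QuotientGroup.mk'_surjective _)] at h5
    haveI hZN' : (Z.subgroupOf N).Normal := inferInstance
    have hcop : Nat.Coprime (Nat.card (Z.subgroupOf N)) (Z.subgroupOf N).index := by
      rw [Nat.card_congr (subgroupOfEquivOfLe hZN).toEquiv, hZ2]
      show Nat.Coprime 2 (Z.relIndex N)
      rw [hidx]
      exact (coprime_card_pPrimeCore 2).symm
    obtain ⟨D, hD⟩ := Subgroup.exists_right_complement'_of_coprime hcop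
    have hDcard : (Nat.card D).Coprime 2 := by
      have h3 : (Z.subgroupOf N).index = Nat.card D := hD.symm.index_eq_card
      rw [← h3]
      show (Z.relIndex N).Coprime 2
      rw [hidx]
      exact coprime_card_pPrimeCore 2
    -- odd order elements lie in the complement
    have hDn : ((D.map N.subtype) : Subgroup X).Normal := by
      haveI hDnN : D.Normal := by
        refine ⟨fun d hd g => ?_⟩
        obtain ⟨⟨a, d'⟩, hg, -⟩ := hD.existsUnique g
        have hac : ∀ w : N, (a : N) * w = w * a := fun w =>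
          Subtype.ext (mem_center_iff.1 (hZc a.2) w).symm
        have e1 : g * d * g⁻¹ = (d' : N) * d * (d' : N)⁻¹ := by
          rw [← hg]
          show (a : N) * (d' : N) * d * ((a : N) * (d' : N))⁻¹ = _
          rw [mul_inv_rev, show (a : N) * (d' : N) * d * ((d' : N)⁻¹ * (a : N)⁻¹)
            = (a : N) * ((d' : N) * d * (d' : N)⁻¹) * (a : N)⁻¹ by group, hac, mul_inv_cancel_right]
        rw [e1]
        exact D.mul_mem (D.mul_mem d'.2 hd) (D.inv_mem d'.2)
      have hmem : ∀ w : N, (orderOf w).Coprime 2 → w ∈ D := by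
        intro w hw
        rw [← QuotientGroup.eq_one_iff (N := D), ← orderOf_eq_one_iff]
        refine Nat.eq_one_of_dvd_coprimes hw (orderOf_map_dvd (QuotientGroup.mk' D) w) ?_
        have h4 : Nat.card (↥N ⧸ D) = 2 := by
          show D.index = 2
          rw [hD.index_eq_card, Nat.card_congr (subgroupOfEquivOfLe hZN).toEquiv, hZ2]
        rw [← h4]
        exact orderOf_dvd_natCard _
      refine ⟨fun x hx g => ?_⟩
      obtain ⟨d, hd, rfl⟩ := hx
      have hNn : N.Normal := inferInstance
      refine ⟨⟨g * d * g⁻¹, hNn.conj_mem d d.2 g⟩, hmem _ ?_, rfl⟩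
      rw [show orderOf (⟨g * d * g⁻¹, hNn.conj_mem d d.2 g⟩ : N) = orderOf d by
        rw [← orderOf_coe, ← orderOf_coe d]
        exact (orderOf_injective (MulAut.conj g).toMonoidHom (MulAut.conj g).injective _)]
      exact hDcard.coprime_dvd_left (Subgroup.orderOf_dvd_natCard D hd)
    have hDle : D.map N.subtype ≤ oddCore X :=
      le_pPrimeCore (by rw [card_map_of_injective N.subtype_injective]; exact hDcard)
    rw [hO, le_bot_iff, map_eq_bot_iff_of_injective _ N.subtype_injective] at hDle
    have h3 := hD.sup_eq_top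
    rw [hDle, sup_bot_eq, subgroupOf_eq_top] at h3
    exact h3
  rw [eq_bot_iff, ← map_comap_eq_self_of_surjective (QuotientGroup.mk'_surjective Z) (oddCore (X ⧸ Z))]
  refine (map_mono hNle).trans ?_
  rw [(Subgroup.map_eq_bot_iff Z).2 (QuotientGroup.ker_mk' Z).ge]

/-- The layer of a quotient by a central subgroup of order two is the image of the layer. -/
theorem pLayer_quotient_central_le {X : Type u} [Group X] [Finite X] (hO : oddCore X = ⊥) {Z : Subgroup X}
    [Z.Normal] (hZc : Z ≤ center X) (hZ2 : Nat.card Z = 2) :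
    pLayer 2 (X ⧸ Z) ≤ (pLayer 2 X).map (QuotientGroup.mk' Z) := by
  set π := QuotientGroup.mk' Z
  have hOq := oddCore_quotient_central hO hZc hZ2
  refine pLayer_le_iff.2 fun K hK => ?_
  have hKc : IsComponent K := Local.isComponent_of_commutator_eq_bot hK (by
    rw [show pPrimeCore 2 (X ⧸ Z) = ⊥ from hOq, commutator_bot_right])
  set M := K.comap π with hM
  set D := ⁅M, M⁆ with hD
  have hDM : D ≤ M := commutator_self_le' M
  have hMimg : M.map π = K := map_comap_eq_self_of_surjective (QuotientGroup.mk'_surjective Z) K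
  have hDimg : D.map π = K := by rw [hD, map_commutator, hMimg, component_commutator_self hKc]
  have hMD : M = D ⊔ Z := by rw [← QuotientGroup.ker_mk' Z, ← comap_map_eq, hDimg, hM]
  have hDperf : ⁅D, D⁆ = D := by
    apply le_antisymm (commutator_self_le' D)
    conv_lhs => rw [hD]
    rw [commutator_le]
    intro x hx y hy
    rw [hMD] at hx hy
    obtain ⟨d₁, hd₁, z₁, hz₁, rfl⟩ := mem_sup_of_normal_right.1 hx
    obtain ⟨d₂, hd₂, z₂, hz₂, rfl⟩ := mem_sup_of_normal_right.1 hy
    have hc₁ := mem_center_iff.1 (hZc hz₁)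
    have hc₂ := mem_center_iff.1 (hZc hz₂)
    have e : ⁅d₁ * z₁, d₂ * z₂⁆ = ⁅d₁, d₂⁆ := by
      simp only [commutatorElement_def, mul_inv_rev]
      calc d₁ * z₁ * (d₂ * z₂) * (z₁⁻¹ * d₁⁻¹) * (z₂⁻¹ * d₂⁻¹)
          = d₁ * (z₁ * (d₂ * z₂) * z₁⁻¹) * d₁⁻¹ * (z₂⁻¹ * d₂⁻¹) := by group
        _ = d₁ * d₂ * (z₂ * d₁⁻¹ * z₂⁻¹) * d₂⁻¹ := by rw [← hc₁, mul_inv_cancel_right]; group
        _ = _ := by rw [← hc₂, mul_inv_cancel_right]
    rw [e]
    exact commutator_mem_commutator hd₁ hd₂
  have hDs : D.IsSubnormal := commutator_isSubnormal (hKc.1.comap π)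
  have hDq : IsQuasisimple D := by
    set f := π.comp D.subtype with hf
    have hker : f.ker ≤ center D := fun x hx => mem_center_iff.2 fun y => Subtype.ext
      (mem_center_iff.1 (hZc (by
        rw [← QuotientGroup.ker_mk' Z]
        exact hx)) (y : X))
    have hrange : f.range = K := by rw [hf, MonoidHom.range_comp, range_subtype, hDimg]
    exact Local.isQuasisimple_of_central_quotient (Subgroup.isPerfect_iff.2 hDperf) f.ker hker
      (isQuasisimple_of_equiv
        ((QuotientGroup.quotientKerEquivRange f).trans (MulEquiv.subgroupCongr hrange)).symm hKc.2)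
  rw [← hDimg]
  refine map_mono (pComponent_le_pLayer (isPComponent_of_isComponent ⟨hDs, hDq⟩ fun h => ?_))
  rw [show pPrimeCore 2 X = ⊥ from hO] at h
  exact component_ne_bot ⟨hDs, hDq⟩ (le_bot_iff.1 h)

/-- The inductive hypothesis from L-balance of smaller groups. -/
theorem properBalanced_of (ih : ∀ (X : Type u) [Group X] [Finite X], Nat.card X < Nat.card G → LayerBalanced X) :
    ProperBalanced G := by
  intro Y hY Q hQY hQ
  have hlt : Nat.card Y < Nat.card G := by
    refine lt_of_le_of_ne (card_le_card_group Y) fun h => hY ((card_eq_iff_eq_top Y).1 h)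
  have h := ih Y hlt (Q.subgroupOf Y) (hQ.of_equiv (subgroupOfEquivOfLe hQY).symm)
  have h2 := map_mono (f := Y.subtype) h
  rw [← pLayerOf_map_of_injective _ Y.subtype_injective, map_centralizer_subgroupOf hQY] at h2
  exact h2

theorem layerBalanced_aux : ∀ (n : ℕ) (X : Type u) [Group X] [Finite X], Nat.card X = n → LayerBalanced X := by
  intro n
  induction n using Nat.strong_induction_on with
  | _ n ih =>
  intro X _ _ hn T hT
  subst hn
  have ih' : ∀ (Y : Type u) [Group Y] [Finite Y], Nat.card Y < Nat.card X → LayerBalanced Y :=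
    fun Y _ _ h => ih _ h Y rfl
  have hIH := properBalanced_of ih'
  set C := centralizer (T : Set X) with hC
  have hsmall : ∀ N : Subgroup X, N ≠ ⊥ → ∀ [N.Normal], Nat.card (X ⧸ N) < Nat.card X := by
    intro N hN _
    have h1 := N.card_eq_card_quotient_mul_card_subgroup
    rw [h1]
    exact lt_mul_of_one_lt_right Nat.card_pos (one_lt_card_iff_ne_bot _ |>.2 hN)
  rcases ne_or_eq (oddCore X) ⊥ with hO | hO
  · -- factor out the core
    set π := QuotientGroup.mk' (oddCore X)
    have hCimg : C.map π = centralizer ((T.map π : Subgroup _) : Set (X ⧸ oddCore X)) :=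
      map_mk'_centralizer_of_coprime hT (coprime_card_pPrimeCore 2)
    have h1 := ih' _ (hsmall _ hO) (T.map π) (hT.map π)
    rw [← hCimg, ← map_pLayer_eq π (QuotientGroup.mk'_surjective _) (by
      rw [QuotientGroup.ker_mk']; exact coprime_card_pPrimeCore 2)] at h1
    have h2 : pLayerOf 2 C ≤ pLayer 2 X ⊔ oddCore X := by
      rw [← sup_pPrimeCore_eq_comap_map]
      exact map_le_iff_le_comap.1 ((map_pLayerOf_le π C).trans h1)
    rw [← pElemClosure_pLayerOf C, pElemClosure, closure_le]
    rintro x ⟨hx, k, hk⟩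
    exact pElem_mem_of_isSubnormal (coprime_card_pPrimeCore 2)
      (Normal.isSubnormal pLayer_normal) hk (h2 hx)
  rcases ne_or_eq (pCore 2 X) ⊥ with hP | hP
  · set P := pCore 2 X with hPdef
    have hPp : IsPGroup 2 P := isPGroup_pCore 2
    set CP := centralizer (P : Set X) with hCP
    have hPn : ∀ A : Subgroup X, A ≤ normalizer (P : Set X) := fun A =>
      le_top.trans (normalizer_eq_top_iff.2 inferInstance).ge
    -- `L(C(T))` centralizes `P`
    have hLP : pLayerOf 2 C ≤ CP := by
      refine axb_le_centralizer hT hPp (hPn T) (hPn _)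
        (pPrimeElemClosure_eq_self_of_perfect 2 (commutator_pLayerOf_self C)) (pLayerOf_le C) ?_
      exact pLayerOf_le_centralizer (hPp.to_le inf_le_left) inf_le_right
        (Solvable.le_normalizer_inf (hPn C) le_normalizer)
    by_cases hG : CP ⊔ T = ⊤
    · -- a central involution
      obtain ⟨z, hzo, hzc⟩ : ∃ z : X, orderOf z = 2 ∧ z ∈ center X := by
        haveI : ((center P).map P.subtype).Normal := map_center_normal P
        set ZP := (center P).map P.subtype with hZP
        have hne : ZP ≠ ⊥ := by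
          rw [hZP, Ne, map_eq_bot_iff_of_injective _ P.subtype_injective]
          haveI := (nontrivial_iff_ne_bot P).2 hP
          exact ((Subgroup.nontrivial_iff_ne_bot (center P)).1 hPp.center_nontrivial)
        have hsup : IsPGroup 2 ↥(ZP ⊔ T) :=
          ((hPp.to_le (map_subtype_le _) : IsPGroup 2 ZP)).to_sup_of_normal_left' hT
            (le_top.trans (normalizer_eq_top_iff.2 inferInstance).ge)
        have hne' : ZP.subgroupOf (ZP ⊔ T) ≠ ⊥ := by
          rw [Ne, subgroupOf_eq_bot, disjoint_iff, inf_eq_left.2 le_sup_left]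
          exact hne
        obtain ⟨Z, hZle, hZc, -, hZcard⟩ :=
          CfsgLib.PGroup.exists_card_eq_le_center hsup (ZP.subgroupOf (ZP ⊔ T)) hne'
        obtain ⟨z, hz⟩ := exists_prime_orderOf_dvd_card' (G := Z) 2 (by rw [hZcard])
        refine ⟨((z : ↥(ZP ⊔ T)) : X), by rw [orderOf_coe, orderOf_coe, hz], ?_⟩
        have hzP : ((z : ↥(ZP ⊔ T)) : X) ∈ ZP := hZle z.2
        have hall : CP ⊔ T ≤ centralizer {((z : ↥(ZP ⊔ T)) : X)} := sup_le
          (fun x hx => mem_centralizer_singleton_iff.2 (mem_centralizer_iff.1 hx _ (map_subtype_le _ hzP)).symm)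
          (fun x hx => mem_centralizer_singleton_iff.2
            (congrArg Subtype.val (mem_center_iff.1 (hZc z.2) ⟨x, mem_sup_right hx⟩)))
        rw [hG] at hall
        exact mem_center_iff.2 fun g => mem_centralizer_singleton_iff.1 (hall (mem_top g))
      set Z₀ := zpowers z with hZ₀
      have hZc' : Z₀ ≤ center X := zpowers_le.2 hzc
      haveI hZn : Z₀.Normal := ⟨fun x hx g => by rwa [mem_center_iff.1 (hZc' hx) g, mul_inv_cancel_right]⟩
      have hZne : Z₀ ≠ ⊥ := by
        rw [hZ₀, Ne, zpowers_eq_bot]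
        intro h
        rw [h, orderOf_one] at hzo
        norm_num at hzo
      set π := QuotientGroup.mk' Z₀
      have h1 := ih' _ (hsmall _ hZne) (T.map π) (hT.map π)
      -- the preimage of the centralizer
      set C' := (centralizer ((T.map π : Subgroup _) : Set (X ⧸ Z₀))).comap π with hC'
      have hCC' : C ≤ C' := by
        intro x hx
        rw [hC', mem_comap, mem_centralizer_iff]
        rintro _ ⟨t, ht, rfl⟩
        rw [← map_mul, ← map_mul, mem_centralizer_iff.1 hx t ht]
      have hC'n : C' ≤ normalizer (C : Set X) := by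
        refine Solvable.le_normalizer_of_conj_mem fun x hx c hc => mem_centralizer_iff.2 fun t ht => ?_
        have h2 : x⁻¹ * t * x * t⁻¹ ∈ Z₀ := by
          rw [← QuotientGroup.ker_mk' Z₀, MonoidHom.mem_ker, map_mul, map_mul, map_mul, map_inv, map_inv,
            mul_assoc (π x)⁻¹, (mem_centralizer_iff.1 hx (π t) ⟨t, ht, rfl⟩), inv_mul_cancel_left,
            mul_inv_cancel]
        set ζ := x⁻¹ * t * x * t⁻¹ with hζ
        have e1 : x⁻¹ * t * x = ζ * t := by rw [hζ, inv_mul_cancel_right]
        have hcomm : Commute c (x⁻¹ * t * x) := by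
          rw [e1]
          exact (show Commute c ζ from mem_center_iff.1 (hZc' h2) c).mul_right
            (show Commute c t from (mem_centralizer_iff.1 hc t ht).symm)
        calc t * (x * c * x⁻¹) = x * ((x⁻¹ * t * x) * c) * x⁻¹ := by group
          _ = x * (c * (x⁻¹ * t * x)) * x⁻¹ := by rw [hcomm.eq]
          _ = x * c * x⁻¹ * t := by group
      have h2 : (pLayerOf 2 C).map π ≤ pLayer 2 (X ⧸ Z₀) := by
        refine le_trans ?_ h1
        refine (map_mono (pLayerOf_mono_normal hCC' hC'n)).trans ((map_pLayerOf_le π C').trans (le_of_eq ?_))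
        rw [hC', map_comap_eq_self_of_surjective (QuotientGroup.mk'_surjective _)]
      have h3 : pLayer 2 (X ⧸ Z₀) ≤ (pLayer 2 X).map π :=
        pLayer_quotient_central_le hO hZc' (by rw [hZ₀, Nat.card_zpowers, hzo])
      have h4 : pLayerOf 2 C ≤ pLayer 2 X ⊔ Z₀ := by
        rw [← QuotientGroup.ker_mk' Z₀, ← comap_map_eq]
        exact map_le_iff_le_comap.1 (h2.trans h3)
      haveI : (pLayer 2 X).Normal := pLayer_normal
      exact le_of_perfect_of_le_sup (commutator_pLayerOf_self C)
        (IsPGroup.of_card (n := 1) (by rw [Nat.card_zpowers, hzo, pow_one])) h4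
    · -- inside `C(P) T`
      have hLC : pLayerOf 2 C ≤ pLayerOf 2 ((CP ⊔ T) ⊓ C) :=
        pLayerOf_le_pLayerOf inf_le_right (le_inf (hLP.trans le_sup_left) (pLayerOf_le C))
      refine hLC.trans ((hIH _ hG T le_sup_right hT).trans ?_)
      have hle : pLayerOf 2 (CP ⊔ T) ≤ CP :=
        le_of_perfect_of_le_sup (commutator_pLayerOf_self _) hT (pLayerOf_le _)
      exact (pLayerOf_le_pLayerOf le_sup_left hle).trans (pLayerOf_le_pLayer (Normal.isSubnormal inferInstance))
  exact layerBalanced_reduced hO hP hIH T hT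

/-- **L-balance** for the prime `2`. -/
theorem layerBalanced (X : Type u) [Group X] [Finite X] : LayerBalanced X :=
  layerBalanced_aux _ X rfl

end CfsgLib.LBalance
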