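import Cfsg.Agent.Lib.Cores.Components

/-!
Further facts on the layer and the generalized Fitting subgroup: centres, subnormal subgroups, quotients.
-/

namespace CfsgLib.Cores

open Subgroup Cfsg

variable {G : Type*} [Group G] {H : Type*} [Group H]

theorem map_center_eq_inf_centralizer (K : Subgroup G) :
    (center K).map K.subtype = K ⊓ centralizer (K : Set G) := by
  ext x
  constructor
  · rintro ⟨⟨y, hy⟩, hc, rfl⟩
    exact ⟨hy, mem_centralizer_iff.2 fun k hk =>
      congrArg Subtype.val (mem_center_iff.1 hc ⟨k, hk⟩)⟩
  · rintro ⟨hx, hc⟩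
    exact ⟨⟨x, hx⟩, mem_center_iff.2 fun k => Subtype.ext (mem_centralizer_iff.1 hc k k.2), rfl⟩

theorem map_center_normal (K : Subgroup G) [K.Normal] : ((center K).map K.subtype).Normal :=
  inferInstance

theorem isNilpotent_center_map (K : Subgroup G) : Group.IsNilpotent ((center K).map K.subtype) := by
  have : Group.IsNilpotent (center K) := isNilpotent_of_commutator_commutator_eq_bot (by
    have h : ⁅center K, center K⁆ = ⊥ := eq_bot_iff.2 <| ((commutator_top_right_eq_bot_iff_le_center).2 (le_refl (center K))).le.trans' (commutator_mono le_rfl le_top)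
    rw [h, commutator_bot_left])
  exact isNilpotent_map this _

/-- `Z(E(G)) = F(G) ∩ E(G)`. -/
theorem center_layer_eq [Finite G] :
    (center (layer G)).map (layer G).subtype = fittingSubgroup G ⊓ layer G := by
  have := layer_normal (G := G)
  refine le_antisymm (le_inf ?_ (map_subtype_le _)) ?_
  · have := map_center_normal (layer G)
    exact le_fittingSubgroup (isNilpotent_center_map _)
  · rw [map_center_eq_inf_centralizer]
    rintro x ⟨hF, hE⟩
    refine ⟨hE, mem_centralizer_iff.2 fun e he => ?_⟩
    exact (mem_centralizer_iff.1 (layer_le_centralizer_fittingSubgroup he) x hF).symm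

/-- The subgroup of `G` generated by the centres of the components. -/
theorem componentCenters_le_center_layer [Finite G] {L : Subgroup G} (hL : IsComponent L) :
    L ⊓ centralizer (L : Set G) ≤ layer G ⊓ centralizer (layer G : Set G) := by
  rintro x ⟨hxL, hxC⟩
  refine ⟨component_le_layer hL hxL, ?_⟩
  have : layer G ≤ centralizer ({x} : Set G) := by
    rw [layer_le_iff]
    intro K hK k hk
    rw [mem_centralizer_singleton_iff]
    rcases eq_or_ne K L with rfl | hne
    · exact mem_centralizer_iff.1 hxC k hk
    · exact (mem_centralizer_iff.1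
        (commutator_eq_bot_iff_le_centralizer.1 (commutator_components_eq_bot hK hL hne) hk) x hxL).symm
  exact mem_centralizer_iff.2 fun e he => mem_centralizer_singleton_iff.1 (this he)

/-- The layer of a subnormal subgroup is generated by components of the whole group. -/
theorem map_subtype_layer_eq_sSup {K : Subgroup G} (hK : K.IsSubnormal) :
    (layer K).map K.subtype = sSup {L : Subgroup G | IsComponent L ∧ L ≤ K} := by
  refine le_antisymm ?_ (sSup_le ?_)
  · rw [map_le_iff_le_comap, layer_le_iff]
    exact fun L hL => map_le_iff_le_comap.1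
      (le_sSup ⟨isComponent_map_subtype hK hL, map_subtype_le L⟩)
  · rintro L ⟨hL, hLK⟩
    rw [← map_subgroupOf_eq_of_le hLK]
    exact map_mono (component_le_layer (isComponent_subgroupOf hL hLK))

theorem map_subtype_layer_of_le {K : Subgroup G} (hK : K.IsSubnormal) (h : layer G ≤ K) :
    (layer K).map K.subtype = layer G :=
  le_antisymm (map_subtype_layer_le hK) <| layer_le_iff.2 fun L hL => by
    rw [map_subtype_layer_eq_sSup hK]
    exact le_sSup ⟨hL, (component_le_layer hL).trans h⟩

theorem isSolvable_fittingSubgroup [Finite G] : Group.IsSolvable (fittingSubgroup G) :=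
  have : Group.IsNilpotent (fittingSubgroup G) := isNilpotent_fittingSubgroup
  inferInstance

theorem center_eq_top_of_isNilpotent_quasisimple (h : IsQuasisimple G) : ¬ Group.IsNilpotent G :=
  fun _ => not_isSolvable_of_isQuasisimple h inferInstance

/-- A subnormal solvable subgroup centralizing `F(G)` lies in `Z(F(G))`. -/
theorem le_fittingSubgroup_of_isSolvable_subnormal [Finite G] {N : Subgroup G}
    (hNs : N.IsSubnormal) (hsol : Group.IsSolvable N)
    (hN : N ≤ centralizer (fittingSubgroup G : Set G)) : N ≤ fittingSubgroup G := by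
  by_contra h
  set S := {K : Subgroup G | K.IsSubnormal ∧ K ≤ N ∧ ¬ K ≤ fittingSubgroup G}
  obtain ⟨K, ⟨hKs, hKN, hKF⟩, hKmin⟩ := wellFounded_lt.has_min S ⟨N, hNs, le_rfl, h⟩
  have hKsol : Group.IsSolvable K := isSolvable_of_le hKN hsol
  refine hKF (le_fittingSubgroup_of_isSubnormal hKs ?_)
  apply isNilpotent_of_commutator_commutator_eq_bot
  have hne : ⁅K, K⁆ ≠ K := by
    intro heq
    have hp : Group.IsPerfect K := Subgroup.isPerfect_iff.2 heq
    have : Nontrivial K := (nontrivial_iff_ne_bot K).2 fun hb => hKF (hb ▸ bot_le)
    exact Group.IsPerfect.not_isSolvable K hKsol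
  have hsub : (⁅K, K⁆ : Subgroup G).IsSubnormal := by
    have : ((commutator K).map K.subtype).IsSubnormal :=
      (Normal.isSubnormal inferInstance).trans' hKs
    rwa [map_subtype_commutator] at this
  have h1 : ⁅K, K⁆ ≤ fittingSubgroup G := by
    by_contra h1
    exact hKmin _ ⟨hsub, (commutator_self_le' K).trans hKN, h1⟩
      (lt_of_le_of_ne (commutator_self_le' K) hne)
  rw [commutator_comm, commutator_eq_bot_iff_le_centralizer]
  exact (hKN.trans hN).trans (centralizer_le h1)

theorem le_center_fittingSubgroup_of_isSolvable_subnormal [Finite G] {N : Subgroup G}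
    (hNs : N.IsSubnormal) (hsol : Group.IsSolvable N)
    (hN : N ≤ centralizer (fittingSubgroup G : Set G)) :
    N ≤ (center (fittingSubgroup G)).map (fittingSubgroup G).subtype := by
  rw [map_center_eq_inf_centralizer]
  exact le_inf (le_fittingSubgroup_of_isSolvable_subnormal hNs hsol hN) hN

theorem layer_eq_bot_iff_centralizer_fitting_le [Finite G] :
    layer G = ⊥ ↔ centralizer (fittingSubgroup G : Set G) ≤ fittingSubgroup G := by
  constructor
  · intro h
    have := centralizer_generalizedFittingSubgroup_le (G := G)
    rwa [generalizedFittingSubgroup, h, bot_sup_eq] at this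
  · intro h
    rw [layer_eq_bot_iff]
    intro L hL
    exact component_not_le_of_isSolvable hL (isSolvable_fittingSubgroup (G := G))
      ((component_le_layer hL).trans (layer_le_centralizer_fittingSubgroup.trans h))

theorem layer_eq_bot_of_isSolvable [Group.IsSolvable G] : layer G = ⊥ :=
  layer_eq_bot_iff.2 fun L hL => not_isSolvable_of_isQuasisimple hL.2 inferInstance

theorem generalizedFittingSubgroup_eq_fitting_of_isSolvable [Group.IsSolvable G] :
    generalizedFittingSubgroup G = fittingSubgroup G := by
  rw [generalizedFittingSubgroup, layer_eq_bot_of_isSolvable, bot_sup_eq]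

theorem generalizedFittingSubgroup_ne_bot [Finite G] [Nontrivial G] :
    generalizedFittingSubgroup G ≠ ⊥ := by
  intro h
  have h1 := centralizer_generalizedFittingSubgroup_le (G := G)
  rw [h, Subgroup.coe_bot] at h1
  have h2 : (⊤ : Subgroup G) ≤ centralizer ({1} : Set G) := fun x _ => by
    rw [mem_centralizer_singleton_iff]; simp
  exact absurd (eq_bot_iff.2 (h2.trans h1)) top_ne_bot

end CfsgLib.Cores
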