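import Cfsg.Agent.Lib.Cores.BalanceAut

/-!
The preimage of `E(N/O_{p'}(N))`, `N = N(P)`, fixes the components of `G` when `O_{p'}(G) = 1`.
-/

namespace CfsgLib.Cores

open Subgroup Cfsg
open scoped commutatorElement

/-- If a normal subgroup `I` of `Q` lies in the layer then the layer is `I` times the commutator of
the elements of the layer centralizing `I`. -/
theorem layer_le_sup_commutator {Q : Type*} [Group Q] [Finite Q] (I : Subgroup Q) [I.Normal] :
    layer Q ≤ I ⊔ ⁅layer Q ⊓ centralizer (I : Set Q), layer Q ⊓ centralizer (I : Set Q)⁆ := by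
  refine layer_le_iff.2 fun L hL => ?_
  rcases component_le_or_commutator_eq_bot hL (Normal.isSubnormal inferInstance : I.IsSubnormal) with h | h
  · exact h.trans le_sup_left
  · refine le_trans ?_ le_sup_right
    rw [← component_commutator_self hL]
    have hle : L ≤ layer Q ⊓ centralizer (I : Set Q) :=
      le_inf (component_le_layer hL) (commutator_eq_bot_iff_le_centralizer.1 h)
    exact commutator_mono hle hle

variable {G : Type*} [Group G] [Finite G] {p : ℕ} [hp : Fact p.Prime]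

/-- The preimage of `E(N(P)/O_{p'}(N(P)))` lies in that of `E(C/O_{p'}(C))`, `C` normal in `N(P)`. -/
theorem map_layer_preimage_le {N C : Subgroup G} (hCN : C ≤ N) (hn : (C.subgroupOf N).Normal)
    (hO : (pPrimeCore p N).map N.subtype ≤ C)
    (hM : ((layer (↥N ⧸ pPrimeCore p N)).comap (QuotientGroup.mk' (pPrimeCore p N))).map N.subtype ≤ C) :
    ((layer (↥N ⧸ pPrimeCore p N)).comap (QuotientGroup.mk' (pPrimeCore p N))).map N.subtype ≤
      ((layer (↥C ⧸ pPrimeCore p C)).comap (QuotientGroup.mk' (pPrimeCore p C))).map C.subtype := by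
  set π := QuotientGroup.mk' (pPrimeCore p N) with hπ
  set f := π.comp (inclusion hCN) with hfdef
  have hrange : f.range = (C.subgroupOf N).map π := by
    rw [hfdef, MonoidHom.range_comp]
    congr 1
    ext ⟨z, hz⟩
    exact ⟨fun ⟨c, hc⟩ => (show z = (c : G) from (congrArg Subtype.val hc).symm) ▸ c.2, fun h => ⟨⟨z, h⟩, rfl⟩⟩
  haveI : f.range.Normal := hrange ▸ hn.map π (QuotientGroup.mk'_surjective _)
  have hlayer : layer (↥N ⧸ pPrimeCore p N) ≤ f.range := by
    rw [hrange]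
    intro q hq
    obtain ⟨x, rfl⟩ := QuotientGroup.mk'_surjective _ q
    exact ⟨x, hM ⟨x, hq, rfl⟩, rfl⟩
  -- the kernel is `O_{p'}(C)`
  have hker : f.ker = pPrimeCore p C := by
    have hmem : ∀ c : C, c ∈ f.ker ↔ inclusion hCN c ∈ pPrimeCore p N := fun c => QuotientGroup.eq_one_iff _
    apply le_antisymm
    · refine le_pPrimeCore ?_
      refine (card_map_pPrimeCore_coprime (p := p) N).coprime_dvd_left ?_
      rw [← card_map_of_injective (f := C.subtype) (subtype_injective C)]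
      refine card_dvd_of_le ?_
      rintro _ ⟨c, hc, rfl⟩
      exact ⟨inclusion hCN c, (hmem c).1 hc, rfl⟩
    · intro c hc
      rw [MonoidHom.mem_ker]
      have h1 : f.rangeRestrict c ∈ pPrimeCore p f.range :=
        map_pPrimeCore_le f.rangeRestrict f.rangeRestrict_surjective ⟨c, hc, rfl⟩
      have h2 : f c ∈ pPrimeCore p (↥N ⧸ pPrimeCore p N) :=
        map_subtype_pPrimeCore_le_of_normal p f.range ⟨_, h1, rfl⟩
      rwa [pPrimeCore_quotient_self, mem_bot] at h2
  let e : (↥C ⧸ pPrimeCore p C) ≃* f.range :=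
    (QuotientGroup.quotientMulEquivOfEq hker.symm).trans (QuotientGroup.quotientKerEquivRange f)
  have h3 : (layer (↥C ⧸ pPrimeCore p C)).map (f.range.subtype.comp e.toMonoidHom) = layer (↥N ⧸ pPrimeCore p N) := by
    rw [← Subgroup.map_map, map_layer_equiv, map_subtype_layer_of_le (Normal.isSubnormal inferInstance) hlayer]
  rintro _ ⟨x, hx, rfl⟩
  have hxC : (x : G) ∈ C := hM ⟨x, hx, rfl⟩
  refine ⟨⟨x, hxC⟩, ?_, rfl⟩
  obtain ⟨q, hq, hqx⟩ := h3.ge hx
  show QuotientGroup.mk' (pPrimeCore p C) ⟨x, hxC⟩ ∈ layer _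
  have h4 : QuotientGroup.mk' (pPrimeCore p C) ⟨x, hxC⟩ = q :=
    e.injective (f.range.subtype_injective hqx.symm)
  rw [h4]
  exact hq

/-- Elements of the preimage of `E(N(P)/O_{p'}(N(P)))` fix every component of `G`. -/
theorem comap_layer_normalizer_le_normalizer_component (hO : pPrimeCore p G = ⊥) {P : Subgroup G}
    (hP : IsPGroup p P) {L : Subgroup G} (hL : IsComponent L) :
    ((layer (↥(normalizer (P : Set G)) ⧸ pPrimeCore p ↥(normalizer (P : Set G)))).comap
        (QuotientGroup.mk' (pPrimeCore p ↥(normalizer (P : Set G))))).map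
      (normalizer (P : Set G)).subtype ≤ normalizer (L : Set G) := by
  set N := normalizer (P : Set G) with hN
  set M := ((layer (↥N ⧸ pPrimeCore p ↥N)).comap (QuotientGroup.mk' (pPrimeCore p ↥N))).map N.subtype with hM
  set Z := layerCenter G with hZdef
  haveI : Z.Normal := layerCenter_normal
  set P' := P ⊔ Z
  set C := centralizer (P' : Set G) with hCdef
  -- `O_{p'}(N)` and `M` centralize `P'`
  have hPN : P ≤ (pCore p N).map N.subtype := le_map_pCore_normalizer hP
  have hMC : M ≤ C := by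
    intro m hm
    have h1 : P ≤ centralizer ({m} : Set G) := fun g hg => by
      rw [mem_centralizer_singleton_iff]
      exact mem_centralizer_iff.1 (map_le_centralizer_map (commutator_comap_layer_pCore _) hm) g (hPN hg)
    have h2 : Z ≤ centralizer ({m} : Set G) := fun g hg => by
      rw [mem_centralizer_singleton_iff]
      exact mem_centralizer_iff.1 (map_comap_layer_normalizer_le_centralizer hP hm) g (layerCenter_le_pCore hO hg)
    exact mem_centralizer_iff.2 fun g hg => mem_centralizer_singleton_iff.1 (sup_le h1 h2 hg)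
  have hON : (pPrimeCore p N).map N.subtype ≤ C := by
    refine le_trans ?_ hMC
    refine map_mono (fun x hx => ?_)
    show QuotientGroup.mk' (pPrimeCore p N) x ∈ layer _
    rw [show QuotientGroup.mk' (pPrimeCore p N) x = 1 from (QuotientGroup.eq_one_iff x).2 hx]
    exact one_mem _
  have hCN : C ≤ N :=
    (centralizer_le (SetLike.coe_subset_coe.2 le_sup_left)).trans (centralizer_le_normalizer _)
  have hP'n : N ≤ normalizer (P' : Set G) := by
    intro g hg
    rw [← map_conj_eq_self_iff, Subgroup.map_sup, map_conj_eq_self_iff.2 hg,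
      map_conj_eq_self_iff.2 (by rw [normalizer_eq_top]; exact mem_top g : g ∈ normalizer (Z : Set G))]
  have hCn : (C.subgroupOf N).Normal := (normal_subgroupOf_iff_le_normalizer hCN).2
    (hP'n.trans (Solvable.normalizer_le_normalizer_centralizer P'))
  have hMC' := map_layer_preimage_le (p := p) hCN hCn hON hMC
  obtain ⟨y, hyW, hyZ, hyN, j, hj⟩ := exists_orbit_pElem hO hP hL
  have hyC : C.map (MulAut.conj y).toMonoidHom = C :=
    map_conj_eq_self_iff.2 (Solvable.normalizer_le_normalizer_centralizer P' hyN)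
  -- the action of `y` on `C / O_{p'}(C)`
  let φ : C ≃* C := ((MulAut.conj y).subgroupMap C).trans (MulEquiv.subgroupCongr hyC)
  let ψ : (↥C ⧸ pPrimeCore p C) ≃* (↥C ⧸ pPrimeCore p C) :=
    QuotientGroup.congr (pPrimeCore p C) (pPrimeCore p C) φ (map_pPrimeCore_equiv φ)
  set π := QuotientGroup.mk' (pPrimeCore p C) with hπ
  have hψπ : ∀ c : C, ψ (π c) = π (φ c) := fun c => rfl
  haveI : (layer G).Normal := layer_normal
  set EC := (layer G).subgroupOf C with hEC
  haveI : (EC.map π).Normal := Subgroup.Normal.map inferInstance π (QuotientGroup.mk'_surjective _)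
  haveI : (layer (↥C ⧸ pPrimeCore p C)).Normal := layer_normal
  set I := EC.map π ⊓ layer (↥C ⧸ pPrimeCore p C) with hI
  set C₁ := layer (↥C ⧸ pPrimeCore p C) ⊓ centralizer (I : Set (↥C ⧸ pPrimeCore p C)) with hC₁
  have hψlayer : (layer (↥C ⧸ pPrimeCore p C)).map ψ.toMonoidHom = layer (↥C ⧸ pPrimeCore p C) := map_layer_equiv ψ
  have hψI : I.map ψ.toMonoidHom = I := by
    rw [hI, Subgroup.map_inf _ _ ψ.toMonoidHom ψ.injective, hψlayer]
    congr 1
    apply le_antisymm
    · rintro _ ⟨_, ⟨c, hc, rfl⟩, rfl⟩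
      exact ⟨φ c, (layer_normal (G := G)).conj_mem (c : G) hc y, (hψπ c).symm⟩
    · rintro _ ⟨c, hc, rfl⟩
      refine ⟨π (φ.symm c), ⟨_, ?_, rfl⟩, (hψπ _).trans (by rw [φ.apply_symm_apply])⟩
      show ((φ.symm c : C) : G) ∈ layer G
      have h1 : y * (φ.symm c : G) * y⁻¹ = c := congrArg Subtype.val (φ.apply_symm_apply c)
      rw [show (φ.symm c : G) = y⁻¹ * c * y⁻¹⁻¹ by rw [← h1]; group]
      exact (layer_normal (G := G)).conj_mem (c : G) hc _
  -- `[c, y] ∈ I`
  have hzI : ∀ q ∈ layer (↥C ⧸ pPrimeCore p C), q * (ψ q)⁻¹ ∈ I := by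
    intro q hq
    obtain ⟨c, rfl⟩ := QuotientGroup.mk'_surjective _ q
    refine ⟨⟨c * (φ c)⁻¹, ?_, by rw [map_mul, map_inv, hψπ]⟩, (layer _).mul_mem hq ((layer _).inv_mem (hψlayer.le ⟨_, hq, rfl⟩))⟩
    show (c : G) * (y * c * y⁻¹)⁻¹ ∈ layer G
    have hyE : y ∈ layer G := orbitProd_le_layer hL hyW
    rw [show (c : G) * (y * c * y⁻¹)⁻¹ = ((c : G) * y * (c : G)⁻¹) * y⁻¹ by group]
    exact mul_mem (Normal.conj_mem inferInstance _ hyE _) (inv_mem hyE)
  have hψC₁ : ∀ q ∈ C₁, ψ q ∈ C₁ := by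
    rintro q ⟨hq, hqc⟩
    refine ⟨hψlayer.le ⟨q, hq, rfl⟩, mem_centralizer_iff.2 fun i hi => ?_⟩
    obtain ⟨i', hi', rfl⟩ := hψI.ge hi
    show ψ i' * ψ q = ψ q * ψ i'
    rw [← map_mul, ← map_mul, mem_centralizer_iff.1 hqc i' hi']
  have hcz : ∀ a ∈ C₁, ∀ b ∈ C₁, a * (b * (ψ b)⁻¹) = b * (ψ b)⁻¹ * a := fun a ha b hb =>
    (mem_centralizer_iff.1 ha.2 _ (hzI b hb.1)).symm
  have hhom : ∀ a ∈ C₁, ∀ b ∈ C₁, a * b * (ψ (a * b))⁻¹ = (b * (ψ b)⁻¹) * (a * (ψ a)⁻¹) := by
    intro a ha b hb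
    rw [map_mul, mul_inv_rev, ← mul_assoc (b * (ψ b)⁻¹) a, ← hcz a ha b hb]
    group
  have hcomm : ∀ q ∈ ⁅C₁, C₁⁆, ψ q = q := by
    have hle : ⁅C₁, C₁⁆ ≤ MonoidHom.eqLocus ψ.toMonoidHom (MonoidHom.id _) := by
      rw [commutator_le]
      intro a ha b hb
      show ψ ⁅a, b⁆ = ⁅a, b⁆
      have hza : ∀ c ∈ C₁, Commute (a * (ψ a)⁻¹) (c * (ψ c)⁻¹) := fun c hc =>
        mem_centralizer_iff.1 (mul_mem hc (inv_mem (hψC₁ c hc)) : c * (ψ c)⁻¹ ∈ C₁).2 _ (hzI a ha.1)
      have hab : ψ (a * b) * (ψ (b * a))⁻¹ = a * b * (b * a)⁻¹ := by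
        have h1 := hhom a ha b hb
        have h2 := hhom b hb a ha
        rw [(hza b hb).eq] at h2
        have h3 : a * b * (ψ (a * b))⁻¹ = b * a * (ψ (b * a))⁻¹ := by rw [h1, h2]
        calc ψ (a * b) * (ψ (b * a))⁻¹
            = (a * b * (ψ (a * b))⁻¹)⁻¹ * (a * b) * (b * a)⁻¹ * (b * a * (ψ (b * a))⁻¹) := by group
          _ = (a * b * (ψ (a * b))⁻¹)⁻¹ * ((a * b * (b * a)⁻¹) * (a * b * (ψ (a * b))⁻¹)) := by rw [h3]; group
          _ = a * b * (b * a)⁻¹ := by
              have h4 : Commute (a * b * (b * a)⁻¹) (a * b * (ψ (a * b))⁻¹) :=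
                (mem_centralizer_iff.1 (mul_mem (mul_mem ha hb) (inv_mem (mul_mem hb ha)) :
                  a * b * (b * a)⁻¹ ∈ C₁).2 _ (hzI _ (mul_mem ha.1 hb.1))).symm
              rw [h4.eq, inv_mul_cancel_left]
      rw [← map_inv, ← map_mul] at hab
      rwa [show a * b * (b * a)⁻¹ = ⁅a, b⁆ by rw [commutatorElement_def]; group] at hab
    exact fun q hq => hle hq
  haveI : I.Normal := inferInstance
  have hC₁n : C₁.Normal := by
    haveI : (centralizer (I : Set (↥C ⧸ pPrimeCore p C))).Normal := inferInstance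
    infer_instance
  -- every `p'`-element of `M` fixes `L`
  suffices key : ∀ x ∈ M, (orderOf x).Coprime p → x ∈ normalizer (L : Set G) by
    refine le_trans (le_of_eq ?_) ((closure_le _).2 fun x (hx : x ∈ {x | x ∈ M ∧ (orderOf x).Coprime p}) => key x hx.1 hx.2)
    show M = pPrimeElemClosure p M
    rw [hM, ← map_pPrimeElemClosure, pPrimeElemClosure_comap_layer]
  intro x hx hxp
  obtain ⟨x', hx', rfl⟩ := hMC' hx
  have hq : π x' ∈ I ⊔ ⁅C₁, C₁⁆ := layer_le_sup_commutator I hx'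
  obtain ⟨i, hi, c, hc, hic⟩ := mem_sup_of_normal_left.1 hq
  obtain ⟨⟨i₀, hi₀, rfl⟩, -⟩ := hi
  set c₀ := i₀⁻¹ * x' with hc₀
  have hπc : π c₀ = c := by rw [hc₀, map_mul, map_inv, ← hic, inv_mul_cancel_left]
  have hmem : (c₀ : G) * y * (c₀ : G)⁻¹ * y⁻¹ ∈ (pPrimeCore p C).map C.subtype := by
    refine ⟨c₀ * (φ c₀)⁻¹, ?_, ?_⟩
    · refine (QuotientGroup.eq_one_iff _).1 ?_
      show π (c₀ * (φ c₀)⁻¹) = 1
      rw [map_mul, map_inv, ← hψπ, hπc, hcomm c hc, mul_inv_cancel]
    · show (c₀ : G) * (y * c₀ * y⁻¹)⁻¹ = _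
      group
  have hC_P : C ≤ centralizer (P : Set G) := centralizer_le (SetLike.coe_subset_coe.2 le_sup_left)
  have hi₀L : ∀ g : G, L.map (MulAut.conj ((i₀ : G) * g)).toMonoidHom = L.map (MulAut.conj g).toMonoidHom := by
    intro g
    rw [map_conj_mul, map_conj_eq_self_iff]
    exact layer_le_normalizer_component (isComponent_conj hL g) hi₀
  have hxc : ((x' : C) : G) = (i₀ : G) * (c₀ : G) := by
    rw [hc₀, Subgroup.coe_mul, InvMemClass.coe_inv, mul_inv_cancel_left]
  by_contra hne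
  have horb : ∀ g ∈ P, L.map (MulAut.conj (c₀ : G)).toMonoidHom ≠ L.map (MulAut.conj g).toMonoidHom := by
    intro g hg he
    obtain ⟨k, hk⟩ := IsPGroup.iff_orderOf.1 hP ⟨g, hg⟩
    rw [orderOf_mk] at hk
    refine hne (mem_normalizer_of_conj_eq hxp (pow_orderOf_eq_one _) hk
      (mem_centralizer_iff.1 (hC_P x'.2) g hg) ?_)
    show L.map (MulAut.conj ((x' : C) : G)).toMonoidHom = _
    rw [hxc, hi₀L, he]
  obtain ⟨hyy, hne'⟩ := commute_conj_of_not_mem_orbit hL (hC_P c₀.2) horb hyW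
  refine hne' hyZ (mul_inv_eq_one.1 ?_)
  rw [← orderOf_eq_one_iff]
  refine Nat.eq_one_of_dvd_coprimes (Nat.Coprime.pow_left j (card_map_pPrimeCore_coprime (p := p) C).symm)
    (orderOf_dvd_of_pow_eq_one ?_) (orderOf_dvd_natCard _ hmem)
  rw [hyy.inv_right.mul_pow, conj_pow, inv_pow, ← hj, pow_orderOf_eq_one]
  simp

end CfsgLib.Cores
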