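import Cfsg.Agent.Lib.Cores.Layer2
import Cfsg.Agent.Lib.Cores.Coprime
import Cfsg.Agent.Lib.Solvable.Basic

/-!
Two maximal subgroups containing each other's generalized Fitting subgroup.
-/

namespace CfsgLib.Cores

open Subgroup Cfsg
open scoped commutatorElement

variable {G : Type*} [Group G] [Finite G]

theorem le_normalizer_map_of_normal {M : Subgroup G} {K : Subgroup M} (hK : K.Normal) :
    M ≤ normalizer ((K.map M.subtype : Subgroup G) : Set G) :=
  Solvable.le_normalizer_of_conj_mem fun m hm => by
    rintro _ ⟨k, hk, rfl⟩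
    exact ⟨⟨m, hm⟩ * k * ⟨m, hm⟩⁻¹, hK.conj_mem k hk _, rfl⟩

/-- The image in `G` of `E(M)`. -/
def layerIn (M : Subgroup G) : Subgroup G := (layer M).map M.subtype

/-- The image in `G` of `O_p(M)`. -/
def pCoreIn (p : ℕ) (M : Subgroup G) : Subgroup G := (pCore p M).map M.subtype

/-- The image in `G` of `O_{p'}(F(M))`. -/
def fitPrimeIn (p : ℕ) (M : Subgroup G) : Subgroup G :=
  (fittingSubgroup M ⊓ pPrimeCore p M).map M.subtype

/-- `M` and `N` contain each other's generalized Fitting subgroup. -/
def FStarLinked (M N : Subgroup G) : Prop :=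
  (generalizedFittingSubgroup M).map M.subtype ≤ N ∧ (generalizedFittingSubgroup N).map N.subtype ≤ M

omit [Finite G] in
theorem FStarLinked.symm {M N : Subgroup G} (h : FStarLinked M N) : FStarLinked N M := ⟨h.2, h.1⟩

omit [Finite G] in
theorem FStarLinked.layerIn_le {M N : Subgroup G} (h : FStarLinked M N) : layerIn M ≤ N :=
  (map_mono layer_le_generalizedFittingSubgroup).trans h.1

omit [Finite G] in
theorem FStarLinked.fitting_le {M N : Subgroup G} (h : FStarLinked M N) :
    (fittingSubgroup M).map M.subtype ≤ N :=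
  (map_mono fittingSubgroup_le_generalizedFittingSubgroup).trans h.1

/-- The components of one lie in the layer of the other. -/
theorem FStarLinked.layerIn_le_layerIn {M N : Subgroup G} (h : FStarLinked M N) : layerIn M ≤ layerIn N := by
  rw [layerIn, map_le_iff_le_comap, layer_le_iff]
  intro L hL
  haveI := layer_normal (G := N)
  haveI := fittingSubgroup_normal (G := N)
  rw [← map_le_iff_le_comap]
  set L₁ := L.map M.subtype
  have hL₁M : L₁ ≤ M := map_subtype_le _
  have hL₁N : L₁ ≤ N := (map_mono (component_le_layer hL)).trans h.layerIn_le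
  set EN := layerIn N
  have hENM : EN ≤ M := h.symm.layerIn_le
  set FN := (fittingSubgroup N).map N.subtype
  have hFNM : FN ≤ M := h.symm.fitting_le
  -- `L` centralizes `F(N)`
  have hF : ⁅L₁, FN⁆ = ⊥ := by
    have hn : L ≤ normalizer ((FN.subgroupOf M : Subgroup M) : Set M) := fun l hl =>
      Solvable.mem_normalizer_of_conj_mem fun z hz =>
        (mem_normalizer_iff.1 (le_normalizer_map_of_normal (fittingSubgroup_normal (G := N))
          (hL₁N ⟨l, hl, rfl⟩)) (z : G)).1 hz
    have hs : Group.IsSolvable ↥(FN.subgroupOf M) := by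
      haveI : Group.IsSolvable (fittingSubgroup N) := isSolvable_fittingSubgroup
      exact solvable_of_solvable_injective (f := ((subgroupOfEquivOfLe hFNM).trans
        (equivMapOfInjective (fittingSubgroup N) N.subtype N.subtype_injective).symm).toMonoidHom)
        (MulEquiv.injective _)
    have h2 := congrArg (Subgroup.map M.subtype) (component_commutator_solvable hL hs hn)
    rwa [map_commutator, Subgroup.map_bot, map_subgroupOf_eq_of_le hFNM] at h2
  -- `J = E(M) ∩ E(N)`
  set EM := layerIn M
  have hEMN : EM ≤ N := h.layerIn_le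
  have hEMn : M ≤ normalizer (EM : Set G) := le_normalizer_map_of_normal layer_normal
  have hENn : N ≤ normalizer (EN : Set G) := le_normalizer_map_of_normal layer_normal
  set J := EM ⊓ EN
  have hJn : EM ≤ normalizer (J : Set G) :=
    Solvable.le_normalizer_inf le_normalizer (hEMN.trans hENn)
  by_cases hLJ : L₁ ≤ J
  · exact hLJ.trans inf_le_right
  exfalso
  have hJ : ⁅L₁, J⁆ = ⊥ := by
    have hJE : J ≤ M := inf_le_left.trans (map_subtype_le _)
    have hsn : (J.subgroupOf M).IsSubnormal := by
      refine IsSubnormal.step _ (layer M) ?_ (layer_normal (G := M)).isSubnormal ?_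
      · intro z hz
        obtain ⟨w, hw, hwz⟩ := (mem_subgroupOf.1 hz).1
        rwa [← M.subtype_injective hwz]
      · rw [normal_subgroupOf_iff_le_normalizer]
        · exact fun e he => Solvable.mem_normalizer_of_conj_mem fun z hz =>
            (mem_normalizer_iff.1 (hJn ⟨e, he, rfl⟩) (z : G)).1 hz
        · intro z hz
          obtain ⟨w, hw, hwz⟩ := (mem_subgroupOf.1 hz).1
          rwa [← M.subtype_injective hwz]
    rcases component_le_or_commutator_eq_bot hL hsn with h1 | h1
    · exact absurd ((map_mono h1).trans (map_subgroupOf_eq_of_le hJE).le) hLJ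
    · have h2 := congrArg (Subgroup.map M.subtype) h1
      rwa [map_commutator, Subgroup.map_bot, map_subgroupOf_eq_of_le hJE] at h2
  have hE : ⁅L₁, EN⁆ = ⊥ := by
    have hperf : ⁅L₁, L₁⁆ = L₁ := by rw [← map_commutator, component_commutator_self hL]
    apply commutator_eq_bot_of_perfect hperf
    rw [eq_bot_iff, ← hJ, commutator_comm L₁ J]
    refine commutator_mono (le_inf ?_ ?_) le_rfl
    · exact (commutator_mono (map_mono (component_le_layer hL)) hENM).trans (by
        rw [commutator_comm]; exact le_normalizer_iff_commutator_le_right.1 hEMn)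
    · exact (le_normalizer_iff_commutator_le_right.1 (hL₁N.trans hENn))
  -- hence `L` centralizes `F*(N)`
  have hLF : L₁.subgroupOf N ≤ generalizedFittingSubgroup N ⊓ centralizer (generalizedFittingSubgroup N : Set N) := by
    have h1 : L₁.subgroupOf N ≤ centralizer (generalizedFittingSubgroup N : Set N) := by
      rw [← commutator_eq_bot_iff_le_centralizer, commutator_comm, commutator_eq_bot_iff_le_centralizer]
      refine sup_le ?_ ?_ <;>
      · rw [← commutator_eq_bot_iff_le_centralizer, commutator_comm]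
        apply Subgroup.map_injective N.subtype_injective
        rw [map_commutator, map_subgroupOf_eq_of_le hL₁N, Subgroup.map_bot]
        first | exact hE | exact hF
    exact le_inf (h1.trans centralizer_generalizedFittingSubgroup_le) h1
  haveI := generalizedFittingSubgroup_normal (G := N)
  rw [← map_center_eq_inf_centralizer] at hLF
  have hs : Group.IsSolvable ↥(L₁.subgroupOf N) := by
    haveI := isNilpotent_center_map (generalizedFittingSubgroup N)
    exact isSolvable_of_le hLF inferInstance
  apply not_isSolvable_of_isQuasisimple hL.2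
  exact solvable_of_solvable_injective
    (f := ((equivMapOfInjective L M.subtype M.subtype_injective).trans (subgroupOfEquivOfLe hL₁N).symm).toMonoidHom)
    (MulEquiv.injective _)

omit [Finite G] in
/-- A nontrivial proper subgroup of a simple group normalized by `M` has normalizer `M`. -/
theorem normalizer_eq_of_isCoatom [IsSimpleGroup G] {M K : Subgroup G} (hM : IsCoatom M) (hKM : K ≤ M)
    (hK : K ≠ ⊥) (hn : M ≤ normalizer (K : Set G)) : normalizer (K : Set G) = M := by
  refine (hM.le_iff.1 hn).resolve_left fun htop => ?_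
  rcases (normalizer_eq_top_iff.1 htop).eq_bot_or_eq_top with h | h
  · exact hK h
  · exact hM.1 (top_le_iff.1 (h ▸ hKM))

theorem FStarLinked.layer_eq_bot [IsSimpleGroup G] {M N : Subgroup G} (h : FStarLinked M N) (hM : IsCoatom M)
    (hN : IsCoatom N) (hne : M ≠ N) : layer M = ⊥ ∧ layer N = ⊥ := by
  have he : layerIn M = layerIn N := le_antisymm h.layerIn_le_layerIn h.symm.layerIn_le_layerIn
  have hbot : layerIn M = ⊥ := by
    by_contra hb
    apply hne
    rw [← normalizer_eq_of_isCoatom hM (map_subtype_le _) hb (le_normalizer_map_of_normal layer_normal),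
      ← normalizer_eq_of_isCoatom hN (map_subtype_le _) (he ▸ hb : layerIn N ≠ ⊥) (le_normalizer_map_of_normal layer_normal)]
    show normalizer (layerIn M : Set G) = normalizer (layerIn N : Set G)
    rw [he]
  exact ⟨(Subgroup.map_eq_bot_iff_of_injective _ M.subtype_injective).1 hbot,
    (Subgroup.map_eq_bot_iff_of_injective _ N.subtype_injective).1 (he ▸ hbot : layerIn N = ⊥)⟩

theorem fittingSubgroup_le_pCore_sup {p : ℕ} [hp : Fact p.Prime] :
    fittingSubgroup G ≤ pCore p G ⊔ (fittingSubgroup G ⊓ pPrimeCore p G) := by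
  rw [fittingSubgroup_eq_iSup_pCore]
  refine iSup_le fun r => ?_
  haveI : Fact (r : ℕ).Prime := ⟨Nat.prime_of_mem_primeFactors r.2⟩
  rcases eq_or_ne (r : ℕ) p with h | h
  · rw [h]; exact le_sup_left
  · refine le_trans (le_inf ?_ ?_) le_sup_right
    · exact le_iSup (fun r : (Nat.card G).primeFactors => pCore (r : ℕ) G) r
    · obtain ⟨n, hn⟩ := card_pCore_eq_pow (G := G) (r : ℕ)
      refine le_pPrimeCore ?_
      rw [hn]
      exact Nat.Coprime.pow_left n ((Nat.coprime_primes (Fact.out : (r : ℕ).Prime) hp.out).2 h)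

theorem pCore_le_fitting_inf_pPrimeCore {p q : ℕ} [Fact p.Prime] [Fact q.Prime] (hne : q ≠ p) :
    pCore q G ≤ fittingSubgroup G ⊓ pPrimeCore p G := by
  refine le_inf (pCore_le_fittingSubgroup q) (le_pPrimeCore ?_)
  obtain ⟨n, hn⟩ := card_pCore_eq_pow (G := G) q
  rw [hn]
  exact Nat.Coprime.pow_left n ((Nat.coprime_primes (Fact.out : q.Prime) Fact.out).2 hne)

/-- `O_q(N)` centralizes `O_{q'}(F(M))`. -/
theorem FStarLinked.pCoreIn_le_centralizer {M N : Subgroup G} (h : FStarLinked M N) (q : ℕ) [Fact q.Prime] :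
    pCoreIn q N ≤ centralizer (fitPrimeIn q M : Set G) := by
  have hBM : pCoreIn q N ≤ M := (map_mono (pCore_le_fittingSubgroup q)).trans h.symm.fitting_le
  have hWN : fitPrimeIn q M ≤ N := (map_mono inf_le_left).trans h.fitting_le
  haveI := fittingSubgroup_normal (G := M)
  have hWn : M ≤ normalizer (fitPrimeIn q M : Set G) := le_normalizer_map_of_normal inferInstance
  have hBn : N ≤ normalizer (pCoreIn q N : Set G) := le_normalizer_map_of_normal inferInstance
  rw [← commutator_eq_bot_iff_le_centralizer, eq_bot_iff]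
  refine le_trans (le_inf ?_ ?_) (disjoint_of_coprime_natCard (H := pCoreIn q N) (K := fitPrimeIn q M) ?_).le_bot
  · rw [commutator_comm]
    exact le_normalizer_iff_commutator_le_right.1 (hWN.trans hBn)
  · exact le_normalizer_iff_commutator_le_right.1 (hBM.trans hWn)
  · obtain ⟨n, hn⟩ := card_pCore_eq_pow (G := N) q
    rw [pCoreIn, fitPrimeIn, card_map_of_injective N.subtype_injective, card_map_of_injective M.subtype_injective, hn]
    exact Nat.Coprime.pow_left n ((coprime_card_pPrimeCore q).coprime_dvd_left (card_dvd_of_le inf_le_right)).symm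

/-- A prime of `F(M)` is a prime of `F(N)`. -/
theorem FStarLinked.pCore_ne_bot {M N : Subgroup G} (h : FStarLinked M N) (hN : layer N = ⊥) {p : ℕ}
    [Fact p.Prime] (hp : pCore p M ≠ ⊥) : pCore p N ≠ ⊥ := by
  intro hb
  apply hp
  haveI := fittingSubgroup_normal (G := N)
  have hPN : pCoreIn p M ≤ N := (map_mono (pCore_le_fittingSubgroup p)).trans h.fitting_le
  have hF : fittingSubgroup N ≤ fittingSubgroup N ⊓ pPrimeCore p N := by
    have := fittingSubgroup_le_pCore_sup (G := N) (p := p)
    rwa [hb, bot_sup_eq] at this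
  have hC : (pCoreIn p M).subgroupOf N ≤ pPrimeCore p N := by
    refine le_trans ?_ (hF.trans inf_le_right)
    refine le_trans ?_ (layer_eq_bot_iff_centralizer_fitting_le.1 hN)
    intro z hz
    rw [mem_centralizer_iff]
    intro f hf
    exact Subtype.ext (mem_centralizer_iff.1 (h.symm.pCoreIn_le_centralizer p hz) (f : G) ⟨f, hF hf, rfl⟩)
  obtain ⟨n, hn⟩ := card_pCore_eq_pow (G := M) p
  refine eq_bot_of_card_eq _ (Nat.eq_one_of_dvd_coprimes ((coprime_card_pPrimeCore (G := N) p).pow_right n) ?_ (hn ▸ dvd_rfl))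
  rw [← card_map_of_injective M.subtype_injective]
  show Nat.card ↥(pCoreIn p M) ∣ _
  rw [← Nat.card_congr (subgroupOfEquivOfLe hPN).toEquiv]
  exact card_dvd_of_le hC

/-- If `F(M)` and `F(N)` involve two primes `p`, `q` then `O_p(N) ≤ O_p(M)`. -/
theorem FStarLinked.pCoreIn_le_pCoreIn [IsSimpleGroup G] {M N : Subgroup G} (h : FStarLinked M N) (hM : layer M = ⊥)
    (hN : IsCoatom N) {p q : ℕ} [Fact p.Prime] [Fact q.Prime] (hne : p ≠ q)
    (hq : pCore q N ≠ ⊥) : pCoreIn p N ≤ pCoreIn p M := by
  haveI := fittingSubgroup_normal (G := M)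
  set X := centralizer ((fittingSubgroup M ⊓ pPrimeCore p M : Subgroup M) : Set M) with hX
  haveI : X.Normal := inferInstance
  set B := pCoreIn q N with hB
  have hBM : B ≤ M := (map_mono (pCore_le_fittingSubgroup q)).trans h.symm.fitting_le
  have hRM : pCoreIn p N ≤ M := (map_mono (pCore_le_fittingSubgroup p)).trans h.symm.fitting_le
  have hBq : IsPGroup q B := (isPGroup_pCore q).map _
  -- `q'`-elements of `X` centralize `B`
  have key : ∀ x ∈ X, (orderOf x).Coprime q → ∀ b : M, (b : G) ∈ B → x * b = b * x := by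
    intro x hx hxq b hb
    have hbW : ∀ w ∈ fittingSubgroup M ⊓ pPrimeCore q M, b * w = w * b := fun w hw =>
      Subtype.ext (mem_centralizer_iff.1 (h.pCoreIn_le_centralizer q hb) (w : G) ⟨w, hw, rfl⟩).symm
    have hxW : ∀ w ∈ pCore q M, x * w = w * x := fun w hw =>
      (mem_centralizer_iff.1 hx w (pCore_le_fitting_inf_pPrimeCore (Ne.symm hne) hw)).symm
    have hpW : ∀ w ∈ pCore p M, b * w = w * b := fun w hw => hbW w (pCore_le_fitting_inf_pPrimeCore hne hw)
    set z := x * b * x⁻¹ * b⁻¹ with hz
    have hzF : z ∈ fittingSubgroup M := by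
      refine layer_eq_bot_iff_centralizer_fitting_le.1 hM (mem_centralizer_iff.2 fun f hf => ?_)
      have h1 : z ∈ X := by
        rw [hz, mul_assoc x b, mul_assoc x]
        exact mul_mem hx (Normal.conj_mem inferInstance _ (inv_mem hx) b)
      have h2 : z ∈ centralizer ((pCore p M : Subgroup M) : Set M) := by
        have hbc : b ∈ centralizer ((pCore p M : Subgroup M) : Set M) :=
          mem_centralizer_iff.2 fun w hw => (hpW w hw).symm
        rw [hz]
        exact mul_mem (Normal.conj_mem inferInstance b hbc x) (inv_mem hbc)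
      have h3 : pCore p M ⊔ (fittingSubgroup M ⊓ pPrimeCore p M) ≤ centralizer ({z} : Set M) := by
        refine sup_le (fun w hw => ?_) (fun w hw => ?_) <;> rw [mem_centralizer_singleton_iff]
        · exact mem_centralizer_iff.1 h2 w hw
        · exact mem_centralizer_iff.1 h1 w hw
      exact mem_centralizer_singleton_iff.1 (h3 (fittingSubgroup_le_pCore_sup hf))
    obtain ⟨u, hu, v, hv, huv⟩ := mem_sup_of_normal_left.1 (fittingSubgroup_le_pCore_sup (p := q) hzF)
    obtain ⟨j, hj⟩ := IsPGroup.iff_orderOf.1 hBq ⟨b, hb⟩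
    rw [orderOf_mk, ← M.coe_subtype, orderOf_injective M.subtype M.subtype_injective] at hj
    -- the `q'`-part `v` of `z` is trivial
    have hv1 : v = 1 := by
      set π := QuotientGroup.mk' (pCore q M)
      have h1 : π (x * b * x⁻¹) = π v * π b := by
        rw [show x * b * x⁻¹ = u * v * b by rw [huv, hz, inv_mul_cancel_right], map_mul, map_mul,
          show π u = 1 from (QuotientGroup.eq_one_iff u).2 hu, one_mul]
      have hc : Commute (π v) (π b) := by
        show π v * π b = π b * π v
        rw [← map_mul, ← map_mul, hbW v hv]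
      have h2 : v ^ q ^ j ∈ pCore q M := by
        rw [← QuotientGroup.eq_one_iff]
        show π (v ^ q ^ j) = 1
        have h3 := congrArg (· ^ q ^ j) h1
        rw [hc.mul_pow, ← map_pow, ← map_pow, ← map_pow, conj_pow, ← hj, pow_orderOf_eq_one, mul_one,
          mul_inv_cancel, map_one, mul_one, eq_comm] at h3
        rw [← hj]; exact h3
      have h4 : v ^ q ^ j = 1 := by
        rw [← Subgroup.mem_bot, ← pCore_inf_pPrimeCore (G := M) q]
        exact ⟨h2, pow_mem hv.2 _⟩
      rw [← orderOf_eq_one_iff]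
      exact Nat.eq_one_of_dvd_coprimes (Nat.Coprime.pow_left j (coprime_card_pPrimeCore (G := M) q).symm)
        (orderOf_dvd_of_pow_eq_one h4) (Subgroup.orderOf_dvd_natCard _ hv.2)
    rw [hv1, mul_one] at huv
    have hxz : x * z = z * x := hxW z (huv ▸ hu)
    have hpow : ∀ n : ℕ, x ^ n * b * (x ^ n)⁻¹ = z ^ n * b := by
      intro n
      induction n with
      | zero => simp
      | succ n ih =>
        calc x ^ (n + 1) * b * (x ^ (n + 1))⁻¹ = x * (x ^ n * b * (x ^ n)⁻¹) * x⁻¹ := by rw [pow_succ']; group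
          _ = (x * z ^ n * x⁻¹) * (x * b * x⁻¹) := by rw [ih]; group
          _ = z ^ n * (z * b) := by
            rw [(show Commute x z from hxz).pow_right n |>.eq, mul_inv_cancel_right, hz, inv_mul_cancel_right]
          _ = z ^ (n + 1) * b := by rw [pow_succ]; group
    have h5 := hpow (orderOf x)
    rw [pow_orderOf_eq_one, one_mul, inv_one, mul_one, eq_comm] at h5
    have h6 : z = 1 := by
      rw [← orderOf_eq_one_iff]
      obtain ⟨n, hn⟩ := card_pCore_eq_pow (G := M) q
      exact Nat.eq_one_of_dvd_coprimes (hxq.pow_right n) (orderOf_dvd_of_pow_eq_one (mul_eq_right.1 h5))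
        (hn ▸ Subgroup.orderOf_dvd_natCard _ (huv ▸ hu))
    rw [hz, mul_inv_eq_one, mul_inv_eq_iff_eq_mul] at h6
    exact h6
  set X' := pPrimeElemClosure q X
  haveI : X'.Normal := by
    rw [← normalizer_eq_top_iff, eq_top_iff, ← (normalizer_eq_top_iff (H := X)).2 inferInstance]
    exact normalizer_le_normalizer_pPrimeElemClosure q X
  have hX'N : X'.map M.subtype ≤ N := by
    have hB1 : B ≠ ⊥ := fun hb => hq ((Subgroup.map_eq_bot_iff_of_injective _ N.subtype_injective).1 hb)
    rw [← normalizer_eq_of_isCoatom hN (map_subtype_le _) hB1 (le_normalizer_map_of_normal inferInstance)]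
    refine le_trans ?_ (centralizer_le_normalizer _)
    rw [map_le_iff_le_comap]
    rw [show X' = closure {x | x ∈ X ∧ (orderOf x).Coprime q} from rfl, closure_le]
    intro x hx
    exact mem_centralizer_iff.2 fun b hb => (congrArg Subtype.val (key x hx.1 hx.2 ⟨b, hBM hb⟩ hb)).symm
  -- `O_p(N) ≤ X'`
  set R := (pCoreIn p N).subgroupOf M with hR
  have hRX : R ≤ X' := by
    intro r hr
    refine mem_pPrimeElemClosure (mem_centralizer_iff.2 fun w hw =>
      Subtype.ext (mem_centralizer_iff.1 (h.pCoreIn_le_centralizer p hr) (w : G) ⟨w, hw, rfl⟩)) ?_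
    obtain ⟨n, hn⟩ := card_pCore_eq_pow (G := N) p
    refine Nat.Coprime.coprime_dvd_left ?_ (Nat.Coprime.pow_left n ((Nat.coprime_primes (Fact.out : p.Prime) Fact.out).2 hne))
    rw [← Subgroup.orderOf_coe, ← hn, ← card_map_of_injective N.subtype_injective]
    exact Subgroup.orderOf_dvd_natCard _ hr
  have hRsn : R.IsSubnormal := by
    refine IsSubnormal.step _ X' hRX (Normal.isSubnormal inferInstance) ?_
    rw [normal_subgroupOf_iff_le_normalizer hRX]
    intro x hx
    exact Solvable.mem_normalizer_of_conj_mem fun r hr =>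
      (mem_normalizer_iff.1 (le_normalizer_map_of_normal inferInstance (hX'N ⟨x, hx, rfl⟩)) (r : G)).1 hr
  rw [← map_subgroupOf_eq_of_le hRM]
  refine map_mono (le_pCore_of_isSubnormal hRsn ?_)
  exact ((isPGroup_pCore p).map N.subtype).of_equiv (subgroupOfEquivOfLe hRM).symm

/-- Two distinct maximal subgroups of a simple group containing each other's `F*`: both `F*` are `p`-groups. -/
theorem FStarLinked.exists_isPGroup [IsSimpleGroup G] {M N : Subgroup G} (h : FStarLinked M N) (hM : IsCoatom M)
    (hN : IsCoatom N) (hne : M ≠ N) [Nontrivial M] :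
    ∃ p : ℕ, p.Prime ∧ IsPGroup p (generalizedFittingSubgroup M) ∧ IsPGroup p (generalizedFittingSubgroup N) := by
  obtain ⟨hEM, hEN⟩ := h.layer_eq_bot hM hN hne
  have hFne : fittingSubgroup M ≠ ⊥ := fun hb => generalizedFittingSubgroup_ne_bot (G := M) (by
    rw [generalizedFittingSubgroup, hEM, hb, bot_sup_eq])
  obtain ⟨p, hpc⟩ : ∃ p : (Nat.card M).primeFactors, pCore (p : ℕ) M ≠ ⊥ := by
    by_contra hcon
    push Not at hcon
    apply hFne
    rw [fittingSubgroup_eq_iSup_pCore, iSup_eq_bot]
    exact hcon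
  obtain ⟨p, hpm⟩ := p
  have hp : Fact p.Prime := ⟨Nat.prime_of_mem_primeFactors hpm⟩
  have hone : ∀ q : ℕ, q.Prime → q ≠ p → pCore q M = ⊥ := by
    intro q hq hqp
    haveI := Fact.mk hq
    by_contra hqc
    have hpN : pCore p N ≠ ⊥ := h.pCore_ne_bot hEN hpc
    have hqN : pCore q N ≠ ⊥ := h.pCore_ne_bot hEN hqc
    have he : pCoreIn p M = pCoreIn p N :=
      le_antisymm (h.symm.pCoreIn_le_pCoreIn hEN hM (Ne.symm hqp) hqc) (h.pCoreIn_le_pCoreIn hEM hN (Ne.symm hqp) hqN)
    apply hne
    have hb : pCoreIn p M ≠ ⊥ := fun hb => hpc ((Subgroup.map_eq_bot_iff_of_injective _ M.subtype_injective).1 hb)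
    rw [← normalizer_eq_of_isCoatom hM (map_subtype_le _) hb (le_normalizer_map_of_normal inferInstance),
      ← normalizer_eq_of_isCoatom hN (map_subtype_le _) (he ▸ hb : pCoreIn p N ≠ ⊥) (le_normalizer_map_of_normal inferInstance)]
    show normalizer (pCoreIn p M : Set G) = normalizer (pCoreIn p N : Set G)
    rw [he]
  refine ⟨p, hp.out, ?_, ?_⟩
  · rw [generalizedFittingSubgroup, hEM, bot_sup_eq]
    refine (isPGroup_pCore p).to_le ?_
    rw [fittingSubgroup_eq_iSup_pCore]
    refine iSup_le fun r => ?_
    rcases eq_or_ne (r : ℕ) p with hr | hr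
    · rw [hr]
    · rw [hone r (Nat.prime_of_mem_primeFactors r.2) hr]; exact bot_le
  · rw [generalizedFittingSubgroup, hEN, bot_sup_eq]
    refine (isPGroup_pCore p).to_le ?_
    rw [fittingSubgroup_eq_iSup_pCore]
    refine iSup_le fun r => ?_
    haveI : Fact (r : ℕ).Prime := ⟨Nat.prime_of_mem_primeFactors r.2⟩
    rcases eq_or_ne (r : ℕ) p with hr | hr
    · rw [hr]
    · by_contra hne'
      exact h.symm.pCore_ne_bot hEM (fun hb => hne' (hb ▸ bot_le)) (hone r Fact.out hr)

end CfsgLib.Cores
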