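import Cfsg.Agent.Lib.Cores.RankGraph

/-!
In a `3`-group of rank at least four the centralizer of every elementary abelian subgroup of order at least `9` has
rank at least three.
-/

namespace CfsgLib.RankGraph

open Subgroup Cfsg CfsgLib.PGroup
open scoped commutatorElement

variable {P : Type*} [Group P] [Finite P]

/-- A `3`-group of rank at least four has no isolated elementary abelian subgroup of order `9`. -/
theorem centralizer_rank (hP : IsPGroup 3 P) (hrk : ¬ PRankLE 3 3 P) {X : Subgroup P}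
    (hX : IsElementaryAbelian 3 X) (hXc : 3 ^ 2 ≤ Nat.card X) :
    ¬ PRankLE 3 2 ↥(Subgroup.centralizer (X : Set P)) := by
  haveI : Fact (Nat.Prime 3) := ⟨Nat.prime_three⟩
  haveI := hP.isNilpotent
  intro hC
  rw [pRankLE_subgroup_iff] at hC
  -- an elementary abelian subgroup of order `81`
  obtain ⟨E, hE, hE81⟩ : ∃ E : Subgroup P, IsElementaryAbelian 3 E ∧ Nat.card E = 3 ^ 4 := by
    rw [pRankLE_iff] at hrk
    push Not at hrk
    obtain ⟨E, hE, hEc⟩ := hrk
    obtain ⟨n, hn⟩ := elemAb_card hE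
    rw [hn, Nat.pow_lt_pow_iff_right (by norm_num)] at hEc
    obtain ⟨T, hT⟩ := Sylow.exists_subgroup_card_pow_prime 3 (G := ↥E) (n := 4) (hn ▸ pow_dvd_pow 3 hEc)
    exact ⟨T.map E.subtype, elemAb_mono hE (map_subtype_le T),
      by rw [Subgroup.card_map_of_injective E.subtype_injective, hT]⟩
  -- `X = ⟨z, x⟩` with `z` central and `C(x)` having all its elements of order `3` in `X`
  have hXC : X ≤ Subgroup.centralizer (X : Set P) := fun x hx =>
    Subgroup.mem_centralizer_iff.2 fun y hy => elemAb_comm hX hy hx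
  have hX9 : Nat.card X = 3 ^ 2 := le_antisymm (hC X hXC hX) hXc
  have hin : ∀ y ∈ Subgroup.centralizer (X : Set P), y ^ 3 = 1 → y ∈ X := by
    intro y hy hy1
    have hc : ∀ a ∈ X, ∀ b ∈ zpowers y, a * b = b * a := by
      rintro a ha _ ⟨i, rfl⟩
      exact ((show Commute a y from Subgroup.mem_centralizer_iff.1 hy a ha).zpow_right i).eq
    have hle := hC _ (sup_le hXC (zpowers_le.2 hy)) (elemAb_sup hX (elemAb_zpowers hy1) hc)
    have := Subgroup.eq_of_le_of_card_ge (le_sup_left : X ≤ X ⊔ zpowers y) (hle.trans hXc)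
    rw [this]
    exact mem_sup_right (mem_zpowers y)
  have hEX : ¬ E ≤ Subgroup.centralizer (X : Set P) := fun h => by
    have := Subgroup.card_le_of_le (fun e he => hin e (h he) (hE.2 e he) : E ≤ X)
    rw [hE81, hX9] at this
    norm_num at this
  have hPtop : (⊤ : Subgroup P) ≠ ⊥ := fun h => by
    have := Subgroup.card_le_of_le (le_top.trans h.le : E ≤ ⊥)
    rw [hE81, Subgroup.card_bot] at this
    norm_num at this
  obtain ⟨Z, -, hZc, hZn, hZ⟩ := exists_card_eq_le_center hP (⊤ : Subgroup P) hPtop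
  have hZX : Z ≤ X := fun y hy => hin y (Subgroup.mem_centralizer_iff.2 fun a _ =>
    Subgroup.mem_center_iff.1 (hZc hy) a) ((elemAb_of_card_eq hZ).2 y hy)
  have hZlt : Z < X := lt_of_le_of_ne hZX fun h => by
    rw [← h, hZ] at hX9
    norm_num at hX9
  have hgenX : ∀ k ∈ X, k ∉ Z → Z ⊔ zpowers k = X := fun k hk hkZ => by
    refine Subgroup.eq_of_le_of_card_ge (sup_le hZX (zpowers_le.2 hk)) ?_
    have h := mul_card_le (hP.to_subgroup _)
      (lt_of_le_of_ne (le_sup_left : Z ≤ Z ⊔ zpowers k) fun h => hkZ (h ▸ mem_sup_right (mem_zpowers k)))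
    rw [hZ] at h
    rw [hX9, pow_two]
    exact h
  have hcomX : ∀ k ∈ X, k ∉ Z → ∀ y : P, k * y = y * k → y ∈ Subgroup.centralizer (X : Set P) := by
    intro k hk hkZ y hy
    have hle : X ≤ Subgroup.centralizer {y} := hgenX k hk hkZ ▸ sup_le
      (fun a ha => Subgroup.mem_centralizer_singleton_iff.2 (Subgroup.mem_center_iff.1 (hZc ha) y).symm)
      (zpowers_le.2 (Subgroup.mem_centralizer_singleton_iff.2 hy))
    exact Subgroup.mem_centralizer_iff.2 fun a ha => Subgroup.mem_centralizer_singleton_iff.1 (hle ha)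
  obtain ⟨x, hxX, hxZ⟩ := SetLike.exists_of_lt hZlt
  -- abelian subgroups of exponent `3` normalized by `x` have order at most `27`
  have hJ : ∀ K : Subgroup P, IsElementaryAbelian 3 K → x ∈ normalizer (K : Set P) → Nat.card K ≤ 27 := by
    intro K hK hxK
    by_cases hmeet : K ⊓ X ≤ Z
    · refine card_le_of_fixed (hX.2 x hxX) hK hxK (hZ ▸ Subgroup.card_le_of_le fun k hk => hmeet ⟨hk.1, ?_⟩)
      exact hin k (hcomX x hxX hxZ k (Subgroup.mem_centralizer_singleton_iff.1 hk.2).symm) (hK.2 k hk.1)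
    · obtain ⟨k, hk, hkZ⟩ := SetLike.not_le_iff_exists.1 hmeet
      have := Subgroup.card_le_of_le (fun y hy => hin y (hcomX k hk.2 hkZ y (elemAb_comm hK hk.1 hy))
        (hK.2 y hy) : K ≤ X)
      rw [hX9] at this
      omega
  have hxN : ∀ K : Subgroup P, K.Normal → x ∈ normalizer (K : Set P) := fun K hK =>
    (Subgroup.normalizer_eq_top_iff.2 hK).ge (Subgroup.mem_top x)
  -- a maximal normal elementary abelian subgroup
  have hrk2 : ¬ PRankLE 3 2 P := fun h => hrk (pRankLE_mono (by norm_num) (by norm_num) h)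
  obtain ⟨U, hUn, hUe, hUc⟩ := exists_normal_sq hP hrk2
  obtain ⟨W, hUW, ⟨hWn, hW⟩, hWmax⟩ := Finite.exists_le_maximal
    (p := fun A : Subgroup P => A.Normal ∧ IsElementaryAbelian 3 A) (a := U) ⟨hUn, hUe⟩
  haveI := hWn
  have hCW : ∀ c ∈ Subgroup.centralizer (W : Set P), c ^ 3 = 1 → c ∈ W :=
    mem_of_centralizes hP hW fun W' h1 h2 h3 => le_antisymm (hWmax ⟨h1, h2⟩ h3) h3
  have hEW' : ¬ E ≤ Subgroup.centralizer (W : Set P) := fun h => by
    have := (Subgroup.card_le_of_le (fun e he => hCW e (h he) (hE.2 e he) : E ≤ W)).trans (hJ W hW (hxN W hWn))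
    rw [hE81] at this
    norm_num at this
  have hW27 : Nat.card W = 27 := by
    refine le_antisymm (hJ W hW (hxN W hWn)) ?_
    by_contra hlt
    obtain ⟨n, hn⟩ := elemAb_card hW
    have hW9 : Nat.card W = 3 ^ 2 := by
      refine le_antisymm ?_ (hUc ▸ Subgroup.card_le_of_le hUW)
      rw [hn]
      refine Nat.pow_le_pow_right (by norm_num) ?_
      by_contra h3
      exact hlt (hn ▸ (show 3 ^ 3 ≤ 3 ^ n from Nat.pow_le_pow_right (by norm_num) (by omega)))
    obtain ⟨K, hKE, hKc, hKW⟩ := exists_le_centralizing hP hW9 E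
    have := Subgroup.card_le_of_le (fun k hk => hCW k (Subgroup.mem_centralizer_iff.2 fun w hw =>
      (hKW k hk w hw).symm) (hE.2 k (hKE hk)) : K ≤ W)
    rw [hE81] at hKc
    rw [hW9] at this
    omega
  obtain ⟨V, hVW, hVn, hV⟩ := Transfer.exists_normal_card_sq hP (K := W) (hW27 ▸ (by norm_num : 3 ^ 2 ∣ 27))
  haveI := hVn
  have hVc : ∀ a ∈ V, ∀ b ∈ V, a * b = b * a := fun a ha b hb => elemAb_comm hW (hVW ha) (hVW hb)
  have hgenW : ∀ k ∈ W, k ∉ V → V ⊔ zpowers k = W := fun k hk hkV => by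
    refine Subgroup.eq_of_le_of_card_ge (sup_le hVW (zpowers_le.2 hk)) ?_
    have h := mul_card_le (hP.to_subgroup _)
      (lt_of_le_of_ne (le_sup_left : V ≤ V ⊔ zpowers k) fun h => hkV (h ▸ mem_sup_right (mem_zpowers k)))
    rw [hV] at h
    rw [hW27]
    exact h
  have hcomW : ∀ k ∈ W, k ∉ V → ∀ y : P, (∀ v ∈ V, v * y = y * v) → k * y = y * k →
      y ∈ Subgroup.centralizer (W : Set P) := by
    intro k hk hkV y hyV hy
    have hle : W ≤ Subgroup.centralizer {y} := hgenW k hk hkV ▸ sup_le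
      (fun a ha => Subgroup.mem_centralizer_singleton_iff.2 (hyV a ha))
      (zpowers_le.2 (Subgroup.mem_centralizer_singleton_iff.2 hy))
    exact Subgroup.mem_centralizer_iff.2 fun a ha => Subgroup.mem_centralizer_singleton_iff.1 (hle ha)
  have hVlt : V < W := lt_of_le_of_ne hVW fun h => by rw [← h, hV] at hW27; norm_num at hW27
  obtain ⟨w₀, hw₀, hw₀V⟩ := SetLike.exists_of_lt hVlt
  have hWV : ∀ g : P, ∀ w ∈ W, g * w * g⁻¹ * w⁻¹ ∈ V := by
    intro g w hw
    have hWn' : (W.map (QuotientGroup.mk' V)).Normal := hWn.map _ (QuotientGroup.mk'_surjective V)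
    have hcard : Nat.card (W.map (QuotientGroup.mk' V)) = 3 := by
      have h1 := Subgroup.card_mul_index (V.subgroupOf W)
      rw [Nat.card_congr (subgroupOfEquivOfLe hVW).toEquiv, hV, hW27] at h1
      rw [← relIndex_ker, QuotientGroup.ker_mk']
      have h2 : 3 ^ 2 * V.relIndex W = 27 := h1
      omega
    have hcen := le_center_of_card_eq (hP.to_quotient V) _ hcard ⟨w, hw, rfl⟩
    refine (QuotientGroup.eq_one_iff (N := V) _).1 ?_
    show QuotientGroup.mk' V (g * w * g⁻¹ * w⁻¹) = 1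
    rw [map_mul, map_mul, map_mul, Subgroup.mem_center_iff.1 hcen, map_inv, map_inv, mul_inv_cancel_right,
      mul_inv_cancel]
  -- the commutator with `w₀`, on a subgroup centralizing `V`
  let mkHom : ∀ K : Subgroup P, (∀ k ∈ K, ∀ v ∈ V, k * v = v * k) → (K →* V) := fun K hK =>
    MonoidHom.mk' (fun k => ⟨(k : P) * w₀ * (k : P)⁻¹ * w₀⁻¹, hWV k w₀ hw₀⟩) fun a b => by
      refine Subtype.ext ?_
      show (a * b : P) * w₀ * (a * b : P)⁻¹ * w₀⁻¹ = a * w₀ * (a : P)⁻¹ * w₀⁻¹ * (b * w₀ * (b : P)⁻¹ * w₀⁻¹)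
      rw [← hVc _ (hWV b w₀ hw₀) _ (hWV a w₀ hw₀)]
      calc (a * b : P) * w₀ * (a * b : P)⁻¹ * w₀⁻¹
          = ((a : P) * (b * w₀ * (b : P)⁻¹ * w₀⁻¹)) * (w₀ * (a : P)⁻¹ * w₀⁻¹) := by group
        _ = ((b * w₀ * (b : P)⁻¹ * w₀⁻¹) * (a : P)) * (w₀ * (a : P)⁻¹ * w₀⁻¹) := by rw [hK a a.2 _ (hWV b w₀ hw₀)]
        _ = _ := by group
  have hkerW : ∀ (K : Subgroup P) (hK : ∀ k ∈ K, ∀ v ∈ V, k * v = v * k), K ≤ E →
      (mkHom K hK).ker.map K.subtype ≤ E ⊓ W := by
    intro K hK hKE
    rintro _ ⟨k, hk, rfl⟩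
    have h1 : (k : P) * w₀ * (k : P)⁻¹ * w₀⁻¹ = 1 := congrArg Subtype.val (MonoidHom.mem_ker.1 hk)
    exact ⟨hKE k.2, hCW k (hcomW w₀ hw₀ hw₀V k (fun v hv => (hK k k.2 v hv).symm)
      (mul_inv_eq_iff_eq_mul.1 (mul_inv_eq_one.1 h1)).symm) (hE.2 k (hKE k.2))⟩
  have hkercard : ∀ (K : Subgroup P) (hK : ∀ k ∈ K, ∀ v ∈ V, k * v = v * k),
      Nat.card K = Nat.card ((mkHom K hK).ker.map K.subtype) * Nat.card (mkHom K hK).range := fun K hK => by
    rw [Subgroup.card_map_of_injective K.subtype_injective, ← Subgroup.card_mul_index (mkHom K hK).ker,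
      Subgroup.index_ker]
  -- `E` centralizes `V`
  have hEV : ∀ e ∈ E, ∀ v ∈ V, e * v = v * e := by
    by_contra hcon
    push Not at hcon
    obtain ⟨f, hf, v₁, hv₁, hfv⟩ := hcon
    obtain ⟨K, hKE, hKc, hKV⟩ := exists_le_centralizing hP hV E
    obtain ⟨Z', hZ'V, hZ'c, hZ'n, hZ'⟩ := exists_card_eq_le_center hP V fun h => by
      rw [h, Subgroup.card_bot] at hV
      norm_num at hV
    have hrange : Nat.card (mkHom K hKV).range ≤ 3 := by
      rw [← Nat.card_congr (Subgroup.equivMapOfInjective _ V.subtype V.subtype_injective).symm.toEquiv, ← hZ']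
      refine Subgroup.card_le_of_le ?_
      rintro _ ⟨_, ⟨k, rfl⟩, rfl⟩
      show (k : P) * w₀ * (k : P)⁻¹ * w₀⁻¹ ∈ Z'
      by_contra hν
      set ν := (k : P) * w₀ * (k : P)⁻¹ * w₀⁻¹ with hνdef
      have hνV : ν ∈ V := hWV k w₀ hw₀
      -- `f` fixes `ν`
      set a := f * w₀ * f⁻¹ * w₀⁻¹ with hadef
      have haV : a ∈ V := hWV f w₀ hw₀
      have hfν : f * ν * f⁻¹ = ν := by
        calc f * ν * f⁻¹ = (f * (k : P) * f⁻¹) * (f * w₀ * f⁻¹) * (f * (k : P) * f⁻¹)⁻¹ * (f * w₀ * f⁻¹)⁻¹ := by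
              rw [hνdef]; group
          _ = (k : P) * (a * w₀) * (k : P)⁻¹ * (a * w₀)⁻¹ := by
              rw [show f * (k : P) * f⁻¹ = k by rw [elemAb_comm hE hf (hKE k.2), mul_inv_cancel_right],
                show f * w₀ * f⁻¹ = a * w₀ by rw [hadef, inv_mul_cancel_right]]
          _ = ((k : P) * a) * (w₀ * (k : P)⁻¹ * w₀⁻¹) * a⁻¹ := by group
          _ = a * ν * a⁻¹ := by rw [hKV k k.2 a haV, hνdef]; group
          _ = ν := by rw [hVc a haV ν hνV, mul_inv_cancel_right]
      have hgen : Z' ⊔ zpowers ν = V := by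
        refine Subgroup.eq_of_le_of_card_ge (sup_le hZ'V (zpowers_le.2 hνV)) ?_
        have h := mul_card_le (hP.to_subgroup _)
          (lt_of_le_of_ne (le_sup_left : Z' ≤ Z' ⊔ zpowers ν) fun h => hν (h ▸ mem_sup_right (mem_zpowers ν)))
        rw [hZ'] at h
        rw [hV, pow_two]
        exact h
      have hle : V ≤ Subgroup.centralizer {f} := hgen ▸ sup_le
        (fun b hb => Subgroup.mem_centralizer_singleton_iff.2 (Subgroup.mem_center_iff.1 (hZ'c hb) f).symm)
        (zpowers_le.2 (Subgroup.mem_centralizer_singleton_iff.2 (mul_inv_eq_iff_eq_mul.1 hfν).symm))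
      exact hfv (Subgroup.mem_centralizer_singleton_iff.1 (hle hv₁)).symm
    have hF := hkerW K hKV hKE
    have hFc : 9 ≤ Nat.card ((mkHom K hKV).ker.map K.subtype) := by
      have h := hkercard K hKV
      rw [hE81] at hKc
      nlinarith
    obtain ⟨k₀, hk₀, hk₀V⟩ : ∃ k ∈ (mkHom K hKV).ker.map K.subtype, k ∉ V := by
      by_contra hall
      push Not at hall
      have hVE : V ≤ E := (Subgroup.eq_of_le_of_card_ge hall (hV.le.trans hFc)).ge.trans (hF.trans inf_le_left)
      exact hfv (elemAb_comm hE hf (hVE hv₁))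
    have hKW : K ≤ W := fun k hk => hCW k (hcomW k₀ (hF hk₀).2 hk₀V k (fun v hv => (hKV k hk v hv).symm)
      (elemAb_comm hE (hF hk₀).1 (hKE hk))) (hE.2 k (hKE hk))
    have hKeq : K = W := Subgroup.eq_of_le_of_card_ge hKW (by rw [hW27]; rw [hE81] at hKc; omega)
    exact hEW' fun e he => Subgroup.mem_centralizer_iff.2 fun w hw => elemAb_comm hE (hKE (hKeq ▸ hw)) he
  set α := mkHom E hEV with hα
  have hEW : E ⊓ W = V := by
    have h1 : Nat.card α.range ≤ 9 := (Subgroup.card_le_card_group α.range).trans (hV.trans (by norm_num)).le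
    have h2 := hkerW E hEV le_rfl
    have h3 : 9 ≤ Nat.card ↥(E ⊓ W) := by
      refine le_trans ?_ (Subgroup.card_le_of_le h2)
      have h := hkercard E hEV
      rw [hE81] at h
      nlinarith
    have h4 : E ⊓ W ≤ V := by
      intro k hk
      by_contra hkV
      exact hEW' fun e he => hcomW k hk.2 hkV e (fun v hv => (hEV e he v hv).symm) (elemAb_comm hE hk.1 he)
    exact Subgroup.eq_of_le_of_card_ge h4 (hV.le.trans h3)
  have hVE : V ≤ E := hEW ▸ inf_le_left
  have hαsurj : α.range = ⊤ := by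
    refine Subgroup.eq_top_of_card_eq _ (le_antisymm (Subgroup.card_le_card_group _) ?_)
    have h := hkercard E hEV
    have h2 : Nat.card (α.ker.map E.subtype) ≤ 9 := by
      refine (Subgroup.card_le_of_le ((hkerW E hEV le_rfl).trans hEW.le)).trans ?_
      rw [hV]
      norm_num
    rw [hE81, ← hα] at h
    rw [hV]
    nlinarith
  -- `T = E W` is normal
  set T := E ⊔ W with hT
  have hTN : E ≤ normalizer (W : Set P) := le_top.trans_eq (Subgroup.normalizer_eq_top_iff.2 hWn).symm
  have hTC : ∀ t ∈ T, t ∈ Subgroup.centralizer (W : Set P) → t ∈ W := by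
    intro t ht htC
    obtain ⟨w, hw, e, he, rfl⟩ := Solvable.exists_mul_of_mem_sup hTN (sup_comm E W ▸ ht : t ∈ W ⊔ E)
    refine W.mul_mem hw (hCW e ?_ (hE.2 e he))
    have hwC : w ∈ Subgroup.centralizer (W : Set P) := Subgroup.mem_centralizer_iff.2 fun u hu => elemAb_comm hW hu hw
    simpa using Subgroup.mul_mem _ (Subgroup.inv_mem _ hwC) htC
  have hTn : T.Normal := by
    by_contra hne
    have hlt : normalizer (T : Set P) < ⊤ := lt_top_iff_ne_top.2 fun h => hne (Subgroup.normalizer_eq_top_iff.1 h)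
    obtain ⟨g, hgN, hgT⟩ := SetLike.exists_of_lt (Group.normalizerCondition_of_isNilpotent _ hlt)
    refine hgT (CfsgLib.Solvable.mem_normalizer_of_conj_mem fun y hy => ?_)
    have hle : T.map (MulAut.conj g).toMonoidHom ≤ T := by
      rw [hT, Subgroup.map_sup, sup_le_iff]
      refine ⟨?_, by rintro _ ⟨w, hw, rfl⟩; exact mem_sup_right (hWn.conj_mem w hw g)⟩
      rintro _ ⟨e₁, he₁, rfl⟩
      show g * e₁ * g⁻¹ ∈ T
      set e' := g * e₁ * g⁻¹ with he'
      have he'N : e' ∈ normalizer (T : Set P) :=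
        (Subgroup.mem_normalizer_iff.1 hgN e₁).1 (Subgroup.le_normalizer (mem_sup_left he₁))
      have he'3 : e' ^ 3 = 1 := by rw [he', conj_pow, hE.2 e₁ he₁, mul_one, mul_inv_cancel]
      have he'V : ∀ v ∈ V, e' * v = v * e' := by
        intro v hv
        have hc := hEV e₁ he₁ _ (hVn.conj_mem v hv g⁻¹)
        rw [inv_inv] at hc
        calc e' * v = g * (e₁ * (g⁻¹ * v * g)) * g⁻¹ := by rw [he']; group
          _ = v * e' := by rw [hc, he']; group
      obtain ⟨⟨e, he⟩, hee⟩ : (⟨e' * w₀ * e'⁻¹ * w₀⁻¹, hWV e' w₀ hw₀⟩ : V) ∈ α.range := hαsurj ▸ Subgroup.mem_top _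
      have hee' : e * w₀ * e⁻¹ = e' * w₀ * e'⁻¹ := mul_right_cancel (congrArg Subtype.val hee)
      set c := e⁻¹ * e' with hc
      have hcW : c ∈ Subgroup.centralizer (W : Set P) := hcomW w₀ hw₀ hw₀V c
        (fun v hv => (((show Commute e v from hEV e he v hv).inv_left).mul_left (he'V v hv)).eq.symm) (by
          have : c * w₀ * c⁻¹ = w₀ := by
            calc c * w₀ * c⁻¹ = e⁻¹ * (e' * w₀ * e'⁻¹) * e := by rw [hc]; group
              _ = e⁻¹ * (e * w₀ * e⁻¹) * e := by rw [hee']
              _ = w₀ := by group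
          exact (mul_inv_eq_iff_eq_mul.1 this).symm)
      have hcN : c ∈ normalizer (T : Set P) :=
        Subgroup.mul_mem _ (Subgroup.inv_mem _ (Subgroup.le_normalizer (mem_sup_left he))) he'N
      -- commutators of `c` with `E`
      let δ : P → P := fun f => c * f * c⁻¹ * f⁻¹
      have hδ : ∀ f ∈ E, δ f ∈ W := by
        intro f hf
        refine hTC _ (T.mul_mem ((Subgroup.mem_normalizer_iff.1 hcN f).1 (mem_sup_left hf))
          (T.inv_mem (mem_sup_left hf))) ?_
        have := Subgroup.mul_mem _ hcW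
          ((inferInstance : (Subgroup.centralizer (W : Set P)).Normal).conj_mem c⁻¹ (Subgroup.inv_mem _ hcW) f)
        simpa [δ, mul_assoc] using this
      have hsym : ∀ f ∈ E, ∀ h ∈ E, f * δ h * f⁻¹ * (δ h)⁻¹ = h * δ f * h⁻¹ * (δ f)⁻¹ := by
        intro f hf h hh
        have e1 : (δ f * f) * (δ h * h) = (δ h * h) * (δ f * f) := by
          simp only [δ, inv_mul_cancel_right]
          rw [show c * f * c⁻¹ * (c * h * c⁻¹) = c * (f * h) * c⁻¹ by group, elemAb_comm hE hf hh]
          group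
        have hA : f * δ h * f⁻¹ * (δ h)⁻¹ ∈ W := W.mul_mem (hWn.conj_mem _ (hδ h hh) f) (W.inv_mem (hδ h hh))
        have hB : h * δ f * h⁻¹ * (δ f)⁻¹ ∈ W := W.mul_mem (hWn.conj_mem _ (hδ f hf) h) (W.inv_mem (hδ f hf))
        have e2 : (f * δ h * f⁻¹ * (δ h)⁻¹) * (δ f * δ h) * (f * h)
            = (h * δ f * h⁻¹ * (δ f)⁻¹) * (δ f * δ h) * (f * h) := by
          calc (f * δ h * f⁻¹ * (δ h)⁻¹) * (δ f * δ h) * (f * h)
              = δ f * (f * δ h * f⁻¹ * (δ h)⁻¹) * δ h * (f * h) := by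
                rw [← mul_assoc (f * δ h * f⁻¹ * (δ h)⁻¹), elemAb_comm hW hA (hδ f hf)]
            _ = (δ f * f) * (δ h * h) := by group
            _ = (δ h * h) * (δ f * f) := e1
            _ = δ h * (h * δ f * h⁻¹ * (δ f)⁻¹) * δ f * (h * f) := by group
            _ = _ := by
              rw [elemAb_comm hW (hδ h hh) hB, elemAb_comm hE hf hh, elemAb_comm hW (hδ f hf) (hδ h hh)]
              group
        exact mul_right_cancel (mul_right_cancel e2)
      have hδV : ∀ f ∈ E, δ f ∈ V := by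
        intro f hf
        by_contra hfV
        set d := δ f with hd
        have hdW : d ∈ W := hδ f hf
        set r := f * d * f⁻¹ * d⁻¹ with hr
        have hrV : r ∈ V := hWV f d hdW
        -- the values of `h ↦ h d h⁻¹ d⁻¹` lie in `⟨r⟩`
        have hval : ∀ h ∈ E, h * d * h⁻¹ * d⁻¹ ∈ zpowers r := by
          intro h hh
          rw [← hsym f hf h hh]
          have hmem : δ h ∈ V ⊔ zpowers d := (hgenW d hdW hfV).symm ▸ hδ h hh
          obtain ⟨v, hv, y, ⟨i, rfl⟩, hvy⟩ := Solvable.exists_mul_of_mem_sup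
            (le_top.trans_eq (Subgroup.normalizer_eq_top_iff.2 hVn).symm) hmem
          refine ⟨i, ?_⟩
          show r ^ i = f * δ h * f⁻¹ * (δ h)⁻¹
          rw [hvy]
          have hfd : f * d ^ i * f⁻¹ = r ^ i * d ^ i := by
            rw [← conj_zpow, show f * d * f⁻¹ = r * d by rw [hr, inv_mul_cancel_right],
              (show Commute r d from elemAb_comm hW (hVW hrV) hdW).mul_zpow]
          calc r ^ i = (f * d ^ i * f⁻¹) * (d ^ i)⁻¹ := by rw [hfd, mul_inv_cancel_right]
            _ = (f * d ^ i * f⁻¹) * ((d ^ i)⁻¹ * v⁻¹) * v := by group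
            _ = v * ((f * d ^ i * f⁻¹) * ((d ^ i)⁻¹ * v⁻¹)) := by
              rw [elemAb_comm hW (hVW hv) (W.mul_mem (hWn.conj_mem _ (zpow_mem hdW i) f)
                (W.mul_mem (W.inv_mem (zpow_mem hdW i)) (W.inv_mem (hVW hv))))]
            _ = (v * f) * d ^ i * f⁻¹ * (v * d ^ i)⁻¹ := by group
            _ = _ := by rw [← hEV f hf v hv]; group
        let β : E →* V := MonoidHom.mk' (fun h => ⟨(h : P) * d * (h : P)⁻¹ * d⁻¹, hWV h d hdW⟩) fun a b => by
          refine Subtype.ext ?_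
          show (a * b : P) * d * (a * b : P)⁻¹ * d⁻¹ = a * d * (a : P)⁻¹ * d⁻¹ * (b * d * (b : P)⁻¹ * d⁻¹)
          rw [← hVc _ (hWV b d hdW) _ (hWV a d hdW)]
          calc (a * b : P) * d * (a * b : P)⁻¹ * d⁻¹
              = ((a : P) * (b * d * (b : P)⁻¹ * d⁻¹)) * (d * (a : P)⁻¹ * d⁻¹) := by group
            _ = ((b * d * (b : P)⁻¹ * d⁻¹) * (a : P)) * (d * (a : P)⁻¹ * d⁻¹) := by rw [hEV a a.2 _ (hWV b d hdW)]
            _ = _ := by group
        have hk : Nat.card β.ker ≤ 9 := by
          rw [← Subgroup.card_map_of_injective E.subtype_injective, ← show 3 ^ 2 = 9 from rfl, ← hV]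
          refine Subgroup.card_le_of_le ?_
          rintro _ ⟨k, hk, rfl⟩
          have h1 : (k : P) * d * (k : P)⁻¹ * d⁻¹ = 1 := congrArg Subtype.val (MonoidHom.mem_ker.1 hk)
          rw [← hEW]
          exact ⟨k.2, hCW k (hcomW d hdW hfV k (fun v hv => (hEV k k.2 v hv).symm)
            (mul_inv_eq_iff_eq_mul.1 (mul_inv_eq_one.1 h1)).symm) (hE.2 k k.2)⟩
        have hr3 : Nat.card β.range ≤ 3 := by
          refine le_trans ?_ (Nat.le_of_dvd (by norm_num) (orderOf_dvd_of_pow_eq_one (hW.2 r (hVW hrV))))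
          rw [← Nat.card_zpowers,
            Nat.card_congr (Subgroup.equivMapOfInjective β.range V.subtype V.subtype_injective).toEquiv]
          refine Subgroup.card_le_of_le ?_
          rintro _ ⟨_, ⟨h, rfl⟩, rfl⟩
          exact hval h h.2
        have h := Subgroup.card_mul_index β.ker
        rw [Subgroup.index_ker, hE81] at h
        nlinarith
      -- hence `c` has order dividing `3`
      have hde : δ e ∈ V := hδV e he
      have hc3 : c ^ 3 = 1 := by
        have h := mul_pow_three (a := e) (b := c) (k := δ e) ?_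
          ((hEV e he _ hde).symm) (Subgroup.mem_centralizer_iff.1 hcW _ (hVW hde))
        · rwa [show e * c = e' by rw [hc, mul_inv_cancel_left], he'3, hE.2 e he, hW.2 _ (hVW hde), one_mul, mul_one,
            eq_comm] at h
        · have h5 : Commute (e * c) (δ e) :=
            (show Commute e (δ e) from hEV e he _ hde).mul_left
              (show Commute (δ e) c from Subgroup.mem_centralizer_iff.1 hcW _ (hVW hde)).symm
          rw [h5.eq]
          show c * e = c * e * c⁻¹ * e⁻¹ * (e * c)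
          group
      rw [show e' = e * c by rw [hc, mul_inv_cancel_left]]
      exact T.mul_mem (mem_sup_left he) (mem_sup_right (hCW c hcW hc3))
    exact hle ⟨y, hy, rfl⟩
  -- `E` is the only elementary abelian subgroup of index `3` in `T`
  have hTcard : Nat.card T = 3 ^ 5 := by
    have h1 := Subgroup.card_mul_index (W.subgroupOf T)
    rw [Nat.card_congr (subgroupOfEquivOfLe (le_sup_right : W ≤ T)).toEquiv, hW27] at h1
    have h2 : W.relIndex T = W.relIndex E := by rw [hT, Subgroup.relIndex_sup_right]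
    have h3 := Subgroup.card_mul_index (W.subgroupOf E)
    rw [Nat.card_congr (((Subgroup.equivMapOfInjective (W.subgroupOf E) E.subtype E.subtype_injective).trans
      (MulEquiv.subgroupCongr (show (W.subgroupOf E).map E.subtype = V by
        rw [Subgroup.subgroupOf_map_subtype, inf_comm, hEW]))).toEquiv), hV, hE81] at h3
    have h4 : 27 * W.relIndex T = Nat.card T := h1
    have h5 : 3 ^ 2 * W.relIndex E = 3 ^ 4 := h3
    omega
  have hEn : E.Normal := by
    refine ⟨fun y hy g => ?_⟩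
    set E' := E.map (MulAut.conj g).toMonoidHom
    have hE'e : IsElementaryAbelian 3 E' := elemAb_map hE _
    have hE'c : Nat.card E' = 3 ^ 4 := by
      rw [← hE81]
      exact (Nat.card_congr (Subgroup.equivMapOfInjective E _ (MulAut.conj g).injective).toEquiv).symm
    have hE'T : E' ≤ T := by
      rintro _ ⟨e, he, rfl⟩
      exact hTn.conj_mem e (mem_sup_left he) g
    have heq : E' = E := by
      by_contra hne
      have hlt : E < E ⊔ E' := lt_of_le_of_ne le_sup_left fun h =>
        hne (Subgroup.eq_of_le_of_card_ge (le_sup_right.trans h.ge) (by rw [hE81, hE'c]))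
      have hTeq : E ⊔ E' = T := by
        refine Subgroup.eq_of_le_of_card_ge (sup_le le_sup_left hE'T) ?_
        have h := mul_card_le (hP.to_subgroup _) hlt
        rw [hE81] at h
        rw [hTcard]
        exact h
      have hK : 27 ≤ Nat.card ↥(E ⊓ E') := by
        have h1 := Subgroup.card_mul_index ((E ⊓ E').subgroupOf E)
        rw [Nat.card_congr (subgroupOfEquivOfLe (inf_le_left : E ⊓ E' ≤ E)).toEquiv, hE81] at h1
        have h2 : (E ⊓ E').relIndex E = E'.relIndex E := Subgroup.inf_relIndex_left E E'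
        have h3 := Subgroup.card_mul_index (E'.subgroupOf T)
        rw [Nat.card_congr (subgroupOfEquivOfLe hE'T).toEquiv, hE'c, hTcard] at h3
        have h3' : 3 ^ 4 * E'.relIndex T = 3 ^ 5 := h3
        have h4 : E'.relIndex E ≤ E'.relIndex T :=
          Subgroup.relIndex_le_of_le_right (le_sup_left : E ≤ T) (by
            intro h0; rw [h0] at h3'; norm_num at h3')
        have h1' : Nat.card ↥(E ⊓ E') * (E ⊓ E').relIndex E = 3 ^ 4 := h1
        rw [h2] at h1'
        nlinarith
      have hle : E ⊓ E' ≤ V := by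
        intro k hk
        rw [← hEW]
        refine ⟨hk.1, hCW k ?_ (hE.2 k hk.1)⟩
        have hTk : T ≤ Subgroup.centralizer {k} := hTeq ▸ sup_le
          (fun e he => Subgroup.mem_centralizer_singleton_iff.2 (elemAb_comm hE he hk.1))
          (fun e he => Subgroup.mem_centralizer_singleton_iff.2 (elemAb_comm hE'e he hk.2))
        exact Subgroup.mem_centralizer_iff.2 fun w hw =>
          Subgroup.mem_centralizer_singleton_iff.1 (hTk (mem_sup_right hw))
      have := hK.trans (Subgroup.card_le_of_le hle)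
      rw [hV] at this
      norm_num at this
    exact heq ▸ ⟨y, hy, rfl⟩
  have := hJ E hE (hxN E hEn)
  rw [hE81] at this
  norm_num at this

end CfsgLib.RankGraph
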